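import Mathlib
import Cfsg.Agent.TcData.Fi24.I306936.Tab

set_option autoImplicit false
set_option Elab.async false
set_option maxRecDepth 100000
set_option linter.all false

namespace Cfsg.Agent.TcData.Fi24.I306936

open Cfsg.Spor Cfsg.Agent.Lib.TcFacts Cfsg.Agent.Lib.TcBits Cfsg.Agent.Lib.TcPres Cfsg.Spor.Fi24 Cfsg.Agent.TcData.Fi24

theorem b0 : Block F al 0 128 127 :=
  block_of_check (k := 7) rfl (by decide +kernel)

theorem b1 : Block F al 128 256 120 :=
  block_of_check (k := 7) rfl (by decide +kernel)

theorem b2 : Block F al 256 384 106 :=
  block_of_check (k := 7) rfl (by decide +kernel)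

theorem b3 : Block F al 384 512 92 :=
  block_of_check (k := 7) rfl (by decide +kernel)

theorem b4 : Block F al 512 640 124 :=
  block_of_check (k := 7) rfl (by decide +kernel)

theorem b5 : Block F al 640 768 124 :=
  block_of_check (k := 7) rfl (by decide +kernel)

theorem b6 : Block F al 768 896 120 :=
  block_of_check (k := 7) rfl (by decide +kernel)

theorem b7 : Block F al 896 1024 121 :=
  block_of_check (k := 7) rfl (by decide +kernel)

theorem b8 : Block F al 1024 1152 113 :=
  block_of_check (k := 7) rfl (by decide +kernel)

theorem b9 : Block F al 1152 1280 115 :=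
  block_of_check (k := 7) rfl (by decide +kernel)

theorem b10 : Block F al 1280 1408 118 :=
  block_of_check (k := 7) rfl (by decide +kernel)

theorem b11 : Block F al 1408 1536 109 :=
  block_of_check (k := 7) rfl (by decide +kernel)

theorem b12 : Block F al 1536 1664 122 :=
  block_of_check (k := 7) rfl (by decide +kernel)

theorem b13 : Block F al 1664 1792 108 :=
  block_of_check (k := 7) rfl (by decide +kernel)

theorem b14 : Block F al 1792 1920 114 :=
  block_of_check (k := 7) rfl (by decide +kernel)

theorem b15 : Block F al 1920 2048 93 :=
  block_of_check (k := 7) rfl (by decide +kernel)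

theorem b16 : Block F al 2048 2176 120 :=
  block_of_check (k := 7) rfl (by decide +kernel)

theorem b17 : Block F al 2176 2304 123 :=
  block_of_check (k := 7) rfl (by decide +kernel)

theorem b18 : Block F al 2304 2432 93 :=
  block_of_check (k := 7) rfl (by decide +kernel)

theorem b19 : Block F al 2432 2560 115 :=
  block_of_check (k := 7) rfl (by decide +kernel)

theorem b20 : Block F al 2560 2688 96 :=
  block_of_check (k := 7) rfl (by decide +kernel)

theorem b21 : Block F al 2688 2816 89 :=
  block_of_check (k := 7) rfl (by decide +kernel)

theorem b22 : Block F al 2816 2944 127 :=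
  block_of_check (k := 7) rfl (by decide +kernel)

theorem b23 : Block F al 2944 3072 114 :=
  block_of_check (k := 7) rfl (by decide +kernel)

theorem b24 : Block F al 3072 3200 118 :=
  block_of_check (k := 7) rfl (by decide +kernel)

theorem b25 : Block F al 3200 3328 77 :=
  block_of_check (k := 7) rfl (by decide +kernel)

theorem b26 : Block F al 3328 3456 120 :=
  block_of_check (k := 7) rfl (by decide +kernel)

theorem b27 : Block F al 3456 3584 103 :=
  block_of_check (k := 7) rfl (by decide +kernel)

theorem b28 : Block F al 3584 3712 81 :=
  block_of_check (k := 7) rfl (by decide +kernel)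

theorem b29 : Block F al 3712 3840 62 :=
  block_of_check (k := 7) rfl (by decide +kernel)

theorem b30 : Block F al 3840 3968 125 :=
  block_of_check (k := 7) rfl (by decide +kernel)

theorem b31 : Block F al 3968 4096 126 :=
  block_of_check (k := 7) rfl (by decide +kernel)

theorem b32 : Block F al 4096 4224 100 :=
  block_of_check (k := 7) rfl (by decide +kernel)

theorem b33 : Block F al 4224 4352 119 :=
  block_of_check (k := 7) rfl (by decide +kernel)

theorem b34 : Block F al 4352 4480 115 :=
  block_of_check (k := 7) rfl (by decide +kernel)

theorem b35 : Block F al 4480 4608 61 :=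
  block_of_check (k := 7) rfl (by decide +kernel)

theorem b36 : Block F al 4608 4736 96 :=
  block_of_check (k := 7) rfl (by decide +kernel)

theorem b37 : Block F al 4736 4864 127 :=
  block_of_check (k := 7) rfl (by decide +kernel)

theorem b38 : Block F al 4864 4992 81 :=
  block_of_check (k := 7) rfl (by decide +kernel)

theorem b39 : Block F al 4992 5120 117 :=
  block_of_check (k := 7) rfl (by decide +kernel)

theorem b40 : Block F al 5120 5248 52 :=
  block_of_check (k := 7) rfl (by decide +kernel)

theorem b41 : Block F al 5248 5376 47 :=
  block_of_check (k := 7) rfl (by decide +kernel)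

theorem b42 : Block F al 5376 5504 105 :=
  block_of_check (k := 7) rfl (by decide +kernel)

theorem b43 : Block F al 5504 5632 110 :=
  block_of_check (k := 7) rfl (by decide +kernel)

theorem b44 : Block F al 5632 5760 120 :=
  block_of_check (k := 7) rfl (by decide +kernel)

theorem b45 : Block F al 5760 5888 76 :=
  block_of_check (k := 7) rfl (by decide +kernel)

theorem b46 : Block F al 5888 6016 114 :=
  block_of_check (k := 7) rfl (by decide +kernel)

theorem b47 : Block F al 6016 6144 104 :=
  block_of_check (k := 7) rfl (by decide +kernel)

theorem b48 : Block F al 6144 6272 110 :=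
  block_of_check (k := 7) rfl (by decide +kernel)

theorem b49 : Block F al 6272 6400 77 :=
  block_of_check (k := 7) rfl (by decide +kernel)

theorem b50 : Block F al 6400 6528 35 :=
  block_of_check (k := 7) rfl (by decide +kernel)

theorem b51 : Block F al 6528 6656 90 :=
  block_of_check (k := 7) rfl (by decide +kernel)

theorem b52 : Block F al 6656 6784 124 :=
  block_of_check (k := 7) rfl (by decide +kernel)

end Cfsg.Agent.TcData.Fi24.I306936
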