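import Mathlib
import Cfsg.Agent.TcData.Fi24.I306936.Tab

set_option autoImplicit false
set_option Elab.async false
set_option maxRecDepth 100000
set_option linter.all false

namespace Cfsg.Agent.TcData.Fi24.I306936

open Cfsg.Spor Cfsg.Agent.Lib.TcFacts Cfsg.Agent.Lib.TcBits Cfsg.Agent.Lib.TcPres Cfsg.Spor.Fi24 Cfsg.Agent.TcData.Fi24

theorem b53 : Block F al 6784 6912 128 :=
  block_of_check (k := 7) rfl (by decide +kernel)

theorem b54 : Block F al 6912 7040 49 :=
  block_of_check (k := 7) rfl (by decide +kernel)

theorem b55 : Block F al 7040 7168 121 :=
  block_of_check (k := 7) rfl (by decide +kernel)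

theorem b56 : Block F al 7168 7296 107 :=
  block_of_check (k := 7) rfl (by decide +kernel)

theorem b57 : Block F al 7296 7424 24 :=
  block_of_check (k := 7) rfl (by decide +kernel)

theorem b58 : Block F al 7424 7552 37 :=
  block_of_check (k := 7) rfl (by decide +kernel)

theorem b59 : Block F al 7552 7680 25 :=
  block_of_check (k := 7) rfl (by decide +kernel)

theorem b60 : Block F al 7680 7808 101 :=
  block_of_check (k := 7) rfl (by decide +kernel)

theorem b61 : Block F al 7808 7936 93 :=
  block_of_check (k := 7) rfl (by decide +kernel)

theorem b62 : Block F al 7936 8064 121 :=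
  block_of_check (k := 7) rfl (by decide +kernel)

theorem b63 : Block F al 8064 8192 105 :=
  block_of_check (k := 7) rfl (by decide +kernel)

theorem b64 : Block F al 8192 8320 51 :=
  block_of_check (k := 7) rfl (by decide +kernel)

theorem b65 : Block F al 8320 8448 92 :=
  block_of_check (k := 7) rfl (by decide +kernel)

theorem b66 : Block F al 8448 8576 121 :=
  block_of_check (k := 7) rfl (by decide +kernel)

theorem b67 : Block F al 8576 8704 116 :=
  block_of_check (k := 7) rfl (by decide +kernel)

theorem b68 : Block F al 8704 8832 96 :=
  block_of_check (k := 7) rfl (by decide +kernel)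

theorem b69 : Block F al 8832 8960 96 :=
  block_of_check (k := 7) rfl (by decide +kernel)

theorem b70 : Block F al 8960 9088 60 :=
  block_of_check (k := 7) rfl (by decide +kernel)

theorem b71 : Block F al 9088 9216 21 :=
  block_of_check (k := 7) rfl (by decide +kernel)

theorem b72 : Block F al 9216 9344 86 :=
  block_of_check (k := 7) rfl (by decide +kernel)

theorem b73 : Block F al 9344 9472 121 :=
  block_of_check (k := 7) rfl (by decide +kernel)

theorem b74 : Block F al 9472 9600 116 :=
  block_of_check (k := 7) rfl (by decide +kernel)

theorem b75 : Block F al 9600 9728 127 :=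
  block_of_check (k := 7) rfl (by decide +kernel)

theorem b76 : Block F al 9728 9856 80 :=
  block_of_check (k := 7) rfl (by decide +kernel)

theorem b77 : Block F al 9856 9984 64 :=
  block_of_check (k := 7) rfl (by decide +kernel)

theorem b78 : Block F al 9984 10112 117 :=
  block_of_check (k := 7) rfl (by decide +kernel)

theorem b79 : Block F al 10112 10240 87 :=
  block_of_check (k := 7) rfl (by decide +kernel)

theorem b80 : Block F al 10240 10368 75 :=
  block_of_check (k := 7) rfl (by decide +kernel)

theorem b81 : Block F al 10368 10496 19 :=
  block_of_check (k := 7) rfl (by decide +kernel)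

theorem b82 : Block F al 10496 10624 15 :=
  block_of_check (k := 7) rfl (by decide +kernel)

theorem b83 : Block F al 10624 10752 54 :=
  block_of_check (k := 7) rfl (by decide +kernel)

theorem b84 : Block F al 10752 10880 65 :=
  block_of_check (k := 7) rfl (by decide +kernel)

theorem b85 : Block F al 10880 11008 91 :=
  block_of_check (k := 7) rfl (by decide +kernel)

theorem b86 : Block F al 11008 11136 111 :=
  block_of_check (k := 7) rfl (by decide +kernel)

theorem b87 : Block F al 11136 11264 111 :=
  block_of_check (k := 7) rfl (by decide +kernel)

theorem b88 : Block F al 11264 11392 92 :=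
  block_of_check (k := 7) rfl (by decide +kernel)

theorem b89 : Block F al 11392 11520 49 :=
  block_of_check (k := 7) rfl (by decide +kernel)

theorem b90 : Block F al 11520 11648 127 :=
  block_of_check (k := 7) rfl (by decide +kernel)

theorem b91 : Block F al 11648 11776 128 :=
  block_of_check (k := 7) rfl (by decide +kernel)

theorem b92 : Block F al 11776 11904 117 :=
  block_of_check (k := 7) rfl (by decide +kernel)

theorem b93 : Block F al 11904 12032 120 :=
  block_of_check (k := 7) rfl (by decide +kernel)

theorem b94 : Block F al 12032 12160 124 :=
  block_of_check (k := 7) rfl (by decide +kernel)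

theorem b95 : Block F al 12160 12288 102 :=
  block_of_check (k := 7) rfl (by decide +kernel)

theorem b96 : Block F al 12288 12416 110 :=
  block_of_check (k := 7) rfl (by decide +kernel)

theorem b97 : Block F al 12416 12544 126 :=
  block_of_check (k := 7) rfl (by decide +kernel)

theorem b98 : Block F al 12544 12672 127 :=
  block_of_check (k := 7) rfl (by decide +kernel)

theorem b99 : Block F al 12672 12800 119 :=
  block_of_check (k := 7) rfl (by decide +kernel)

theorem b100 : Block F al 12800 12928 119 :=
  block_of_check (k := 7) rfl (by decide +kernel)

theorem b101 : Block F al 12928 13056 124 :=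
  block_of_check (k := 7) rfl (by decide +kernel)

theorem b102 : Block F al 13056 13184 111 :=
  block_of_check (k := 7) rfl (by decide +kernel)

theorem b103 : Block F al 13184 13312 125 :=
  block_of_check (k := 7) rfl (by decide +kernel)

theorem b104 : Block F al 13312 13440 105 :=
  block_of_check (k := 7) rfl (by decide +kernel)

theorem b105 : Block F al 13440 13568 90 :=
  block_of_check (k := 7) rfl (by decide +kernel)

theorem b106 : Block F al 13568 13696 74 :=
  block_of_check (k := 7) rfl (by decide +kernel)

theorem b107 : Block F al 13696 13824 76 :=
  block_of_check (k := 7) rfl (by decide +kernel)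

theorem b108 : Block F al 13824 13952 87 :=
  block_of_check (k := 7) rfl (by decide +kernel)

theorem b109 : Block F al 13952 14080 126 :=
  block_of_check (k := 7) rfl (by decide +kernel)

end Cfsg.Agent.TcData.Fi24.I306936
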