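import Mathlib
import Cfsg.Agent.TcData.Fi24.I306936.Tab

set_option autoImplicit false
set_option Elab.async false
set_option maxRecDepth 100000
set_option linter.all false

namespace Cfsg.Agent.TcData.Fi24.I306936

open Cfsg.Spor Cfsg.Agent.Lib.TcFacts Cfsg.Agent.Lib.TcBits Cfsg.Agent.Lib.TcPres Cfsg.Spor.Fi24 Cfsg.Agent.TcData.Fi24

theorem b590 : Block F al 75520 75648 110 :=
  block_of_check (k := 7) rfl (by decide +kernel)

theorem b591 : Block F al 75648 75776 70 :=
  block_of_check (k := 7) rfl (by decide +kernel)

theorem b592 : Block F al 75776 75904 101 :=
  block_of_check (k := 7) rfl (by decide +kernel)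

theorem b593 : Block F al 75904 76032 80 :=
  block_of_check (k := 7) rfl (by decide +kernel)

theorem b594 : Block F al 76032 76160 39 :=
  block_of_check (k := 7) rfl (by decide +kernel)

theorem b595 : Block F al 76160 76288 49 :=
  block_of_check (k := 7) rfl (by decide +kernel)

theorem b596 : Block F al 76288 76416 0 :=
  block_of_check (k := 7) rfl (by decide +kernel)

theorem b597 : Block F al 76416 76544 0 :=
  block_of_check (k := 7) rfl (by decide +kernel)

theorem b598 : Block F al 76544 76672 0 :=
  block_of_check (k := 7) rfl (by decide +kernel)

theorem b599 : Block F al 76672 76800 15 :=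
  block_of_check (k := 7) rfl (by decide +kernel)

theorem b600 : Block F al 76800 76928 30 :=
  block_of_check (k := 7) rfl (by decide +kernel)

theorem b601 : Block F al 76928 77056 5 :=
  block_of_check (k := 7) rfl (by decide +kernel)

theorem b602 : Block F al 77056 77184 35 :=
  block_of_check (k := 7) rfl (by decide +kernel)

theorem b603 : Block F al 77184 77312 20 :=
  block_of_check (k := 7) rfl (by decide +kernel)

theorem b604 : Block F al 77312 77440 18 :=
  block_of_check (k := 7) rfl (by decide +kernel)

theorem b605 : Block F al 77440 77568 1 :=
  block_of_check (k := 7) rfl (by decide +kernel)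

theorem b606 : Block F al 77568 77696 1 :=
  block_of_check (k := 7) rfl (by decide +kernel)

theorem b607 : Block F al 77696 77824 8 :=
  block_of_check (k := 7) rfl (by decide +kernel)

theorem b608 : Block F al 77824 77952 10 :=
  block_of_check (k := 7) rfl (by decide +kernel)

theorem b609 : Block F al 77952 78080 2 :=
  block_of_check (k := 7) rfl (by decide +kernel)

theorem b610 : Block F al 78080 78208 0 :=
  block_of_check (k := 7) rfl (by decide +kernel)

theorem b611 : Block F al 78208 78336 2 :=
  block_of_check (k := 7) rfl (by decide +kernel)

theorem b612 : Block F al 78336 78464 0 :=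
  block_of_check (k := 7) rfl (by decide +kernel)

theorem b613 : Block F al 78464 78592 0 :=
  block_of_check (k := 7) rfl (by decide +kernel)

theorem b614 : Block F al 78592 78720 0 :=
  block_of_check (k := 7) rfl (by decide +kernel)

theorem b615 : Block F al 78720 78848 0 :=
  block_of_check (k := 7) rfl (by decide +kernel)

theorem b616 : Block F al 78848 78976 0 :=
  block_of_check (k := 7) rfl (by decide +kernel)

theorem b617 : Block F al 78976 79104 0 :=
  block_of_check (k := 7) rfl (by decide +kernel)

theorem b618 : Block F al 79104 79232 42 :=
  block_of_check (k := 7) rfl (by decide +kernel)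

theorem b619 : Block F al 79232 79360 80 :=
  block_of_check (k := 7) rfl (by decide +kernel)

theorem b620 : Block F al 79360 79488 116 :=
  block_of_check (k := 7) rfl (by decide +kernel)

theorem b621 : Block F al 79488 79616 106 :=
  block_of_check (k := 7) rfl (by decide +kernel)

theorem b622 : Block F al 79616 79744 52 :=
  block_of_check (k := 7) rfl (by decide +kernel)

theorem b623 : Block F al 79744 79872 61 :=
  block_of_check (k := 7) rfl (by decide +kernel)

theorem b624 : Block F al 79872 80000 37 :=
  block_of_check (k := 7) rfl (by decide +kernel)

theorem b625 : Block F al 80000 80128 81 :=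
  block_of_check (k := 7) rfl (by decide +kernel)

theorem b626 : Block F al 80128 80256 85 :=
  block_of_check (k := 7) rfl (by decide +kernel)

theorem b627 : Block F al 80256 80384 84 :=
  block_of_check (k := 7) rfl (by decide +kernel)

theorem b628 : Block F al 80384 80512 91 :=
  block_of_check (k := 7) rfl (by decide +kernel)

theorem b629 : Block F al 80512 80640 58 :=
  block_of_check (k := 7) rfl (by decide +kernel)

theorem b630 : Block F al 80640 80768 67 :=
  block_of_check (k := 7) rfl (by decide +kernel)

theorem b631 : Block F al 80768 80896 69 :=
  block_of_check (k := 7) rfl (by decide +kernel)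

theorem b632 : Block F al 80896 81024 18 :=
  block_of_check (k := 7) rfl (by decide +kernel)

theorem b633 : Block F al 81024 81152 29 :=
  block_of_check (k := 7) rfl (by decide +kernel)

theorem b634 : Block F al 81152 81280 4 :=
  block_of_check (k := 7) rfl (by decide +kernel)

theorem b635 : Block F al 81280 81408 30 :=
  block_of_check (k := 7) rfl (by decide +kernel)

theorem b636 : Block F al 81408 81536 0 :=
  block_of_check (k := 7) rfl (by decide +kernel)

theorem b637 : Block F al 81536 81664 1 :=
  block_of_check (k := 7) rfl (by decide +kernel)

theorem b638 : Block F al 81664 81792 15 :=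
  block_of_check (k := 7) rfl (by decide +kernel)

theorem b639 : Block F al 81792 81920 15 :=
  block_of_check (k := 7) rfl (by decide +kernel)

theorem b640 : Block F al 81920 82048 19 :=
  block_of_check (k := 7) rfl (by decide +kernel)

theorem b641 : Block F al 82048 82176 16 :=
  block_of_check (k := 7) rfl (by decide +kernel)

theorem b642 : Block F al 82176 82304 17 :=
  block_of_check (k := 7) rfl (by decide +kernel)

theorem b643 : Block F al 82304 82432 3 :=
  block_of_check (k := 7) rfl (by decide +kernel)

theorem b644 : Block F al 82432 82560 1 :=
  block_of_check (k := 7) rfl (by decide +kernel)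

theorem b645 : Block F al 82560 82688 1 :=
  block_of_check (k := 7) rfl (by decide +kernel)

theorem b646 : Block F al 82688 82816 62 :=
  block_of_check (k := 7) rfl (by decide +kernel)

theorem b647 : Block F al 82816 82944 44 :=
  block_of_check (k := 7) rfl (by decide +kernel)

theorem b648 : Block F al 82944 83072 18 :=
  block_of_check (k := 7) rfl (by decide +kernel)

theorem b649 : Block F al 83072 83200 45 :=
  block_of_check (k := 7) rfl (by decide +kernel)

theorem b650 : Block F al 83200 83328 36 :=
  block_of_check (k := 7) rfl (by decide +kernel)

theorem b651 : Block F al 83328 83456 11 :=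
  block_of_check (k := 7) rfl (by decide +kernel)

theorem b652 : Block F al 83456 83584 10 :=
  block_of_check (k := 7) rfl (by decide +kernel)

theorem b653 : Block F al 83584 83712 0 :=
  block_of_check (k := 7) rfl (by decide +kernel)

theorem b654 : Block F al 83712 83840 0 :=
  block_of_check (k := 7) rfl (by decide +kernel)

theorem b655 : Block F al 83840 83968 0 :=
  block_of_check (k := 7) rfl (by decide +kernel)

theorem b656 : Block F al 83968 84096 2 :=
  block_of_check (k := 7) rfl (by decide +kernel)

theorem b657 : Block F al 84096 84224 0 :=
  block_of_check (k := 7) rfl (by decide +kernel)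

theorem b658 : Block F al 84224 84352 86 :=
  block_of_check (k := 7) rfl (by decide +kernel)

theorem b659 : Block F al 84352 84480 126 :=
  block_of_check (k := 7) rfl (by decide +kernel)

theorem b660 : Block F al 84480 84608 123 :=
  block_of_check (k := 7) rfl (by decide +kernel)

theorem b661 : Block F al 84608 84736 119 :=
  block_of_check (k := 7) rfl (by decide +kernel)

theorem b662 : Block F al 84736 84864 82 :=
  block_of_check (k := 7) rfl (by decide +kernel)

theorem b663 : Block F al 84864 84992 72 :=
  block_of_check (k := 7) rfl (by decide +kernel)

end Cfsg.Agent.TcData.Fi24.I306936
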