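import Mathlib
import Cfsg.Agent.TcData.Fi24.I306936.Tab

set_option autoImplicit false
set_option Elab.async false
set_option maxRecDepth 100000
set_option linter.all false

namespace Cfsg.Agent.TcData.Fi24.I306936

open Cfsg.Spor Cfsg.Agent.Lib.TcFacts Cfsg.Agent.Lib.TcBits Cfsg.Agent.Lib.TcPres Cfsg.Spor.Fi24 Cfsg.Agent.TcData.Fi24

theorem b735 : Block F al 94080 94208 73 :=
  block_of_check (k := 7) rfl (by decide +kernel)

theorem b736 : Block F al 94208 94336 128 :=
  block_of_check (k := 7) rfl (by decide +kernel)

theorem b737 : Block F al 94336 94464 127 :=
  block_of_check (k := 7) rfl (by decide +kernel)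

theorem b738 : Block F al 94464 94592 113 :=
  block_of_check (k := 7) rfl (by decide +kernel)

theorem b739 : Block F al 94592 94720 115 :=
  block_of_check (k := 7) rfl (by decide +kernel)

theorem b740 : Block F al 94720 94848 64 :=
  block_of_check (k := 7) rfl (by decide +kernel)

theorem b741 : Block F al 94848 94976 35 :=
  block_of_check (k := 7) rfl (by decide +kernel)

theorem b742 : Block F al 94976 95104 54 :=
  block_of_check (k := 7) rfl (by decide +kernel)

theorem b743 : Block F al 95104 95232 86 :=
  block_of_check (k := 7) rfl (by decide +kernel)

theorem b744 : Block F al 95232 95360 67 :=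
  block_of_check (k := 7) rfl (by decide +kernel)

theorem b745 : Block F al 95360 95488 127 :=
  block_of_check (k := 7) rfl (by decide +kernel)

theorem b746 : Block F al 95488 95616 125 :=
  block_of_check (k := 7) rfl (by decide +kernel)

theorem b747 : Block F al 95616 95744 126 :=
  block_of_check (k := 7) rfl (by decide +kernel)

theorem b748 : Block F al 95744 95872 127 :=
  block_of_check (k := 7) rfl (by decide +kernel)

theorem b749 : Block F al 95872 96000 57 :=
  block_of_check (k := 7) rfl (by decide +kernel)

theorem b750 : Block F al 96000 96128 62 :=
  block_of_check (k := 7) rfl (by decide +kernel)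

theorem b751 : Block F al 96128 96256 49 :=
  block_of_check (k := 7) rfl (by decide +kernel)

theorem b752 : Block F al 96256 96384 87 :=
  block_of_check (k := 7) rfl (by decide +kernel)

theorem b753 : Block F al 96384 96512 126 :=
  block_of_check (k := 7) rfl (by decide +kernel)

theorem b754 : Block F al 96512 96640 73 :=
  block_of_check (k := 7) rfl (by decide +kernel)

theorem b755 : Block F al 96640 96768 56 :=
  block_of_check (k := 7) rfl (by decide +kernel)

theorem b756 : Block F al 96768 96896 98 :=
  block_of_check (k := 7) rfl (by decide +kernel)

theorem b757 : Block F al 96896 97024 124 :=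
  block_of_check (k := 7) rfl (by decide +kernel)

theorem b758 : Block F al 97024 97152 125 :=
  block_of_check (k := 7) rfl (by decide +kernel)

theorem b759 : Block F al 97152 97280 125 :=
  block_of_check (k := 7) rfl (by decide +kernel)

theorem b760 : Block F al 97280 97408 112 :=
  block_of_check (k := 7) rfl (by decide +kernel)

theorem b761 : Block F al 97408 97536 122 :=
  block_of_check (k := 7) rfl (by decide +kernel)

theorem b762 : Block F al 97536 97664 121 :=
  block_of_check (k := 7) rfl (by decide +kernel)

theorem b763 : Block F al 97664 97792 111 :=
  block_of_check (k := 7) rfl (by decide +kernel)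

theorem b764 : Block F al 97792 97920 97 :=
  block_of_check (k := 7) rfl (by decide +kernel)

theorem b765 : Block F al 97920 98048 114 :=
  block_of_check (k := 7) rfl (by decide +kernel)

theorem b766 : Block F al 98048 98176 119 :=
  block_of_check (k := 7) rfl (by decide +kernel)

theorem b767 : Block F al 98176 98304 99 :=
  block_of_check (k := 7) rfl (by decide +kernel)

theorem b768 : Block F al 98304 98432 59 :=
  block_of_check (k := 7) rfl (by decide +kernel)

theorem b769 : Block F al 98432 98560 96 :=
  block_of_check (k := 7) rfl (by decide +kernel)

theorem b770 : Block F al 98560 98688 120 :=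
  block_of_check (k := 7) rfl (by decide +kernel)

theorem b771 : Block F al 98688 98816 36 :=
  block_of_check (k := 7) rfl (by decide +kernel)

theorem b772 : Block F al 98816 98944 90 :=
  block_of_check (k := 7) rfl (by decide +kernel)

theorem b773 : Block F al 98944 99072 97 :=
  block_of_check (k := 7) rfl (by decide +kernel)

theorem b774 : Block F al 99072 99200 25 :=
  block_of_check (k := 7) rfl (by decide +kernel)

theorem b775 : Block F al 99200 99328 0 :=
  block_of_check (k := 7) rfl (by decide +kernel)

theorem b776 : Block F al 99328 99456 12 :=
  block_of_check (k := 7) rfl (by decide +kernel)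

theorem b777 : Block F al 99456 99584 14 :=
  block_of_check (k := 7) rfl (by decide +kernel)

theorem b778 : Block F al 99584 99712 1 :=
  block_of_check (k := 7) rfl (by decide +kernel)

theorem b779 : Block F al 99712 99840 0 :=
  block_of_check (k := 7) rfl (by decide +kernel)

theorem b780 : Block F al 99840 99968 30 :=
  block_of_check (k := 7) rfl (by decide +kernel)

theorem b781 : Block F al 99968 100096 51 :=
  block_of_check (k := 7) rfl (by decide +kernel)

theorem b782 : Block F al 100096 100224 85 :=
  block_of_check (k := 7) rfl (by decide +kernel)

theorem b783 : Block F al 100224 100352 21 :=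
  block_of_check (k := 7) rfl (by decide +kernel)

theorem b784 : Block F al 100352 100480 0 :=
  block_of_check (k := 7) rfl (by decide +kernel)

theorem b785 : Block F al 100480 100608 0 :=
  block_of_check (k := 7) rfl (by decide +kernel)

theorem b786 : Block F al 100608 100736 11 :=
  block_of_check (k := 7) rfl (by decide +kernel)

theorem b787 : Block F al 100736 100864 8 :=
  block_of_check (k := 7) rfl (by decide +kernel)

theorem b788 : Block F al 100864 100992 51 :=
  block_of_check (k := 7) rfl (by decide +kernel)

theorem b789 : Block F al 100992 101120 45 :=
  block_of_check (k := 7) rfl (by decide +kernel)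

theorem b790 : Block F al 101120 101248 44 :=
  block_of_check (k := 7) rfl (by decide +kernel)

theorem b791 : Block F al 101248 101376 67 :=
  block_of_check (k := 7) rfl (by decide +kernel)

theorem b792 : Block F al 101376 101504 32 :=
  block_of_check (k := 7) rfl (by decide +kernel)

theorem b793 : Block F al 101504 101632 74 :=
  block_of_check (k := 7) rfl (by decide +kernel)

theorem b794 : Block F al 101632 101760 60 :=
  block_of_check (k := 7) rfl (by decide +kernel)

theorem b795 : Block F al 101760 101888 32 :=
  block_of_check (k := 7) rfl (by decide +kernel)

theorem b796 : Block F al 101888 102016 14 :=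
  block_of_check (k := 7) rfl (by decide +kernel)

theorem b797 : Block F al 102016 102144 36 :=
  block_of_check (k := 7) rfl (by decide +kernel)

theorem b798 : Block F al 102144 102272 63 :=
  block_of_check (k := 7) rfl (by decide +kernel)

theorem b799 : Block F al 102272 102400 51 :=
  block_of_check (k := 7) rfl (by decide +kernel)

theorem b800 : Block F al 102400 102528 31 :=
  block_of_check (k := 7) rfl (by decide +kernel)

theorem b801 : Block F al 102528 102656 9 :=
  block_of_check (k := 7) rfl (by decide +kernel)

theorem b802 : Block F al 102656 102784 28 :=
  block_of_check (k := 7) rfl (by decide +kernel)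

theorem b803 : Block F al 102784 102912 20 :=
  block_of_check (k := 7) rfl (by decide +kernel)

theorem b804 : Block F al 102912 103040 7 :=
  block_of_check (k := 7) rfl (by decide +kernel)

end Cfsg.Agent.TcData.Fi24.I306936
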