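import Mathlib
import Cfsg.Agent.TcData.Fi24.I306936.Tab

set_option autoImplicit false
set_option Elab.async false
set_option maxRecDepth 100000
set_option linter.all false

namespace Cfsg.Agent.TcData.Fi24.I306936

open Cfsg.Spor Cfsg.Agent.Lib.TcFacts Cfsg.Agent.Lib.TcBits Cfsg.Agent.Lib.TcPres Cfsg.Spor.Fi24 Cfsg.Agent.TcData.Fi24

theorem b805 : Block F al 103040 103168 16 :=
  block_of_check (k := 7) rfl (by decide +kernel)

theorem b806 : Block F al 103168 103296 0 :=
  block_of_check (k := 7) rfl (by decide +kernel)

theorem b807 : Block F al 103296 103424 1 :=
  block_of_check (k := 7) rfl (by decide +kernel)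

theorem b808 : Block F al 103424 103552 0 :=
  block_of_check (k := 7) rfl (by decide +kernel)

theorem b809 : Block F al 103552 103680 38 :=
  block_of_check (k := 7) rfl (by decide +kernel)

theorem b810 : Block F al 103680 103808 37 :=
  block_of_check (k := 7) rfl (by decide +kernel)

theorem b811 : Block F al 103808 103936 105 :=
  block_of_check (k := 7) rfl (by decide +kernel)

theorem b812 : Block F al 103936 104064 86 :=
  block_of_check (k := 7) rfl (by decide +kernel)

theorem b813 : Block F al 104064 104192 12 :=
  block_of_check (k := 7) rfl (by decide +kernel)

theorem b814 : Block F al 104192 104320 89 :=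
  block_of_check (k := 7) rfl (by decide +kernel)

theorem b815 : Block F al 104320 104448 114 :=
  block_of_check (k := 7) rfl (by decide +kernel)

theorem b816 : Block F al 104448 104576 68 :=
  block_of_check (k := 7) rfl (by decide +kernel)

theorem b817 : Block F al 104576 104704 18 :=
  block_of_check (k := 7) rfl (by decide +kernel)

theorem b818 : Block F al 104704 104832 31 :=
  block_of_check (k := 7) rfl (by decide +kernel)

theorem b819 : Block F al 104832 104960 90 :=
  block_of_check (k := 7) rfl (by decide +kernel)

theorem b820 : Block F al 104960 105088 97 :=
  block_of_check (k := 7) rfl (by decide +kernel)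

theorem b821 : Block F al 105088 105216 84 :=
  block_of_check (k := 7) rfl (by decide +kernel)

theorem b822 : Block F al 105216 105344 44 :=
  block_of_check (k := 7) rfl (by decide +kernel)

theorem b823 : Block F al 105344 105472 82 :=
  block_of_check (k := 7) rfl (by decide +kernel)

theorem b824 : Block F al 105472 105600 93 :=
  block_of_check (k := 7) rfl (by decide +kernel)

theorem b825 : Block F al 105600 105728 29 :=
  block_of_check (k := 7) rfl (by decide +kernel)

theorem b826 : Block F al 105728 105856 34 :=
  block_of_check (k := 7) rfl (by decide +kernel)

theorem b827 : Block F al 105856 105984 42 :=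
  block_of_check (k := 7) rfl (by decide +kernel)

theorem b828 : Block F al 105984 106112 0 :=
  block_of_check (k := 7) rfl (by decide +kernel)

theorem b829 : Block F al 106112 106240 0 :=
  block_of_check (k := 7) rfl (by decide +kernel)

theorem b830 : Block F al 106240 106368 0 :=
  block_of_check (k := 7) rfl (by decide +kernel)

theorem b831 : Block F al 106368 106496 0 :=
  block_of_check (k := 7) rfl (by decide +kernel)

theorem b832 : Block F al 106496 106624 6 :=
  block_of_check (k := 7) rfl (by decide +kernel)

theorem b833 : Block F al 106624 106752 22 :=
  block_of_check (k := 7) rfl (by decide +kernel)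

theorem b834 : Block F al 106752 106880 2 :=
  block_of_check (k := 7) rfl (by decide +kernel)

theorem b835 : Block F al 106880 107008 13 :=
  block_of_check (k := 7) rfl (by decide +kernel)

theorem b836 : Block F al 107008 107136 24 :=
  block_of_check (k := 7) rfl (by decide +kernel)

theorem b837 : Block F al 107136 107264 6 :=
  block_of_check (k := 7) rfl (by decide +kernel)

theorem b838 : Block F al 107264 107392 9 :=
  block_of_check (k := 7) rfl (by decide +kernel)

theorem b839 : Block F al 107392 107520 0 :=
  block_of_check (k := 7) rfl (by decide +kernel)

theorem b840 : Block F al 107520 107648 0 :=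
  block_of_check (k := 7) rfl (by decide +kernel)

theorem b841 : Block F al 107648 107776 1 :=
  block_of_check (k := 7) rfl (by decide +kernel)

theorem b842 : Block F al 107776 107904 6 :=
  block_of_check (k := 7) rfl (by decide +kernel)

theorem b843 : Block F al 107904 108032 4 :=
  block_of_check (k := 7) rfl (by decide +kernel)

theorem b844 : Block F al 108032 108160 0 :=
  block_of_check (k := 7) rfl (by decide +kernel)

theorem b845 : Block F al 108160 108288 0 :=
  block_of_check (k := 7) rfl (by decide +kernel)

theorem b846 : Block F al 108288 108416 0 :=
  block_of_check (k := 7) rfl (by decide +kernel)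

theorem b847 : Block F al 108416 108544 0 :=
  block_of_check (k := 7) rfl (by decide +kernel)

theorem b848 : Block F al 108544 108672 0 :=
  block_of_check (k := 7) rfl (by decide +kernel)

theorem b849 : Block F al 108672 108800 0 :=
  block_of_check (k := 7) rfl (by decide +kernel)

theorem b850 : Block F al 108800 108928 0 :=
  block_of_check (k := 7) rfl (by decide +kernel)

theorem b851 : Block F al 108928 109056 0 :=
  block_of_check (k := 7) rfl (by decide +kernel)

theorem b852 : Block F al 109056 109184 0 :=
  block_of_check (k := 7) rfl (by decide +kernel)

theorem b853 : Block F al 109184 109312 0 :=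
  block_of_check (k := 7) rfl (by decide +kernel)

theorem b854 : Block F al 109312 109440 0 :=
  block_of_check (k := 7) rfl (by decide +kernel)

theorem b855 : Block F al 109440 109568 0 :=
  block_of_check (k := 7) rfl (by decide +kernel)

theorem b856 : Block F al 109568 109696 11 :=
  block_of_check (k := 7) rfl (by decide +kernel)

theorem b857 : Block F al 109696 109824 82 :=
  block_of_check (k := 7) rfl (by decide +kernel)

theorem b858 : Block F al 109824 109952 64 :=
  block_of_check (k := 7) rfl (by decide +kernel)

theorem b859 : Block F al 109952 110080 102 :=
  block_of_check (k := 7) rfl (by decide +kernel)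

theorem b860 : Block F al 110080 110208 86 :=
  block_of_check (k := 7) rfl (by decide +kernel)

theorem b861 : Block F al 110208 110336 105 :=
  block_of_check (k := 7) rfl (by decide +kernel)

theorem b862 : Block F al 110336 110464 29 :=
  block_of_check (k := 7) rfl (by decide +kernel)

theorem b863 : Block F al 110464 110592 32 :=
  block_of_check (k := 7) rfl (by decide +kernel)

theorem b864 : Block F al 110592 110720 74 :=
  block_of_check (k := 7) rfl (by decide +kernel)

theorem b865 : Block F al 110720 110848 25 :=
  block_of_check (k := 7) rfl (by decide +kernel)

theorem b866 : Block F al 110848 110976 33 :=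
  block_of_check (k := 7) rfl (by decide +kernel)

theorem b867 : Block F al 110976 111104 91 :=
  block_of_check (k := 7) rfl (by decide +kernel)

theorem b868 : Block F al 111104 111232 73 :=
  block_of_check (k := 7) rfl (by decide +kernel)

theorem b869 : Block F al 111232 111360 93 :=
  block_of_check (k := 7) rfl (by decide +kernel)

theorem b870 : Block F al 111360 111488 50 :=
  block_of_check (k := 7) rfl (by decide +kernel)

theorem b871 : Block F al 111488 111616 77 :=
  block_of_check (k := 7) rfl (by decide +kernel)

theorem b872 : Block F al 111616 111744 50 :=
  block_of_check (k := 7) rfl (by decide +kernel)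

theorem b873 : Block F al 111744 111872 73 :=
  block_of_check (k := 7) rfl (by decide +kernel)

theorem b874 : Block F al 111872 112000 41 :=
  block_of_check (k := 7) rfl (by decide +kernel)

theorem b875 : Block F al 112000 112128 52 :=
  block_of_check (k := 7) rfl (by decide +kernel)

theorem b876 : Block F al 112128 112256 32 :=
  block_of_check (k := 7) rfl (by decide +kernel)

theorem b877 : Block F al 112256 112384 0 :=
  block_of_check (k := 7) rfl (by decide +kernel)

theorem b878 : Block F al 112384 112512 17 :=
  block_of_check (k := 7) rfl (by decide +kernel)

theorem b879 : Block F al 112512 112640 5 :=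
  block_of_check (k := 7) rfl (by decide +kernel)

theorem b880 : Block F al 112640 112768 4 :=
  block_of_check (k := 7) rfl (by decide +kernel)

theorem b881 : Block F al 112768 112896 23 :=
  block_of_check (k := 7) rfl (by decide +kernel)

theorem b882 : Block F al 112896 113024 9 :=
  block_of_check (k := 7) rfl (by decide +kernel)

theorem b883 : Block F al 113024 113152 0 :=
  block_of_check (k := 7) rfl (by decide +kernel)

theorem b884 : Block F al 113152 113280 0 :=
  block_of_check (k := 7) rfl (by decide +kernel)

theorem b885 : Block F al 113280 113408 4 :=
  block_of_check (k := 7) rfl (by decide +kernel)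

theorem b886 : Block F al 113408 113536 10 :=
  block_of_check (k := 7) rfl (by decide +kernel)

theorem b887 : Block F al 113536 113664 12 :=
  block_of_check (k := 7) rfl (by decide +kernel)

theorem b888 : Block F al 113664 113792 16 :=
  block_of_check (k := 7) rfl (by decide +kernel)

theorem b889 : Block F al 113792 113920 13 :=
  block_of_check (k := 7) rfl (by decide +kernel)

theorem b890 : Block F al 113920 114048 1 :=
  block_of_check (k := 7) rfl (by decide +kernel)

theorem b891 : Block F al 114048 114176 9 :=
  block_of_check (k := 7) rfl (by decide +kernel)

end Cfsg.Agent.TcData.Fi24.I306936
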