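import Mathlib
import Cfsg.Agent.TcData.Fi24.I306936.Tab

set_option autoImplicit false
set_option Elab.async false
set_option maxRecDepth 100000
set_option linter.all false

namespace Cfsg.Agent.TcData.Fi24.I306936

open Cfsg.Spor Cfsg.Agent.Lib.TcFacts Cfsg.Agent.Lib.TcBits Cfsg.Agent.Lib.TcPres Cfsg.Spor.Fi24 Cfsg.Agent.TcData.Fi24

theorem b892 : Block F al 114176 114304 3 :=
  block_of_check (k := 7) rfl (by decide +kernel)

theorem b893 : Block F al 114304 114432 0 :=
  block_of_check (k := 7) rfl (by decide +kernel)

theorem b894 : Block F al 114432 114560 0 :=
  block_of_check (k := 7) rfl (by decide +kernel)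

theorem b895 : Block F al 114560 114688 0 :=
  block_of_check (k := 7) rfl (by decide +kernel)

theorem b896 : Block F al 114688 114816 17 :=
  block_of_check (k := 7) rfl (by decide +kernel)

theorem b897 : Block F al 114816 114944 58 :=
  block_of_check (k := 7) rfl (by decide +kernel)

theorem b898 : Block F al 114944 115072 26 :=
  block_of_check (k := 7) rfl (by decide +kernel)

theorem b899 : Block F al 115072 115200 12 :=
  block_of_check (k := 7) rfl (by decide +kernel)

theorem b900 : Block F al 115200 115328 23 :=
  block_of_check (k := 7) rfl (by decide +kernel)

theorem b901 : Block F al 115328 115456 27 :=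
  block_of_check (k := 7) rfl (by decide +kernel)

theorem b902 : Block F al 115456 115584 27 :=
  block_of_check (k := 7) rfl (by decide +kernel)

theorem b903 : Block F al 115584 115712 4 :=
  block_of_check (k := 7) rfl (by decide +kernel)

theorem b904 : Block F al 115712 115840 6 :=
  block_of_check (k := 7) rfl (by decide +kernel)

theorem b905 : Block F al 115840 115968 0 :=
  block_of_check (k := 7) rfl (by decide +kernel)

theorem b906 : Block F al 115968 116096 0 :=
  block_of_check (k := 7) rfl (by decide +kernel)

theorem b907 : Block F al 116096 116224 0 :=
  block_of_check (k := 7) rfl (by decide +kernel)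

theorem b908 : Block F al 116224 116352 0 :=
  block_of_check (k := 7) rfl (by decide +kernel)

theorem b909 : Block F al 116352 116480 0 :=
  block_of_check (k := 7) rfl (by decide +kernel)

theorem b910 : Block F al 116480 116608 2 :=
  block_of_check (k := 7) rfl (by decide +kernel)

theorem b911 : Block F al 116608 116736 93 :=
  block_of_check (k := 7) rfl (by decide +kernel)

theorem b912 : Block F al 116736 116864 102 :=
  block_of_check (k := 7) rfl (by decide +kernel)

theorem b913 : Block F al 116864 116992 123 :=
  block_of_check (k := 7) rfl (by decide +kernel)

theorem b914 : Block F al 116992 117120 112 :=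
  block_of_check (k := 7) rfl (by decide +kernel)

theorem b915 : Block F al 117120 117248 105 :=
  block_of_check (k := 7) rfl (by decide +kernel)

theorem b916 : Block F al 117248 117376 116 :=
  block_of_check (k := 7) rfl (by decide +kernel)

theorem b917 : Block F al 117376 117504 74 :=
  block_of_check (k := 7) rfl (by decide +kernel)

theorem b918 : Block F al 117504 117632 48 :=
  block_of_check (k := 7) rfl (by decide +kernel)

theorem b919 : Block F al 117632 117760 69 :=
  block_of_check (k := 7) rfl (by decide +kernel)

theorem b920 : Block F al 117760 117888 103 :=
  block_of_check (k := 7) rfl (by decide +kernel)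

theorem b921 : Block F al 117888 118016 117 :=
  block_of_check (k := 7) rfl (by decide +kernel)

theorem b922 : Block F al 118016 118144 116 :=
  block_of_check (k := 7) rfl (by decide +kernel)

theorem b923 : Block F al 118144 118272 109 :=
  block_of_check (k := 7) rfl (by decide +kernel)

theorem b924 : Block F al 118272 118400 117 :=
  block_of_check (k := 7) rfl (by decide +kernel)

theorem b925 : Block F al 118400 118528 127 :=
  block_of_check (k := 7) rfl (by decide +kernel)

theorem b926 : Block F al 118528 118656 42 :=
  block_of_check (k := 7) rfl (by decide +kernel)

theorem b927 : Block F al 118656 118784 57 :=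
  block_of_check (k := 7) rfl (by decide +kernel)

theorem b928 : Block F al 118784 118912 34 :=
  block_of_check (k := 7) rfl (by decide +kernel)

theorem b929 : Block F al 118912 119040 78 :=
  block_of_check (k := 7) rfl (by decide +kernel)

theorem b930 : Block F al 119040 119168 124 :=
  block_of_check (k := 7) rfl (by decide +kernel)

theorem b931 : Block F al 119168 119296 22 :=
  block_of_check (k := 7) rfl (by decide +kernel)

theorem b932 : Block F al 119296 119424 48 :=
  block_of_check (k := 7) rfl (by decide +kernel)

theorem b933 : Block F al 119424 119552 72 :=
  block_of_check (k := 7) rfl (by decide +kernel)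

theorem b934 : Block F al 119552 119680 118 :=
  block_of_check (k := 7) rfl (by decide +kernel)

theorem b935 : Block F al 119680 119808 103 :=
  block_of_check (k := 7) rfl (by decide +kernel)

theorem b936 : Block F al 119808 119936 103 :=
  block_of_check (k := 7) rfl (by decide +kernel)

theorem b937 : Block F al 119936 120064 100 :=
  block_of_check (k := 7) rfl (by decide +kernel)

theorem b938 : Block F al 120064 120192 107 :=
  block_of_check (k := 7) rfl (by decide +kernel)

theorem b939 : Block F al 120192 120320 102 :=
  block_of_check (k := 7) rfl (by decide +kernel)

theorem b940 : Block F al 120320 120448 66 :=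
  block_of_check (k := 7) rfl (by decide +kernel)

theorem b941 : Block F al 120448 120576 109 :=
  block_of_check (k := 7) rfl (by decide +kernel)

theorem b942 : Block F al 120576 120704 109 :=
  block_of_check (k := 7) rfl (by decide +kernel)

theorem b943 : Block F al 120704 120832 67 :=
  block_of_check (k := 7) rfl (by decide +kernel)

theorem b944 : Block F al 120832 120960 67 :=
  block_of_check (k := 7) rfl (by decide +kernel)

theorem b945 : Block F al 120960 121088 118 :=
  block_of_check (k := 7) rfl (by decide +kernel)

theorem b946 : Block F al 121088 121216 59 :=
  block_of_check (k := 7) rfl (by decide +kernel)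

theorem b947 : Block F al 121216 121344 58 :=
  block_of_check (k := 7) rfl (by decide +kernel)

theorem b948 : Block F al 121344 121472 94 :=
  block_of_check (k := 7) rfl (by decide +kernel)

theorem b949 : Block F al 121472 121600 43 :=
  block_of_check (k := 7) rfl (by decide +kernel)

theorem b950 : Block F al 121600 121728 10 :=
  block_of_check (k := 7) rfl (by decide +kernel)

theorem b951 : Block F al 121728 121856 27 :=
  block_of_check (k := 7) rfl (by decide +kernel)

theorem b952 : Block F al 121856 121984 2 :=
  block_of_check (k := 7) rfl (by decide +kernel)

theorem b953 : Block F al 121984 122112 9 :=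
  block_of_check (k := 7) rfl (by decide +kernel)

theorem b954 : Block F al 122112 122240 21 :=
  block_of_check (k := 7) rfl (by decide +kernel)

theorem b955 : Block F al 122240 122368 73 :=
  block_of_check (k := 7) rfl (by decide +kernel)

theorem b956 : Block F al 122368 122496 19 :=
  block_of_check (k := 7) rfl (by decide +kernel)

theorem b957 : Block F al 122496 122624 0 :=
  block_of_check (k := 7) rfl (by decide +kernel)

theorem b958 : Block F al 122624 122752 2 :=
  block_of_check (k := 7) rfl (by decide +kernel)

theorem b959 : Block F al 122752 122880 3 :=
  block_of_check (k := 7) rfl (by decide +kernel)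

theorem b960 : Block F al 122880 123008 25 :=
  block_of_check (k := 7) rfl (by decide +kernel)

theorem b961 : Block F al 123008 123136 25 :=
  block_of_check (k := 7) rfl (by decide +kernel)

theorem b962 : Block F al 123136 123264 48 :=
  block_of_check (k := 7) rfl (by decide +kernel)

theorem b963 : Block F al 123264 123392 25 :=
  block_of_check (k := 7) rfl (by decide +kernel)

theorem b964 : Block F al 123392 123520 61 :=
  block_of_check (k := 7) rfl (by decide +kernel)

theorem b965 : Block F al 123520 123648 22 :=
  block_of_check (k := 7) rfl (by decide +kernel)

theorem b966 : Block F al 123648 123776 6 :=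
  block_of_check (k := 7) rfl (by decide +kernel)

end Cfsg.Agent.TcData.Fi24.I306936
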