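import Mathlib
import Cfsg.Agent.TcData.Fi24.I306936.Tab

set_option autoImplicit false
set_option Elab.async false
set_option maxRecDepth 100000
set_option linter.all false

namespace Cfsg.Agent.TcData.Fi24.I306936

open Cfsg.Spor Cfsg.Agent.Lib.TcFacts Cfsg.Agent.Lib.TcBits Cfsg.Agent.Lib.TcPres Cfsg.Spor.Fi24 Cfsg.Agent.TcData.Fi24

theorem b967 : Block F al 123776 123904 55 :=
  block_of_check (k := 7) rfl (by decide +kernel)

theorem b968 : Block F al 123904 124032 32 :=
  block_of_check (k := 7) rfl (by decide +kernel)

theorem b969 : Block F al 124032 124160 11 :=
  block_of_check (k := 7) rfl (by decide +kernel)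

theorem b970 : Block F al 124160 124288 24 :=
  block_of_check (k := 7) rfl (by decide +kernel)

theorem b971 : Block F al 124288 124416 9 :=
  block_of_check (k := 7) rfl (by decide +kernel)

theorem b972 : Block F al 124416 124544 14 :=
  block_of_check (k := 7) rfl (by decide +kernel)

theorem b973 : Block F al 124544 124672 0 :=
  block_of_check (k := 7) rfl (by decide +kernel)

theorem b974 : Block F al 124672 124800 0 :=
  block_of_check (k := 7) rfl (by decide +kernel)

theorem b975 : Block F al 124800 124928 53 :=
  block_of_check (k := 7) rfl (by decide +kernel)

theorem b976 : Block F al 124928 125056 99 :=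
  block_of_check (k := 7) rfl (by decide +kernel)

theorem b977 : Block F al 125056 125184 67 :=
  block_of_check (k := 7) rfl (by decide +kernel)

theorem b978 : Block F al 125184 125312 71 :=
  block_of_check (k := 7) rfl (by decide +kernel)

theorem b979 : Block F al 125312 125440 87 :=
  block_of_check (k := 7) rfl (by decide +kernel)

theorem b980 : Block F al 125440 125568 108 :=
  block_of_check (k := 7) rfl (by decide +kernel)

theorem b981 : Block F al 125568 125696 17 :=
  block_of_check (k := 7) rfl (by decide +kernel)

theorem b982 : Block F al 125696 125824 20 :=
  block_of_check (k := 7) rfl (by decide +kernel)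

theorem b983 : Block F al 125824 125952 32 :=
  block_of_check (k := 7) rfl (by decide +kernel)

theorem b984 : Block F al 125952 126080 69 :=
  block_of_check (k := 7) rfl (by decide +kernel)

theorem b985 : Block F al 126080 126208 59 :=
  block_of_check (k := 7) rfl (by decide +kernel)

theorem b986 : Block F al 126208 126336 21 :=
  block_of_check (k := 7) rfl (by decide +kernel)

theorem b987 : Block F al 126336 126464 75 :=
  block_of_check (k := 7) rfl (by decide +kernel)

theorem b988 : Block F al 126464 126592 39 :=
  block_of_check (k := 7) rfl (by decide +kernel)

theorem b989 : Block F al 126592 126720 25 :=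
  block_of_check (k := 7) rfl (by decide +kernel)

theorem b990 : Block F al 126720 126848 24 :=
  block_of_check (k := 7) rfl (by decide +kernel)

theorem b991 : Block F al 126848 126976 0 :=
  block_of_check (k := 7) rfl (by decide +kernel)

theorem b992 : Block F al 126976 127104 0 :=
  block_of_check (k := 7) rfl (by decide +kernel)

theorem b993 : Block F al 127104 127232 2 :=
  block_of_check (k := 7) rfl (by decide +kernel)

theorem b994 : Block F al 127232 127360 3 :=
  block_of_check (k := 7) rfl (by decide +kernel)

theorem b995 : Block F al 127360 127488 15 :=
  block_of_check (k := 7) rfl (by decide +kernel)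

theorem b996 : Block F al 127488 127616 4 :=
  block_of_check (k := 7) rfl (by decide +kernel)

theorem b997 : Block F al 127616 127744 7 :=
  block_of_check (k := 7) rfl (by decide +kernel)

theorem b998 : Block F al 127744 127872 22 :=
  block_of_check (k := 7) rfl (by decide +kernel)

theorem b999 : Block F al 127872 128000 41 :=
  block_of_check (k := 7) rfl (by decide +kernel)

theorem b1000 : Block F al 128000 128128 99 :=
  block_of_check (k := 7) rfl (by decide +kernel)

theorem b1001 : Block F al 128128 128256 79 :=
  block_of_check (k := 7) rfl (by decide +kernel)

theorem b1002 : Block F al 128256 128384 116 :=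
  block_of_check (k := 7) rfl (by decide +kernel)

theorem b1003 : Block F al 128384 128512 81 :=
  block_of_check (k := 7) rfl (by decide +kernel)

theorem b1004 : Block F al 128512 128640 34 :=
  block_of_check (k := 7) rfl (by decide +kernel)

theorem b1005 : Block F al 128640 128768 77 :=
  block_of_check (k := 7) rfl (by decide +kernel)

theorem b1006 : Block F al 128768 128896 82 :=
  block_of_check (k := 7) rfl (by decide +kernel)

theorem b1007 : Block F al 128896 129024 127 :=
  block_of_check (k := 7) rfl (by decide +kernel)

theorem b1008 : Block F al 129024 129152 126 :=
  block_of_check (k := 7) rfl (by decide +kernel)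

theorem b1009 : Block F al 129152 129280 126 :=
  block_of_check (k := 7) rfl (by decide +kernel)

theorem b1010 : Block F al 129280 129408 97 :=
  block_of_check (k := 7) rfl (by decide +kernel)

theorem b1011 : Block F al 129408 129536 124 :=
  block_of_check (k := 7) rfl (by decide +kernel)

theorem b1012 : Block F al 129536 129664 97 :=
  block_of_check (k := 7) rfl (by decide +kernel)

theorem b1013 : Block F al 129664 129792 34 :=
  block_of_check (k := 7) rfl (by decide +kernel)

theorem b1014 : Block F al 129792 129920 34 :=
  block_of_check (k := 7) rfl (by decide +kernel)

theorem b1015 : Block F al 129920 130048 46 :=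
  block_of_check (k := 7) rfl (by decide +kernel)

theorem b1016 : Block F al 130048 130176 45 :=
  block_of_check (k := 7) rfl (by decide +kernel)

theorem b1017 : Block F al 130176 130304 93 :=
  block_of_check (k := 7) rfl (by decide +kernel)

theorem b1018 : Block F al 130304 130432 65 :=
  block_of_check (k := 7) rfl (by decide +kernel)

theorem b1019 : Block F al 130432 130560 123 :=
  block_of_check (k := 7) rfl (by decide +kernel)

theorem b1020 : Block F al 130560 130688 125 :=
  block_of_check (k := 7) rfl (by decide +kernel)

theorem b1021 : Block F al 130688 130816 126 :=
  block_of_check (k := 7) rfl (by decide +kernel)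

theorem b1022 : Block F al 130816 130944 119 :=
  block_of_check (k := 7) rfl (by decide +kernel)

theorem b1023 : Block F al 130944 131072 123 :=
  block_of_check (k := 7) rfl (by decide +kernel)

theorem b1024 : Block F al 131072 131200 122 :=
  block_of_check (k := 7) rfl (by decide +kernel)

theorem b1025 : Block F al 131200 131328 52 :=
  block_of_check (k := 7) rfl (by decide +kernel)

theorem b1026 : Block F al 131328 131456 46 :=
  block_of_check (k := 7) rfl (by decide +kernel)

theorem b1027 : Block F al 131456 131584 55 :=
  block_of_check (k := 7) rfl (by decide +kernel)

theorem b1028 : Block F al 131584 131712 44 :=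
  block_of_check (k := 7) rfl (by decide +kernel)

theorem b1029 : Block F al 131712 131840 76 :=
  block_of_check (k := 7) rfl (by decide +kernel)

theorem b1030 : Block F al 131840 131968 114 :=
  block_of_check (k := 7) rfl (by decide +kernel)

theorem b1031 : Block F al 131968 132096 124 :=
  block_of_check (k := 7) rfl (by decide +kernel)

theorem b1032 : Block F al 132096 132224 88 :=
  block_of_check (k := 7) rfl (by decide +kernel)

theorem b1033 : Block F al 132224 132352 29 :=
  block_of_check (k := 7) rfl (by decide +kernel)

theorem b1034 : Block F al 132352 132480 71 :=
  block_of_check (k := 7) rfl (by decide +kernel)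

theorem b1035 : Block F al 132480 132608 91 :=
  block_of_check (k := 7) rfl (by decide +kernel)

theorem b1036 : Block F al 132608 132736 115 :=
  block_of_check (k := 7) rfl (by decide +kernel)

theorem b1037 : Block F al 132736 132864 117 :=
  block_of_check (k := 7) rfl (by decide +kernel)

theorem b1038 : Block F al 132864 132992 117 :=
  block_of_check (k := 7) rfl (by decide +kernel)

theorem b1039 : Block F al 132992 133120 118 :=
  block_of_check (k := 7) rfl (by decide +kernel)

end Cfsg.Agent.TcData.Fi24.I306936
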