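import Mathlib
import Cfsg.Agent.TcData.Fi24.I306936.Tab

set_option autoImplicit false
set_option Elab.async false
set_option maxRecDepth 100000
set_option linter.all false

namespace Cfsg.Agent.TcData.Fi24.I306936

open Cfsg.Spor Cfsg.Agent.Lib.TcFacts Cfsg.Agent.Lib.TcBits Cfsg.Agent.Lib.TcPres Cfsg.Spor.Fi24 Cfsg.Agent.TcData.Fi24

theorem b1040 : Block F al 133120 133248 120 :=
  block_of_check (k := 7) rfl (by decide +kernel)

theorem b1041 : Block F al 133248 133376 102 :=
  block_of_check (k := 7) rfl (by decide +kernel)

theorem b1042 : Block F al 133376 133504 113 :=
  block_of_check (k := 7) rfl (by decide +kernel)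

theorem b1043 : Block F al 133504 133632 123 :=
  block_of_check (k := 7) rfl (by decide +kernel)

theorem b1044 : Block F al 133632 133760 112 :=
  block_of_check (k := 7) rfl (by decide +kernel)

theorem b1045 : Block F al 133760 133888 100 :=
  block_of_check (k := 7) rfl (by decide +kernel)

theorem b1046 : Block F al 133888 134016 77 :=
  block_of_check (k := 7) rfl (by decide +kernel)

theorem b1047 : Block F al 134016 134144 105 :=
  block_of_check (k := 7) rfl (by decide +kernel)

theorem b1048 : Block F al 134144 134272 113 :=
  block_of_check (k := 7) rfl (by decide +kernel)

theorem b1049 : Block F al 134272 134400 122 :=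
  block_of_check (k := 7) rfl (by decide +kernel)

theorem b1050 : Block F al 134400 134528 87 :=
  block_of_check (k := 7) rfl (by decide +kernel)

theorem b1051 : Block F al 134528 134656 60 :=
  block_of_check (k := 7) rfl (by decide +kernel)

theorem b1052 : Block F al 134656 134784 45 :=
  block_of_check (k := 7) rfl (by decide +kernel)

theorem b1053 : Block F al 134784 134912 79 :=
  block_of_check (k := 7) rfl (by decide +kernel)

theorem b1054 : Block F al 134912 135040 115 :=
  block_of_check (k := 7) rfl (by decide +kernel)

theorem b1055 : Block F al 135040 135168 93 :=
  block_of_check (k := 7) rfl (by decide +kernel)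

theorem b1056 : Block F al 135168 135296 35 :=
  block_of_check (k := 7) rfl (by decide +kernel)

theorem b1057 : Block F al 135296 135424 68 :=
  block_of_check (k := 7) rfl (by decide +kernel)

theorem b1058 : Block F al 135424 135552 106 :=
  block_of_check (k := 7) rfl (by decide +kernel)

theorem b1059 : Block F al 135552 135680 63 :=
  block_of_check (k := 7) rfl (by decide +kernel)

theorem b1060 : Block F al 135680 135808 0 :=
  block_of_check (k := 7) rfl (by decide +kernel)

theorem b1061 : Block F al 135808 135936 7 :=
  block_of_check (k := 7) rfl (by decide +kernel)

theorem b1062 : Block F al 135936 136064 6 :=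
  block_of_check (k := 7) rfl (by decide +kernel)

theorem b1063 : Block F al 136064 136192 0 :=
  block_of_check (k := 7) rfl (by decide +kernel)

theorem b1064 : Block F al 136192 136320 7 :=
  block_of_check (k := 7) rfl (by decide +kernel)

theorem b1065 : Block F al 136320 136448 24 :=
  block_of_check (k := 7) rfl (by decide +kernel)

theorem b1066 : Block F al 136448 136576 44 :=
  block_of_check (k := 7) rfl (by decide +kernel)

theorem b1067 : Block F al 136576 136704 63 :=
  block_of_check (k := 7) rfl (by decide +kernel)

theorem b1068 : Block F al 136704 136832 47 :=
  block_of_check (k := 7) rfl (by decide +kernel)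

theorem b1069 : Block F al 136832 136960 5 :=
  block_of_check (k := 7) rfl (by decide +kernel)

theorem b1070 : Block F al 136960 137088 0 :=
  block_of_check (k := 7) rfl (by decide +kernel)

theorem b1071 : Block F al 137088 137216 6 :=
  block_of_check (k := 7) rfl (by decide +kernel)

theorem b1072 : Block F al 137216 137344 0 :=
  block_of_check (k := 7) rfl (by decide +kernel)

theorem b1073 : Block F al 137344 137472 37 :=
  block_of_check (k := 7) rfl (by decide +kernel)

theorem b1074 : Block F al 137472 137600 50 :=
  block_of_check (k := 7) rfl (by decide +kernel)

theorem b1075 : Block F al 137600 137728 26 :=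
  block_of_check (k := 7) rfl (by decide +kernel)

theorem b1076 : Block F al 137728 137856 60 :=
  block_of_check (k := 7) rfl (by decide +kernel)

theorem b1077 : Block F al 137856 137984 50 :=
  block_of_check (k := 7) rfl (by decide +kernel)

theorem b1078 : Block F al 137984 138112 27 :=
  block_of_check (k := 7) rfl (by decide +kernel)

theorem b1079 : Block F al 138112 138240 60 :=
  block_of_check (k := 7) rfl (by decide +kernel)

theorem b1080 : Block F al 138240 138368 64 :=
  block_of_check (k := 7) rfl (by decide +kernel)

theorem b1081 : Block F al 138368 138496 31 :=
  block_of_check (k := 7) rfl (by decide +kernel)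

theorem b1082 : Block F al 138496 138624 17 :=
  block_of_check (k := 7) rfl (by decide +kernel)

theorem b1083 : Block F al 138624 138752 12 :=
  block_of_check (k := 7) rfl (by decide +kernel)

theorem b1084 : Block F al 138752 138880 20 :=
  block_of_check (k := 7) rfl (by decide +kernel)

theorem b1085 : Block F al 138880 139008 68 :=
  block_of_check (k := 7) rfl (by decide +kernel)

theorem b1086 : Block F al 139008 139136 52 :=
  block_of_check (k := 7) rfl (by decide +kernel)

theorem b1087 : Block F al 139136 139264 59 :=
  block_of_check (k := 7) rfl (by decide +kernel)

theorem b1088 : Block F al 139264 139392 0 :=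
  block_of_check (k := 7) rfl (by decide +kernel)

theorem b1089 : Block F al 139392 139520 7 :=
  block_of_check (k := 7) rfl (by decide +kernel)

theorem b1090 : Block F al 139520 139648 21 :=
  block_of_check (k := 7) rfl (by decide +kernel)

theorem b1091 : Block F al 139648 139776 11 :=
  block_of_check (k := 7) rfl (by decide +kernel)

theorem b1092 : Block F al 139776 139904 7 :=
  block_of_check (k := 7) rfl (by decide +kernel)

theorem b1093 : Block F al 139904 140032 12 :=
  block_of_check (k := 7) rfl (by decide +kernel)

theorem b1094 : Block F al 140032 140160 0 :=
  block_of_check (k := 7) rfl (by decide +kernel)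

theorem b1095 : Block F al 140160 140288 0 :=
  block_of_check (k := 7) rfl (by decide +kernel)

theorem b1096 : Block F al 140288 140416 33 :=
  block_of_check (k := 7) rfl (by decide +kernel)

theorem b1097 : Block F al 140416 140544 32 :=
  block_of_check (k := 7) rfl (by decide +kernel)

theorem b1098 : Block F al 140544 140672 92 :=
  block_of_check (k := 7) rfl (by decide +kernel)

theorem b1099 : Block F al 140672 140800 66 :=
  block_of_check (k := 7) rfl (by decide +kernel)

theorem b1100 : Block F al 140800 140928 16 :=
  block_of_check (k := 7) rfl (by decide +kernel)

theorem b1101 : Block F al 140928 141056 56 :=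
  block_of_check (k := 7) rfl (by decide +kernel)

theorem b1102 : Block F al 141056 141184 78 :=
  block_of_check (k := 7) rfl (by decide +kernel)

theorem b1103 : Block F al 141184 141312 110 :=
  block_of_check (k := 7) rfl (by decide +kernel)

theorem b1104 : Block F al 141312 141440 49 :=
  block_of_check (k := 7) rfl (by decide +kernel)

theorem b1105 : Block F al 141440 141568 17 :=
  block_of_check (k := 7) rfl (by decide +kernel)

theorem b1106 : Block F al 141568 141696 25 :=
  block_of_check (k := 7) rfl (by decide +kernel)

theorem b1107 : Block F al 141696 141824 80 :=
  block_of_check (k := 7) rfl (by decide +kernel)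

theorem b1108 : Block F al 141824 141952 88 :=
  block_of_check (k := 7) rfl (by decide +kernel)

theorem b1109 : Block F al 141952 142080 71 :=
  block_of_check (k := 7) rfl (by decide +kernel)

theorem b1110 : Block F al 142080 142208 65 :=
  block_of_check (k := 7) rfl (by decide +kernel)

theorem b1111 : Block F al 142208 142336 19 :=
  block_of_check (k := 7) rfl (by decide +kernel)

theorem b1112 : Block F al 142336 142464 88 :=
  block_of_check (k := 7) rfl (by decide +kernel)

theorem b1113 : Block F al 142464 142592 84 :=
  block_of_check (k := 7) rfl (by decide +kernel)

theorem b1114 : Block F al 142592 142720 34 :=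
  block_of_check (k := 7) rfl (by decide +kernel)

theorem b1115 : Block F al 142720 142848 27 :=
  block_of_check (k := 7) rfl (by decide +kernel)

theorem b1116 : Block F al 142848 142976 33 :=
  block_of_check (k := 7) rfl (by decide +kernel)

theorem b1117 : Block F al 142976 143104 0 :=
  block_of_check (k := 7) rfl (by decide +kernel)

theorem b1118 : Block F al 143104 143232 0 :=
  block_of_check (k := 7) rfl (by decide +kernel)

theorem b1119 : Block F al 143232 143360 0 :=
  block_of_check (k := 7) rfl (by decide +kernel)

theorem b1120 : Block F al 143360 143488 10 :=
  block_of_check (k := 7) rfl (by decide +kernel)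

theorem b1121 : Block F al 143488 143616 9 :=
  block_of_check (k := 7) rfl (by decide +kernel)

theorem b1122 : Block F al 143616 143744 19 :=
  block_of_check (k := 7) rfl (by decide +kernel)

theorem b1123 : Block F al 143744 143872 5 :=
  block_of_check (k := 7) rfl (by decide +kernel)

theorem b1124 : Block F al 143872 144000 1 :=
  block_of_check (k := 7) rfl (by decide +kernel)

theorem b1125 : Block F al 144000 144128 1 :=
  block_of_check (k := 7) rfl (by decide +kernel)

theorem b1126 : Block F al 144128 144256 0 :=
  block_of_check (k := 7) rfl (by decide +kernel)

theorem b1127 : Block F al 144256 144384 3 :=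
  block_of_check (k := 7) rfl (by decide +kernel)

end Cfsg.Agent.TcData.Fi24.I306936
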