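import Mathlib
import Cfsg.Agent.TcData.Fi24.I306936.Tab

set_option autoImplicit false
set_option Elab.async false
set_option maxRecDepth 100000
set_option linter.all false

namespace Cfsg.Agent.TcData.Fi24.I306936

open Cfsg.Spor Cfsg.Agent.Lib.TcFacts Cfsg.Agent.Lib.TcBits Cfsg.Agent.Lib.TcPres Cfsg.Spor.Fi24 Cfsg.Agent.TcData.Fi24

theorem b1128 : Block F al 144384 144512 0 :=
  block_of_check (k := 7) rfl (by decide +kernel)

theorem b1129 : Block F al 144512 144640 0 :=
  block_of_check (k := 7) rfl (by decide +kernel)

theorem b1130 : Block F al 144640 144768 0 :=
  block_of_check (k := 7) rfl (by decide +kernel)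

theorem b1131 : Block F al 144768 144896 0 :=
  block_of_check (k := 7) rfl (by decide +kernel)

theorem b1132 : Block F al 144896 145024 0 :=
  block_of_check (k := 7) rfl (by decide +kernel)

theorem b1133 : Block F al 145024 145152 0 :=
  block_of_check (k := 7) rfl (by decide +kernel)

theorem b1134 : Block F al 145152 145280 0 :=
  block_of_check (k := 7) rfl (by decide +kernel)

theorem b1135 : Block F al 145280 145408 0 :=
  block_of_check (k := 7) rfl (by decide +kernel)

theorem b1136 : Block F al 145408 145536 0 :=
  block_of_check (k := 7) rfl (by decide +kernel)

theorem b1137 : Block F al 145536 145664 4 :=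
  block_of_check (k := 7) rfl (by decide +kernel)

theorem b1138 : Block F al 145664 145792 79 :=
  block_of_check (k := 7) rfl (by decide +kernel)

theorem b1139 : Block F al 145792 145920 51 :=
  block_of_check (k := 7) rfl (by decide +kernel)

theorem b1140 : Block F al 145920 146048 64 :=
  block_of_check (k := 7) rfl (by decide +kernel)

theorem b1141 : Block F al 146048 146176 87 :=
  block_of_check (k := 7) rfl (by decide +kernel)

theorem b1142 : Block F al 146176 146304 113 :=
  block_of_check (k := 7) rfl (by decide +kernel)

theorem b1143 : Block F al 146304 146432 59 :=
  block_of_check (k := 7) rfl (by decide +kernel)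

theorem b1144 : Block F al 146432 146560 90 :=
  block_of_check (k := 7) rfl (by decide +kernel)

theorem b1145 : Block F al 146560 146688 29 :=
  block_of_check (k := 7) rfl (by decide +kernel)

theorem b1146 : Block F al 146688 146816 25 :=
  block_of_check (k := 7) rfl (by decide +kernel)

theorem b1147 : Block F al 146816 146944 44 :=
  block_of_check (k := 7) rfl (by decide +kernel)

theorem b1148 : Block F al 146944 147072 47 :=
  block_of_check (k := 7) rfl (by decide +kernel)

theorem b1149 : Block F al 147072 147200 45 :=
  block_of_check (k := 7) rfl (by decide +kernel)

theorem b1150 : Block F al 147200 147328 24 :=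
  block_of_check (k := 7) rfl (by decide +kernel)

theorem b1151 : Block F al 147328 147456 28 :=
  block_of_check (k := 7) rfl (by decide +kernel)

theorem b1152 : Block F al 147456 147584 94 :=
  block_of_check (k := 7) rfl (by decide +kernel)

theorem b1153 : Block F al 147584 147712 84 :=
  block_of_check (k := 7) rfl (by decide +kernel)

theorem b1154 : Block F al 147712 147840 48 :=
  block_of_check (k := 7) rfl (by decide +kernel)

theorem b1155 : Block F al 147840 147968 100 :=
  block_of_check (k := 7) rfl (by decide +kernel)

theorem b1156 : Block F al 147968 148096 37 :=
  block_of_check (k := 7) rfl (by decide +kernel)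

theorem b1157 : Block F al 148096 148224 57 :=
  block_of_check (k := 7) rfl (by decide +kernel)

theorem b1158 : Block F al 148224 148352 63 :=
  block_of_check (k := 7) rfl (by decide +kernel)

theorem b1159 : Block F al 148352 148480 31 :=
  block_of_check (k := 7) rfl (by decide +kernel)

theorem b1160 : Block F al 148480 148608 91 :=
  block_of_check (k := 7) rfl (by decide +kernel)

theorem b1161 : Block F al 148608 148736 51 :=
  block_of_check (k := 7) rfl (by decide +kernel)

theorem b1162 : Block F al 148736 148864 24 :=
  block_of_check (k := 7) rfl (by decide +kernel)

theorem b1163 : Block F al 148864 148992 51 :=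
  block_of_check (k := 7) rfl (by decide +kernel)

theorem b1164 : Block F al 148992 149120 10 :=
  block_of_check (k := 7) rfl (by decide +kernel)

theorem b1165 : Block F al 149120 149248 4 :=
  block_of_check (k := 7) rfl (by decide +kernel)

theorem b1166 : Block F al 149248 149376 7 :=
  block_of_check (k := 7) rfl (by decide +kernel)

theorem b1167 : Block F al 149376 149504 0 :=
  block_of_check (k := 7) rfl (by decide +kernel)

theorem b1168 : Block F al 149504 149632 3 :=
  block_of_check (k := 7) rfl (by decide +kernel)

theorem b1169 : Block F al 149632 149760 25 :=
  block_of_check (k := 7) rfl (by decide +kernel)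

theorem b1170 : Block F al 149760 149888 1 :=
  block_of_check (k := 7) rfl (by decide +kernel)

theorem b1171 : Block F al 149888 150016 0 :=
  block_of_check (k := 7) rfl (by decide +kernel)

theorem b1172 : Block F al 150016 150144 0 :=
  block_of_check (k := 7) rfl (by decide +kernel)

theorem b1173 : Block F al 150144 150272 3 :=
  block_of_check (k := 7) rfl (by decide +kernel)

theorem b1174 : Block F al 150272 150400 6 :=
  block_of_check (k := 7) rfl (by decide +kernel)

theorem b1175 : Block F al 150400 150528 16 :=
  block_of_check (k := 7) rfl (by decide +kernel)

theorem b1176 : Block F al 150528 150656 9 :=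
  block_of_check (k := 7) rfl (by decide +kernel)

theorem b1177 : Block F al 150656 150784 12 :=
  block_of_check (k := 7) rfl (by decide +kernel)

theorem b1178 : Block F al 150784 150912 0 :=
  block_of_check (k := 7) rfl (by decide +kernel)

theorem b1179 : Block F al 150912 151040 7 :=
  block_of_check (k := 7) rfl (by decide +kernel)

theorem b1180 : Block F al 151040 151168 0 :=
  block_of_check (k := 7) rfl (by decide +kernel)

theorem b1181 : Block F al 151168 151296 0 :=
  block_of_check (k := 7) rfl (by decide +kernel)

theorem b1182 : Block F al 151296 151424 0 :=
  block_of_check (k := 7) rfl (by decide +kernel)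

theorem b1183 : Block F al 151424 151552 11 :=
  block_of_check (k := 7) rfl (by decide +kernel)

theorem b1184 : Block F al 151552 151680 48 :=
  block_of_check (k := 7) rfl (by decide +kernel)

theorem b1185 : Block F al 151680 151808 27 :=
  block_of_check (k := 7) rfl (by decide +kernel)

theorem b1186 : Block F al 151808 151936 6 :=
  block_of_check (k := 7) rfl (by decide +kernel)

theorem b1187 : Block F al 151936 152064 25 :=
  block_of_check (k := 7) rfl (by decide +kernel)

theorem b1188 : Block F al 152064 152192 10 :=
  block_of_check (k := 7) rfl (by decide +kernel)

theorem b1189 : Block F al 152192 152320 18 :=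
  block_of_check (k := 7) rfl (by decide +kernel)

theorem b1190 : Block F al 152320 152448 1 :=
  block_of_check (k := 7) rfl (by decide +kernel)

theorem b1191 : Block F al 152448 152576 3 :=
  block_of_check (k := 7) rfl (by decide +kernel)

theorem b1192 : Block F al 152576 152704 0 :=
  block_of_check (k := 7) rfl (by decide +kernel)

theorem b1193 : Block F al 152704 152832 0 :=
  block_of_check (k := 7) rfl (by decide +kernel)

theorem b1194 : Block F al 152832 152960 11 :=
  block_of_check (k := 7) rfl (by decide +kernel)

theorem b1195 : Block F al 152960 153088 128 :=
  block_of_check (k := 7) rfl (by decide +kernel)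

theorem b1196 : Block F al 153088 153216 128 :=
  block_of_check (k := 7) rfl (by decide +kernel)

theorem b1197 : Block F al 153216 153344 128 :=
  block_of_check (k := 7) rfl (by decide +kernel)

theorem b1198 : Block F al 153344 153472 128 :=
  block_of_check (k := 7) rfl (by decide +kernel)

theorem b1199 : Block F al 153472 153600 128 :=
  block_of_check (k := 7) rfl (by decide +kernel)

theorem b1200 : Block F al 153600 153728 128 :=
  block_of_check (k := 7) rfl (by decide +kernel)

theorem b1201 : Block F al 153728 153856 128 :=
  block_of_check (k := 7) rfl (by decide +kernel)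

theorem b1202 : Block F al 153856 153984 128 :=
  block_of_check (k := 7) rfl (by decide +kernel)

theorem b1203 : Block F al 153984 154112 128 :=
  block_of_check (k := 7) rfl (by decide +kernel)

theorem b1204 : Block F al 154112 154240 128 :=
  block_of_check (k := 7) rfl (by decide +kernel)

theorem b1205 : Block F al 154240 154368 128 :=
  block_of_check (k := 7) rfl (by decide +kernel)

theorem b1206 : Block F al 154368 154496 128 :=
  block_of_check (k := 7) rfl (by decide +kernel)

theorem b1207 : Block F al 154496 154624 128 :=
  block_of_check (k := 7) rfl (by decide +kernel)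

theorem b1208 : Block F al 154624 154752 128 :=
  block_of_check (k := 7) rfl (by decide +kernel)

end Cfsg.Agent.TcData.Fi24.I306936
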