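import Mathlib
import Cfsg.Agent.TcData.Fi24.I306936.Tab

set_option autoImplicit false
set_option Elab.async false
set_option maxRecDepth 100000
set_option linter.all false

namespace Cfsg.Agent.TcData.Fi24.I306936

open Cfsg.Spor Cfsg.Agent.Lib.TcFacts Cfsg.Agent.Lib.TcBits Cfsg.Agent.Lib.TcPres Cfsg.Spor.Fi24 Cfsg.Agent.TcData.Fi24

theorem b1209 : Block F al 154752 154880 128 :=
  block_of_check (k := 7) rfl (by decide +kernel)

theorem b1210 : Block F al 154880 155008 128 :=
  block_of_check (k := 7) rfl (by decide +kernel)

theorem b1211 : Block F al 155008 155136 128 :=
  block_of_check (k := 7) rfl (by decide +kernel)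

theorem b1212 : Block F al 155136 155264 128 :=
  block_of_check (k := 7) rfl (by decide +kernel)

theorem b1213 : Block F al 155264 155392 128 :=
  block_of_check (k := 7) rfl (by decide +kernel)

theorem b1214 : Block F al 155392 155520 128 :=
  block_of_check (k := 7) rfl (by decide +kernel)

theorem b1215 : Block F al 155520 155648 128 :=
  block_of_check (k := 7) rfl (by decide +kernel)

theorem b1216 : Block F al 155648 155776 128 :=
  block_of_check (k := 7) rfl (by decide +kernel)

theorem b1217 : Block F al 155776 155904 128 :=
  block_of_check (k := 7) rfl (by decide +kernel)

theorem b1218 : Block F al 155904 156032 128 :=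
  block_of_check (k := 7) rfl (by decide +kernel)

theorem b1219 : Block F al 156032 156160 128 :=
  block_of_check (k := 7) rfl (by decide +kernel)

theorem b1220 : Block F al 156160 156288 128 :=
  block_of_check (k := 7) rfl (by decide +kernel)

theorem b1221 : Block F al 156288 156416 128 :=
  block_of_check (k := 7) rfl (by decide +kernel)

theorem b1222 : Block F al 156416 156544 128 :=
  block_of_check (k := 7) rfl (by decide +kernel)

theorem b1223 : Block F al 156544 156672 128 :=
  block_of_check (k := 7) rfl (by decide +kernel)

theorem b1224 : Block F al 156672 156800 128 :=
  block_of_check (k := 7) rfl (by decide +kernel)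

theorem b1225 : Block F al 156800 156928 128 :=
  block_of_check (k := 7) rfl (by decide +kernel)

theorem b1226 : Block F al 156928 157056 128 :=
  block_of_check (k := 7) rfl (by decide +kernel)

theorem b1227 : Block F al 157056 157184 128 :=
  block_of_check (k := 7) rfl (by decide +kernel)

theorem b1228 : Block F al 157184 157312 128 :=
  block_of_check (k := 7) rfl (by decide +kernel)

theorem b1229 : Block F al 157312 157440 128 :=
  block_of_check (k := 7) rfl (by decide +kernel)

theorem b1230 : Block F al 157440 157568 128 :=
  block_of_check (k := 7) rfl (by decide +kernel)

theorem b1231 : Block F al 157568 157696 128 :=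
  block_of_check (k := 7) rfl (by decide +kernel)

theorem b1232 : Block F al 157696 157824 128 :=
  block_of_check (k := 7) rfl (by decide +kernel)

theorem b1233 : Block F al 157824 157952 128 :=
  block_of_check (k := 7) rfl (by decide +kernel)

theorem b1234 : Block F al 157952 158080 128 :=
  block_of_check (k := 7) rfl (by decide +kernel)

theorem b1235 : Block F al 158080 158208 128 :=
  block_of_check (k := 7) rfl (by decide +kernel)

theorem b1236 : Block F al 158208 158336 128 :=
  block_of_check (k := 7) rfl (by decide +kernel)

theorem b1237 : Block F al 158336 158464 128 :=
  block_of_check (k := 7) rfl (by decide +kernel)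

theorem b1238 : Block F al 158464 158592 128 :=
  block_of_check (k := 7) rfl (by decide +kernel)

theorem b1239 : Block F al 158592 158720 128 :=
  block_of_check (k := 7) rfl (by decide +kernel)

theorem b1240 : Block F al 158720 158848 126 :=
  block_of_check (k := 7) rfl (by decide +kernel)

theorem b1241 : Block F al 158848 158976 121 :=
  block_of_check (k := 7) rfl (by decide +kernel)

theorem b1242 : Block F al 158976 159104 128 :=
  block_of_check (k := 7) rfl (by decide +kernel)

theorem b1243 : Block F al 159104 159232 128 :=
  block_of_check (k := 7) rfl (by decide +kernel)

theorem b1244 : Block F al 159232 159360 128 :=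
  block_of_check (k := 7) rfl (by decide +kernel)

theorem b1245 : Block F al 159360 159488 128 :=
  block_of_check (k := 7) rfl (by decide +kernel)

theorem b1246 : Block F al 159488 159616 128 :=
  block_of_check (k := 7) rfl (by decide +kernel)

theorem b1247 : Block F al 159616 159744 128 :=
  block_of_check (k := 7) rfl (by decide +kernel)

theorem b1248 : Block F al 159744 159872 128 :=
  block_of_check (k := 7) rfl (by decide +kernel)

theorem b1249 : Block F al 159872 160000 128 :=
  block_of_check (k := 7) rfl (by decide +kernel)

theorem b1250 : Block F al 160000 160128 128 :=
  block_of_check (k := 7) rfl (by decide +kernel)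

theorem b1251 : Block F al 160128 160256 125 :=
  block_of_check (k := 7) rfl (by decide +kernel)

theorem b1252 : Block F al 160256 160384 128 :=
  block_of_check (k := 7) rfl (by decide +kernel)

theorem b1253 : Block F al 160384 160512 128 :=
  block_of_check (k := 7) rfl (by decide +kernel)

theorem b1254 : Block F al 160512 160640 128 :=
  block_of_check (k := 7) rfl (by decide +kernel)

theorem b1255 : Block F al 160640 160768 128 :=
  block_of_check (k := 7) rfl (by decide +kernel)

theorem b1256 : Block F al 160768 160896 128 :=
  block_of_check (k := 7) rfl (by decide +kernel)

theorem b1257 : Block F al 160896 161024 128 :=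
  block_of_check (k := 7) rfl (by decide +kernel)

end Cfsg.Agent.TcData.Fi24.I306936
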