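import Mathlib
import Cfsg.Agent.TcData.Fi24.I306936.Tab

set_option autoImplicit false
set_option Elab.async false
set_option maxRecDepth 100000
set_option linter.all false

namespace Cfsg.Agent.TcData.Fi24.I306936

open Cfsg.Spor Cfsg.Agent.Lib.TcFacts Cfsg.Agent.Lib.TcBits Cfsg.Agent.Lib.TcPres Cfsg.Spor.Fi24 Cfsg.Agent.TcData.Fi24

theorem b1258 : Block F al 161024 161152 128 :=
  block_of_check (k := 7) rfl (by decide +kernel)

theorem b1259 : Block F al 161152 161280 128 :=
  block_of_check (k := 7) rfl (by decide +kernel)

theorem b1260 : Block F al 161280 161408 128 :=
  block_of_check (k := 7) rfl (by decide +kernel)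

theorem b1261 : Block F al 161408 161536 128 :=
  block_of_check (k := 7) rfl (by decide +kernel)

theorem b1262 : Block F al 161536 161664 128 :=
  block_of_check (k := 7) rfl (by decide +kernel)

theorem b1263 : Block F al 161664 161792 128 :=
  block_of_check (k := 7) rfl (by decide +kernel)

theorem b1264 : Block F al 161792 161920 128 :=
  block_of_check (k := 7) rfl (by decide +kernel)

theorem b1265 : Block F al 161920 162048 128 :=
  block_of_check (k := 7) rfl (by decide +kernel)

theorem b1266 : Block F al 162048 162176 128 :=
  block_of_check (k := 7) rfl (by decide +kernel)

theorem b1267 : Block F al 162176 162304 128 :=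
  block_of_check (k := 7) rfl (by decide +kernel)

theorem b1268 : Block F al 162304 162432 128 :=
  block_of_check (k := 7) rfl (by decide +kernel)

theorem b1269 : Block F al 162432 162560 128 :=
  block_of_check (k := 7) rfl (by decide +kernel)

theorem b1270 : Block F al 162560 162688 128 :=
  block_of_check (k := 7) rfl (by decide +kernel)

theorem b1271 : Block F al 162688 162816 128 :=
  block_of_check (k := 7) rfl (by decide +kernel)

theorem b1272 : Block F al 162816 162944 128 :=
  block_of_check (k := 7) rfl (by decide +kernel)

theorem b1273 : Block F al 162944 163072 128 :=
  block_of_check (k := 7) rfl (by decide +kernel)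

theorem b1274 : Block F al 163072 163200 128 :=
  block_of_check (k := 7) rfl (by decide +kernel)

theorem b1275 : Block F al 163200 163328 128 :=
  block_of_check (k := 7) rfl (by decide +kernel)

theorem b1276 : Block F al 163328 163456 128 :=
  block_of_check (k := 7) rfl (by decide +kernel)

theorem b1277 : Block F al 163456 163584 128 :=
  block_of_check (k := 7) rfl (by decide +kernel)

theorem b1278 : Block F al 163584 163712 128 :=
  block_of_check (k := 7) rfl (by decide +kernel)

theorem b1279 : Block F al 163712 163840 128 :=
  block_of_check (k := 7) rfl (by decide +kernel)

theorem b1280 : Block F al 163840 163968 128 :=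
  block_of_check (k := 7) rfl (by decide +kernel)

theorem b1281 : Block F al 163968 164096 128 :=
  block_of_check (k := 7) rfl (by decide +kernel)

theorem b1282 : Block F al 164096 164224 128 :=
  block_of_check (k := 7) rfl (by decide +kernel)

theorem b1283 : Block F al 164224 164352 128 :=
  block_of_check (k := 7) rfl (by decide +kernel)

theorem b1284 : Block F al 164352 164480 128 :=
  block_of_check (k := 7) rfl (by decide +kernel)

theorem b1285 : Block F al 164480 164608 128 :=
  block_of_check (k := 7) rfl (by decide +kernel)

theorem b1286 : Block F al 164608 164736 128 :=
  block_of_check (k := 7) rfl (by decide +kernel)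

theorem b1287 : Block F al 164736 164864 128 :=
  block_of_check (k := 7) rfl (by decide +kernel)

theorem b1288 : Block F al 164864 164992 128 :=
  block_of_check (k := 7) rfl (by decide +kernel)

theorem b1289 : Block F al 164992 165120 128 :=
  block_of_check (k := 7) rfl (by decide +kernel)

theorem b1290 : Block F al 165120 165248 128 :=
  block_of_check (k := 7) rfl (by decide +kernel)

theorem b1291 : Block F al 165248 165376 128 :=
  block_of_check (k := 7) rfl (by decide +kernel)

theorem b1292 : Block F al 165376 165504 128 :=
  block_of_check (k := 7) rfl (by decide +kernel)

theorem b1293 : Block F al 165504 165632 128 :=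
  block_of_check (k := 7) rfl (by decide +kernel)

theorem b1294 : Block F al 165632 165760 128 :=
  block_of_check (k := 7) rfl (by decide +kernel)

theorem b1295 : Block F al 165760 165888 128 :=
  block_of_check (k := 7) rfl (by decide +kernel)

theorem b1296 : Block F al 165888 166016 128 :=
  block_of_check (k := 7) rfl (by decide +kernel)

theorem b1297 : Block F al 166016 166144 128 :=
  block_of_check (k := 7) rfl (by decide +kernel)

theorem b1298 : Block F al 166144 166272 128 :=
  block_of_check (k := 7) rfl (by decide +kernel)

theorem b1299 : Block F al 166272 166400 128 :=
  block_of_check (k := 7) rfl (by decide +kernel)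

theorem b1300 : Block F al 166400 166528 128 :=
  block_of_check (k := 7) rfl (by decide +kernel)

theorem b1301 : Block F al 166528 166656 128 :=
  block_of_check (k := 7) rfl (by decide +kernel)

theorem b1302 : Block F al 166656 166784 128 :=
  block_of_check (k := 7) rfl (by decide +kernel)

theorem b1303 : Block F al 166784 166912 128 :=
  block_of_check (k := 7) rfl (by decide +kernel)

theorem b1304 : Block F al 166912 167040 128 :=
  block_of_check (k := 7) rfl (by decide +kernel)

theorem b1305 : Block F al 167040 167168 128 :=
  block_of_check (k := 7) rfl (by decide +kernel)

theorem b1306 : Block F al 167168 167296 128 :=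
  block_of_check (k := 7) rfl (by decide +kernel)

theorem b1307 : Block F al 167296 167424 127 :=
  block_of_check (k := 7) rfl (by decide +kernel)

theorem b1308 : Block F al 167424 167552 128 :=
  block_of_check (k := 7) rfl (by decide +kernel)

end Cfsg.Agent.TcData.Fi24.I306936
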