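import Mathlib
import Cfsg.Agent.TcData.Fi24.I306936.Tab

set_option autoImplicit false
set_option Elab.async false
set_option maxRecDepth 100000
set_option linter.all false

namespace Cfsg.Agent.TcData.Fi24.I306936

open Cfsg.Spor Cfsg.Agent.Lib.TcFacts Cfsg.Agent.Lib.TcBits Cfsg.Agent.Lib.TcPres Cfsg.Spor.Fi24 Cfsg.Agent.TcData.Fi24

theorem b110 : Block F al 14080 14208 107 :=
  block_of_check (k := 7) rfl (by decide +kernel)

theorem b111 : Block F al 14208 14336 95 :=
  block_of_check (k := 7) rfl (by decide +kernel)

theorem b112 : Block F al 14336 14464 105 :=
  block_of_check (k := 7) rfl (by decide +kernel)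

theorem b113 : Block F al 14464 14592 82 :=
  block_of_check (k := 7) rfl (by decide +kernel)

theorem b114 : Block F al 14592 14720 124 :=
  block_of_check (k := 7) rfl (by decide +kernel)

theorem b115 : Block F al 14720 14848 127 :=
  block_of_check (k := 7) rfl (by decide +kernel)

theorem b116 : Block F al 14848 14976 102 :=
  block_of_check (k := 7) rfl (by decide +kernel)

theorem b117 : Block F al 14976 15104 122 :=
  block_of_check (k := 7) rfl (by decide +kernel)

theorem b118 : Block F al 15104 15232 103 :=
  block_of_check (k := 7) rfl (by decide +kernel)

theorem b119 : Block F al 15232 15360 119 :=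
  block_of_check (k := 7) rfl (by decide +kernel)

theorem b120 : Block F al 15360 15488 125 :=
  block_of_check (k := 7) rfl (by decide +kernel)

theorem b121 : Block F al 15488 15616 68 :=
  block_of_check (k := 7) rfl (by decide +kernel)

theorem b122 : Block F al 15616 15744 91 :=
  block_of_check (k := 7) rfl (by decide +kernel)

theorem b123 : Block F al 15744 15872 122 :=
  block_of_check (k := 7) rfl (by decide +kernel)

theorem b124 : Block F al 15872 16000 124 :=
  block_of_check (k := 7) rfl (by decide +kernel)

theorem b125 : Block F al 16000 16128 125 :=
  block_of_check (k := 7) rfl (by decide +kernel)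

theorem b126 : Block F al 16128 16256 128 :=
  block_of_check (k := 7) rfl (by decide +kernel)

theorem b127 : Block F al 16256 16384 93 :=
  block_of_check (k := 7) rfl (by decide +kernel)

theorem b128 : Block F al 16384 16512 117 :=
  block_of_check (k := 7) rfl (by decide +kernel)

theorem b129 : Block F al 16512 16640 112 :=
  block_of_check (k := 7) rfl (by decide +kernel)

theorem b130 : Block F al 16640 16768 95 :=
  block_of_check (k := 7) rfl (by decide +kernel)

theorem b131 : Block F al 16768 16896 118 :=
  block_of_check (k := 7) rfl (by decide +kernel)

theorem b132 : Block F al 16896 17024 122 :=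
  block_of_check (k := 7) rfl (by decide +kernel)

theorem b133 : Block F al 17024 17152 124 :=
  block_of_check (k := 7) rfl (by decide +kernel)

theorem b134 : Block F al 17152 17280 63 :=
  block_of_check (k := 7) rfl (by decide +kernel)

theorem b135 : Block F al 17280 17408 72 :=
  block_of_check (k := 7) rfl (by decide +kernel)

theorem b136 : Block F al 17408 17536 50 :=
  block_of_check (k := 7) rfl (by decide +kernel)

theorem b137 : Block F al 17536 17664 62 :=
  block_of_check (k := 7) rfl (by decide +kernel)

theorem b138 : Block F al 17664 17792 21 :=
  block_of_check (k := 7) rfl (by decide +kernel)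

theorem b139 : Block F al 17792 17920 118 :=
  block_of_check (k := 7) rfl (by decide +kernel)

theorem b140 : Block F al 17920 18048 127 :=
  block_of_check (k := 7) rfl (by decide +kernel)

theorem b141 : Block F al 18048 18176 84 :=
  block_of_check (k := 7) rfl (by decide +kernel)

theorem b142 : Block F al 18176 18304 89 :=
  block_of_check (k := 7) rfl (by decide +kernel)

theorem b143 : Block F al 18304 18432 86 :=
  block_of_check (k := 7) rfl (by decide +kernel)

theorem b144 : Block F al 18432 18560 95 :=
  block_of_check (k := 7) rfl (by decide +kernel)

theorem b145 : Block F al 18560 18688 38 :=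
  block_of_check (k := 7) rfl (by decide +kernel)

theorem b146 : Block F al 18688 18816 113 :=
  block_of_check (k := 7) rfl (by decide +kernel)

theorem b147 : Block F al 18816 18944 122 :=
  block_of_check (k := 7) rfl (by decide +kernel)

theorem b148 : Block F al 18944 19072 121 :=
  block_of_check (k := 7) rfl (by decide +kernel)

theorem b149 : Block F al 19072 19200 128 :=
  block_of_check (k := 7) rfl (by decide +kernel)

theorem b150 : Block F al 19200 19328 81 :=
  block_of_check (k := 7) rfl (by decide +kernel)

theorem b151 : Block F al 19328 19456 107 :=
  block_of_check (k := 7) rfl (by decide +kernel)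

theorem b152 : Block F al 19456 19584 98 :=
  block_of_check (k := 7) rfl (by decide +kernel)

theorem b153 : Block F al 19584 19712 89 :=
  block_of_check (k := 7) rfl (by decide +kernel)

theorem b154 : Block F al 19712 19840 112 :=
  block_of_check (k := 7) rfl (by decide +kernel)

theorem b155 : Block F al 19840 19968 125 :=
  block_of_check (k := 7) rfl (by decide +kernel)

theorem b156 : Block F al 19968 20096 65 :=
  block_of_check (k := 7) rfl (by decide +kernel)

theorem b157 : Block F al 20096 20224 57 :=
  block_of_check (k := 7) rfl (by decide +kernel)

theorem b158 : Block F al 20224 20352 84 :=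
  block_of_check (k := 7) rfl (by decide +kernel)

theorem b159 : Block F al 20352 20480 122 :=
  block_of_check (k := 7) rfl (by decide +kernel)

theorem b160 : Block F al 20480 20608 115 :=
  block_of_check (k := 7) rfl (by decide +kernel)

theorem b161 : Block F al 20608 20736 123 :=
  block_of_check (k := 7) rfl (by decide +kernel)

theorem b162 : Block F al 20736 20864 122 :=
  block_of_check (k := 7) rfl (by decide +kernel)

end Cfsg.Agent.TcData.Fi24.I306936
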