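import Mathlib
import Cfsg.Agent.TcData.Fi24.I306936.Tab

set_option autoImplicit false
set_option Elab.async false
set_option maxRecDepth 100000
set_option linter.all false

namespace Cfsg.Agent.TcData.Fi24.I306936

open Cfsg.Spor Cfsg.Agent.Lib.TcFacts Cfsg.Agent.Lib.TcBits Cfsg.Agent.Lib.TcPres Cfsg.Spor.Fi24 Cfsg.Agent.TcData.Fi24

theorem b1309 : Block F al 167552 167680 128 :=
  block_of_check (k := 7) rfl (by decide +kernel)

theorem b1310 : Block F al 167680 167808 128 :=
  block_of_check (k := 7) rfl (by decide +kernel)

theorem b1311 : Block F al 167808 167936 128 :=
  block_of_check (k := 7) rfl (by decide +kernel)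

theorem b1312 : Block F al 167936 168064 128 :=
  block_of_check (k := 7) rfl (by decide +kernel)

theorem b1313 : Block F al 168064 168192 128 :=
  block_of_check (k := 7) rfl (by decide +kernel)

theorem b1314 : Block F al 168192 168320 128 :=
  block_of_check (k := 7) rfl (by decide +kernel)

theorem b1315 : Block F al 168320 168448 128 :=
  block_of_check (k := 7) rfl (by decide +kernel)

theorem b1316 : Block F al 168448 168576 128 :=
  block_of_check (k := 7) rfl (by decide +kernel)

theorem b1317 : Block F al 168576 168704 128 :=
  block_of_check (k := 7) rfl (by decide +kernel)

theorem b1318 : Block F al 168704 168832 128 :=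
  block_of_check (k := 7) rfl (by decide +kernel)

theorem b1319 : Block F al 168832 168960 128 :=
  block_of_check (k := 7) rfl (by decide +kernel)

theorem b1320 : Block F al 168960 169088 128 :=
  block_of_check (k := 7) rfl (by decide +kernel)

theorem b1321 : Block F al 169088 169216 128 :=
  block_of_check (k := 7) rfl (by decide +kernel)

theorem b1322 : Block F al 169216 169344 128 :=
  block_of_check (k := 7) rfl (by decide +kernel)

theorem b1323 : Block F al 169344 169472 128 :=
  block_of_check (k := 7) rfl (by decide +kernel)

theorem b1324 : Block F al 169472 169600 128 :=
  block_of_check (k := 7) rfl (by decide +kernel)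

theorem b1325 : Block F al 169600 169728 128 :=
  block_of_check (k := 7) rfl (by decide +kernel)

theorem b1326 : Block F al 169728 169856 128 :=
  block_of_check (k := 7) rfl (by decide +kernel)

theorem b1327 : Block F al 169856 169984 128 :=
  block_of_check (k := 7) rfl (by decide +kernel)

theorem b1328 : Block F al 169984 170112 128 :=
  block_of_check (k := 7) rfl (by decide +kernel)

theorem b1329 : Block F al 170112 170240 128 :=
  block_of_check (k := 7) rfl (by decide +kernel)

theorem b1330 : Block F al 170240 170368 128 :=
  block_of_check (k := 7) rfl (by decide +kernel)

theorem b1331 : Block F al 170368 170496 128 :=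
  block_of_check (k := 7) rfl (by decide +kernel)

theorem b1332 : Block F al 170496 170624 128 :=
  block_of_check (k := 7) rfl (by decide +kernel)

theorem b1333 : Block F al 170624 170752 128 :=
  block_of_check (k := 7) rfl (by decide +kernel)

theorem b1334 : Block F al 170752 170880 128 :=
  block_of_check (k := 7) rfl (by decide +kernel)

theorem b1335 : Block F al 170880 171008 128 :=
  block_of_check (k := 7) rfl (by decide +kernel)

theorem b1336 : Block F al 171008 171136 128 :=
  block_of_check (k := 7) rfl (by decide +kernel)

theorem b1337 : Block F al 171136 171264 128 :=
  block_of_check (k := 7) rfl (by decide +kernel)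

theorem b1338 : Block F al 171264 171392 128 :=
  block_of_check (k := 7) rfl (by decide +kernel)

theorem b1339 : Block F al 171392 171520 128 :=
  block_of_check (k := 7) rfl (by decide +kernel)

theorem b1340 : Block F al 171520 171648 128 :=
  block_of_check (k := 7) rfl (by decide +kernel)

theorem b1341 : Block F al 171648 171776 128 :=
  block_of_check (k := 7) rfl (by decide +kernel)

theorem b1342 : Block F al 171776 171904 128 :=
  block_of_check (k := 7) rfl (by decide +kernel)

theorem b1343 : Block F al 171904 172032 128 :=
  block_of_check (k := 7) rfl (by decide +kernel)

theorem b1344 : Block F al 172032 172160 128 :=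
  block_of_check (k := 7) rfl (by decide +kernel)

theorem b1345 : Block F al 172160 172288 128 :=
  block_of_check (k := 7) rfl (by decide +kernel)

theorem b1346 : Block F al 172288 172416 128 :=
  block_of_check (k := 7) rfl (by decide +kernel)

theorem b1347 : Block F al 172416 172544 128 :=
  block_of_check (k := 7) rfl (by decide +kernel)

theorem b1348 : Block F al 172544 172672 128 :=
  block_of_check (k := 7) rfl (by decide +kernel)

theorem b1349 : Block F al 172672 172800 128 :=
  block_of_check (k := 7) rfl (by decide +kernel)

theorem b1350 : Block F al 172800 172928 128 :=
  block_of_check (k := 7) rfl (by decide +kernel)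

theorem b1351 : Block F al 172928 173056 128 :=
  block_of_check (k := 7) rfl (by decide +kernel)

theorem b1352 : Block F al 173056 173184 128 :=
  block_of_check (k := 7) rfl (by decide +kernel)

theorem b1353 : Block F al 173184 173312 128 :=
  block_of_check (k := 7) rfl (by decide +kernel)

theorem b1354 : Block F al 173312 173440 128 :=
  block_of_check (k := 7) rfl (by decide +kernel)

theorem b1355 : Block F al 173440 173568 128 :=
  block_of_check (k := 7) rfl (by decide +kernel)

end Cfsg.Agent.TcData.Fi24.I306936
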