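import Mathlib
import Cfsg.Agent.TcData.Fi24.I306936.Tab

set_option autoImplicit false
set_option Elab.async false
set_option maxRecDepth 100000
set_option linter.all false

namespace Cfsg.Agent.TcData.Fi24.I306936

open Cfsg.Spor Cfsg.Agent.Lib.TcFacts Cfsg.Agent.Lib.TcBits Cfsg.Agent.Lib.TcPres Cfsg.Spor.Fi24 Cfsg.Agent.TcData.Fi24

theorem b1356 : Block F al 173568 173696 128 :=
  block_of_check (k := 7) rfl (by decide +kernel)

theorem b1357 : Block F al 173696 173824 128 :=
  block_of_check (k := 7) rfl (by decide +kernel)

theorem b1358 : Block F al 173824 173952 128 :=
  block_of_check (k := 7) rfl (by decide +kernel)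

theorem b1359 : Block F al 173952 174080 128 :=
  block_of_check (k := 7) rfl (by decide +kernel)

theorem b1360 : Block F al 174080 174208 128 :=
  block_of_check (k := 7) rfl (by decide +kernel)

theorem b1361 : Block F al 174208 174336 128 :=
  block_of_check (k := 7) rfl (by decide +kernel)

theorem b1362 : Block F al 174336 174464 128 :=
  block_of_check (k := 7) rfl (by decide +kernel)

theorem b1363 : Block F al 174464 174592 128 :=
  block_of_check (k := 7) rfl (by decide +kernel)

theorem b1364 : Block F al 174592 174720 128 :=
  block_of_check (k := 7) rfl (by decide +kernel)

theorem b1365 : Block F al 174720 174848 128 :=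
  block_of_check (k := 7) rfl (by decide +kernel)

theorem b1366 : Block F al 174848 174976 128 :=
  block_of_check (k := 7) rfl (by decide +kernel)

theorem b1367 : Block F al 174976 175104 128 :=
  block_of_check (k := 7) rfl (by decide +kernel)

theorem b1368 : Block F al 175104 175232 128 :=
  block_of_check (k := 7) rfl (by decide +kernel)

theorem b1369 : Block F al 175232 175360 128 :=
  block_of_check (k := 7) rfl (by decide +kernel)

theorem b1370 : Block F al 175360 175488 128 :=
  block_of_check (k := 7) rfl (by decide +kernel)

theorem b1371 : Block F al 175488 175616 128 :=
  block_of_check (k := 7) rfl (by decide +kernel)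

theorem b1372 : Block F al 175616 175744 128 :=
  block_of_check (k := 7) rfl (by decide +kernel)

theorem b1373 : Block F al 175744 175872 128 :=
  block_of_check (k := 7) rfl (by decide +kernel)

theorem b1374 : Block F al 175872 176000 128 :=
  block_of_check (k := 7) rfl (by decide +kernel)

theorem b1375 : Block F al 176000 176128 128 :=
  block_of_check (k := 7) rfl (by decide +kernel)

theorem b1376 : Block F al 176128 176256 128 :=
  block_of_check (k := 7) rfl (by decide +kernel)

theorem b1377 : Block F al 176256 176384 128 :=
  block_of_check (k := 7) rfl (by decide +kernel)

theorem b1378 : Block F al 176384 176512 128 :=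
  block_of_check (k := 7) rfl (by decide +kernel)

theorem b1379 : Block F al 176512 176640 128 :=
  block_of_check (k := 7) rfl (by decide +kernel)

theorem b1380 : Block F al 176640 176768 128 :=
  block_of_check (k := 7) rfl (by decide +kernel)

theorem b1381 : Block F al 176768 176896 128 :=
  block_of_check (k := 7) rfl (by decide +kernel)

theorem b1382 : Block F al 176896 177024 128 :=
  block_of_check (k := 7) rfl (by decide +kernel)

theorem b1383 : Block F al 177024 177152 128 :=
  block_of_check (k := 7) rfl (by decide +kernel)

theorem b1384 : Block F al 177152 177280 128 :=
  block_of_check (k := 7) rfl (by decide +kernel)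

theorem b1385 : Block F al 177280 177408 128 :=
  block_of_check (k := 7) rfl (by decide +kernel)

theorem b1386 : Block F al 177408 177536 128 :=
  block_of_check (k := 7) rfl (by decide +kernel)

theorem b1387 : Block F al 177536 177664 128 :=
  block_of_check (k := 7) rfl (by decide +kernel)

theorem b1388 : Block F al 177664 177792 128 :=
  block_of_check (k := 7) rfl (by decide +kernel)

theorem b1389 : Block F al 177792 177920 128 :=
  block_of_check (k := 7) rfl (by decide +kernel)

theorem b1390 : Block F al 177920 178048 128 :=
  block_of_check (k := 7) rfl (by decide +kernel)

theorem b1391 : Block F al 178048 178176 128 :=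
  block_of_check (k := 7) rfl (by decide +kernel)

theorem b1392 : Block F al 178176 178304 128 :=
  block_of_check (k := 7) rfl (by decide +kernel)

theorem b1393 : Block F al 178304 178432 128 :=
  block_of_check (k := 7) rfl (by decide +kernel)

theorem b1394 : Block F al 178432 178560 128 :=
  block_of_check (k := 7) rfl (by decide +kernel)

theorem b1395 : Block F al 178560 178688 128 :=
  block_of_check (k := 7) rfl (by decide +kernel)

theorem b1396 : Block F al 178688 178816 128 :=
  block_of_check (k := 7) rfl (by decide +kernel)

theorem b1397 : Block F al 178816 178944 128 :=
  block_of_check (k := 7) rfl (by decide +kernel)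

theorem b1398 : Block F al 178944 179072 128 :=
  block_of_check (k := 7) rfl (by decide +kernel)

theorem b1399 : Block F al 179072 179200 128 :=
  block_of_check (k := 7) rfl (by decide +kernel)

theorem b1400 : Block F al 179200 179328 128 :=
  block_of_check (k := 7) rfl (by decide +kernel)

theorem b1401 : Block F al 179328 179456 128 :=
  block_of_check (k := 7) rfl (by decide +kernel)

theorem b1402 : Block F al 179456 179584 128 :=
  block_of_check (k := 7) rfl (by decide +kernel)

theorem b1403 : Block F al 179584 179712 128 :=
  block_of_check (k := 7) rfl (by decide +kernel)

theorem b1404 : Block F al 179712 179840 128 :=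
  block_of_check (k := 7) rfl (by decide +kernel)

end Cfsg.Agent.TcData.Fi24.I306936
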