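import Mathlib
import Cfsg.Agent.TcData.Fi24.I306936.Tab

set_option autoImplicit false
set_option Elab.async false
set_option maxRecDepth 100000
set_option linter.all false

namespace Cfsg.Agent.TcData.Fi24.I306936

open Cfsg.Spor Cfsg.Agent.Lib.TcFacts Cfsg.Agent.Lib.TcBits Cfsg.Agent.Lib.TcPres Cfsg.Spor.Fi24 Cfsg.Agent.TcData.Fi24

theorem b1405 : Block F al 179840 179968 128 :=
  block_of_check (k := 7) rfl (by decide +kernel)

theorem b1406 : Block F al 179968 180096 128 :=
  block_of_check (k := 7) rfl (by decide +kernel)

theorem b1407 : Block F al 180096 180224 128 :=
  block_of_check (k := 7) rfl (by decide +kernel)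

theorem b1408 : Block F al 180224 180352 128 :=
  block_of_check (k := 7) rfl (by decide +kernel)

theorem b1409 : Block F al 180352 180480 128 :=
  block_of_check (k := 7) rfl (by decide +kernel)

theorem b1410 : Block F al 180480 180608 128 :=
  block_of_check (k := 7) rfl (by decide +kernel)

theorem b1411 : Block F al 180608 180736 128 :=
  block_of_check (k := 7) rfl (by decide +kernel)

theorem b1412 : Block F al 180736 180864 128 :=
  block_of_check (k := 7) rfl (by decide +kernel)

theorem b1413 : Block F al 180864 180992 128 :=
  block_of_check (k := 7) rfl (by decide +kernel)

theorem b1414 : Block F al 180992 181120 128 :=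
  block_of_check (k := 7) rfl (by decide +kernel)

theorem b1415 : Block F al 181120 181248 128 :=
  block_of_check (k := 7) rfl (by decide +kernel)

theorem b1416 : Block F al 181248 181376 128 :=
  block_of_check (k := 7) rfl (by decide +kernel)

theorem b1417 : Block F al 181376 181504 128 :=
  block_of_check (k := 7) rfl (by decide +kernel)

theorem b1418 : Block F al 181504 181632 128 :=
  block_of_check (k := 7) rfl (by decide +kernel)

theorem b1419 : Block F al 181632 181760 128 :=
  block_of_check (k := 7) rfl (by decide +kernel)

theorem b1420 : Block F al 181760 181888 128 :=
  block_of_check (k := 7) rfl (by decide +kernel)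

theorem b1421 : Block F al 181888 182016 128 :=
  block_of_check (k := 7) rfl (by decide +kernel)

theorem b1422 : Block F al 182016 182144 128 :=
  block_of_check (k := 7) rfl (by decide +kernel)

theorem b1423 : Block F al 182144 182272 128 :=
  block_of_check (k := 7) rfl (by decide +kernel)

theorem b1424 : Block F al 182272 182400 128 :=
  block_of_check (k := 7) rfl (by decide +kernel)

theorem b1425 : Block F al 182400 182528 128 :=
  block_of_check (k := 7) rfl (by decide +kernel)

theorem b1426 : Block F al 182528 182656 128 :=
  block_of_check (k := 7) rfl (by decide +kernel)

theorem b1427 : Block F al 182656 182784 128 :=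
  block_of_check (k := 7) rfl (by decide +kernel)

theorem b1428 : Block F al 182784 182912 128 :=
  block_of_check (k := 7) rfl (by decide +kernel)

theorem b1429 : Block F al 182912 183040 128 :=
  block_of_check (k := 7) rfl (by decide +kernel)

theorem b1430 : Block F al 183040 183168 128 :=
  block_of_check (k := 7) rfl (by decide +kernel)

theorem b1431 : Block F al 183168 183296 128 :=
  block_of_check (k := 7) rfl (by decide +kernel)

theorem b1432 : Block F al 183296 183424 128 :=
  block_of_check (k := 7) rfl (by decide +kernel)

theorem b1433 : Block F al 183424 183552 128 :=
  block_of_check (k := 7) rfl (by decide +kernel)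

theorem b1434 : Block F al 183552 183680 128 :=
  block_of_check (k := 7) rfl (by decide +kernel)

theorem b1435 : Block F al 183680 183808 128 :=
  block_of_check (k := 7) rfl (by decide +kernel)

theorem b1436 : Block F al 183808 183936 128 :=
  block_of_check (k := 7) rfl (by decide +kernel)

theorem b1437 : Block F al 183936 184064 128 :=
  block_of_check (k := 7) rfl (by decide +kernel)

theorem b1438 : Block F al 184064 184192 128 :=
  block_of_check (k := 7) rfl (by decide +kernel)

theorem b1439 : Block F al 184192 184320 128 :=
  block_of_check (k := 7) rfl (by decide +kernel)

theorem b1440 : Block F al 184320 184448 128 :=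
  block_of_check (k := 7) rfl (by decide +kernel)

theorem b1441 : Block F al 184448 184576 128 :=
  block_of_check (k := 7) rfl (by decide +kernel)

theorem b1442 : Block F al 184576 184704 128 :=
  block_of_check (k := 7) rfl (by decide +kernel)

theorem b1443 : Block F al 184704 184832 128 :=
  block_of_check (k := 7) rfl (by decide +kernel)

theorem b1444 : Block F al 184832 184960 128 :=
  block_of_check (k := 7) rfl (by decide +kernel)

theorem b1445 : Block F al 184960 185088 128 :=
  block_of_check (k := 7) rfl (by decide +kernel)

theorem b1446 : Block F al 185088 185216 128 :=
  block_of_check (k := 7) rfl (by decide +kernel)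

theorem b1447 : Block F al 185216 185344 128 :=
  block_of_check (k := 7) rfl (by decide +kernel)

theorem b1448 : Block F al 185344 185472 128 :=
  block_of_check (k := 7) rfl (by decide +kernel)

theorem b1449 : Block F al 185472 185600 128 :=
  block_of_check (k := 7) rfl (by decide +kernel)

theorem b1450 : Block F al 185600 185728 128 :=
  block_of_check (k := 7) rfl (by decide +kernel)

theorem b1451 : Block F al 185728 185856 128 :=
  block_of_check (k := 7) rfl (by decide +kernel)

theorem b1452 : Block F al 185856 185984 128 :=
  block_of_check (k := 7) rfl (by decide +kernel)

theorem b1453 : Block F al 185984 186112 128 :=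
  block_of_check (k := 7) rfl (by decide +kernel)

theorem b1454 : Block F al 186112 186240 128 :=
  block_of_check (k := 7) rfl (by decide +kernel)

theorem b1455 : Block F al 186240 186368 128 :=
  block_of_check (k := 7) rfl (by decide +kernel)

end Cfsg.Agent.TcData.Fi24.I306936
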