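import Mathlib
import Cfsg.Agent.TcData.Fi24.I306936.Tab

set_option autoImplicit false
set_option Elab.async false
set_option maxRecDepth 100000
set_option linter.all false

namespace Cfsg.Agent.TcData.Fi24.I306936

open Cfsg.Spor Cfsg.Agent.Lib.TcFacts Cfsg.Agent.Lib.TcBits Cfsg.Agent.Lib.TcPres Cfsg.Spor.Fi24 Cfsg.Agent.TcData.Fi24

theorem b1503 : Block F al 192384 192512 128 :=
  block_of_check (k := 7) rfl (by decide +kernel)

theorem b1504 : Block F al 192512 192640 128 :=
  block_of_check (k := 7) rfl (by decide +kernel)

theorem b1505 : Block F al 192640 192768 128 :=
  block_of_check (k := 7) rfl (by decide +kernel)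

theorem b1506 : Block F al 192768 192896 128 :=
  block_of_check (k := 7) rfl (by decide +kernel)

theorem b1507 : Block F al 192896 193024 128 :=
  block_of_check (k := 7) rfl (by decide +kernel)

theorem b1508 : Block F al 193024 193152 128 :=
  block_of_check (k := 7) rfl (by decide +kernel)

theorem b1509 : Block F al 193152 193280 128 :=
  block_of_check (k := 7) rfl (by decide +kernel)

theorem b1510 : Block F al 193280 193408 128 :=
  block_of_check (k := 7) rfl (by decide +kernel)

theorem b1511 : Block F al 193408 193536 128 :=
  block_of_check (k := 7) rfl (by decide +kernel)

theorem b1512 : Block F al 193536 193664 128 :=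
  block_of_check (k := 7) rfl (by decide +kernel)

theorem b1513 : Block F al 193664 193792 128 :=
  block_of_check (k := 7) rfl (by decide +kernel)

theorem b1514 : Block F al 193792 193920 128 :=
  block_of_check (k := 7) rfl (by decide +kernel)

theorem b1515 : Block F al 193920 194048 128 :=
  block_of_check (k := 7) rfl (by decide +kernel)

theorem b1516 : Block F al 194048 194176 128 :=
  block_of_check (k := 7) rfl (by decide +kernel)

theorem b1517 : Block F al 194176 194304 128 :=
  block_of_check (k := 7) rfl (by decide +kernel)

theorem b1518 : Block F al 194304 194432 128 :=
  block_of_check (k := 7) rfl (by decide +kernel)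

theorem b1519 : Block F al 194432 194560 128 :=
  block_of_check (k := 7) rfl (by decide +kernel)

theorem b1520 : Block F al 194560 194688 128 :=
  block_of_check (k := 7) rfl (by decide +kernel)

theorem b1521 : Block F al 194688 194816 128 :=
  block_of_check (k := 7) rfl (by decide +kernel)

theorem b1522 : Block F al 194816 194944 128 :=
  block_of_check (k := 7) rfl (by decide +kernel)

theorem b1523 : Block F al 194944 195072 128 :=
  block_of_check (k := 7) rfl (by decide +kernel)

theorem b1524 : Block F al 195072 195200 128 :=
  block_of_check (k := 7) rfl (by decide +kernel)

theorem b1525 : Block F al 195200 195328 128 :=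
  block_of_check (k := 7) rfl (by decide +kernel)

theorem b1526 : Block F al 195328 195456 128 :=
  block_of_check (k := 7) rfl (by decide +kernel)

theorem b1527 : Block F al 195456 195584 128 :=
  block_of_check (k := 7) rfl (by decide +kernel)

theorem b1528 : Block F al 195584 195712 128 :=
  block_of_check (k := 7) rfl (by decide +kernel)

theorem b1529 : Block F al 195712 195840 128 :=
  block_of_check (k := 7) rfl (by decide +kernel)

theorem b1530 : Block F al 195840 195968 128 :=
  block_of_check (k := 7) rfl (by decide +kernel)

theorem b1531 : Block F al 195968 196096 128 :=
  block_of_check (k := 7) rfl (by decide +kernel)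

theorem b1532 : Block F al 196096 196224 128 :=
  block_of_check (k := 7) rfl (by decide +kernel)

theorem b1533 : Block F al 196224 196352 128 :=
  block_of_check (k := 7) rfl (by decide +kernel)

theorem b1534 : Block F al 196352 196480 128 :=
  block_of_check (k := 7) rfl (by decide +kernel)

theorem b1535 : Block F al 196480 196608 128 :=
  block_of_check (k := 7) rfl (by decide +kernel)

theorem b1536 : Block F al 196608 196736 128 :=
  block_of_check (k := 7) rfl (by decide +kernel)

theorem b1537 : Block F al 196736 196864 128 :=
  block_of_check (k := 7) rfl (by decide +kernel)

theorem b1538 : Block F al 196864 196992 128 :=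
  block_of_check (k := 7) rfl (by decide +kernel)

theorem b1539 : Block F al 196992 197120 128 :=
  block_of_check (k := 7) rfl (by decide +kernel)

theorem b1540 : Block F al 197120 197248 128 :=
  block_of_check (k := 7) rfl (by decide +kernel)

theorem b1541 : Block F al 197248 197376 128 :=
  block_of_check (k := 7) rfl (by decide +kernel)

theorem b1542 : Block F al 197376 197504 128 :=
  block_of_check (k := 7) rfl (by decide +kernel)

theorem b1543 : Block F al 197504 197632 128 :=
  block_of_check (k := 7) rfl (by decide +kernel)

theorem b1544 : Block F al 197632 197760 128 :=
  block_of_check (k := 7) rfl (by decide +kernel)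

theorem b1545 : Block F al 197760 197888 128 :=
  block_of_check (k := 7) rfl (by decide +kernel)

theorem b1546 : Block F al 197888 198016 128 :=
  block_of_check (k := 7) rfl (by decide +kernel)

theorem b1547 : Block F al 198016 198144 128 :=
  block_of_check (k := 7) rfl (by decide +kernel)

theorem b1548 : Block F al 198144 198272 128 :=
  block_of_check (k := 7) rfl (by decide +kernel)

theorem b1549 : Block F al 198272 198400 128 :=
  block_of_check (k := 7) rfl (by decide +kernel)

theorem b1550 : Block F al 198400 198528 128 :=
  block_of_check (k := 7) rfl (by decide +kernel)

theorem b1551 : Block F al 198528 198656 128 :=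
  block_of_check (k := 7) rfl (by decide +kernel)

end Cfsg.Agent.TcData.Fi24.I306936
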