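import Mathlib
import Cfsg.Agent.TcData.Fi24.I306936.Tab

set_option autoImplicit false
set_option Elab.async false
set_option maxRecDepth 100000
set_option linter.all false

namespace Cfsg.Agent.TcData.Fi24.I306936

open Cfsg.Spor Cfsg.Agent.Lib.TcFacts Cfsg.Agent.Lib.TcBits Cfsg.Agent.Lib.TcPres Cfsg.Spor.Fi24 Cfsg.Agent.TcData.Fi24

theorem b1552 : Block F al 198656 198784 128 :=
  block_of_check (k := 7) rfl (by decide +kernel)

theorem b1553 : Block F al 198784 198912 128 :=
  block_of_check (k := 7) rfl (by decide +kernel)

theorem b1554 : Block F al 198912 199040 128 :=
  block_of_check (k := 7) rfl (by decide +kernel)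

theorem b1555 : Block F al 199040 199168 128 :=
  block_of_check (k := 7) rfl (by decide +kernel)

theorem b1556 : Block F al 199168 199296 128 :=
  block_of_check (k := 7) rfl (by decide +kernel)

theorem b1557 : Block F al 199296 199424 128 :=
  block_of_check (k := 7) rfl (by decide +kernel)

theorem b1558 : Block F al 199424 199552 128 :=
  block_of_check (k := 7) rfl (by decide +kernel)

theorem b1559 : Block F al 199552 199680 128 :=
  block_of_check (k := 7) rfl (by decide +kernel)

theorem b1560 : Block F al 199680 199808 128 :=
  block_of_check (k := 7) rfl (by decide +kernel)

theorem b1561 : Block F al 199808 199936 128 :=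
  block_of_check (k := 7) rfl (by decide +kernel)

theorem b1562 : Block F al 199936 200064 128 :=
  block_of_check (k := 7) rfl (by decide +kernel)

theorem b1563 : Block F al 200064 200192 128 :=
  block_of_check (k := 7) rfl (by decide +kernel)

theorem b1564 : Block F al 200192 200320 128 :=
  block_of_check (k := 7) rfl (by decide +kernel)

theorem b1565 : Block F al 200320 200448 128 :=
  block_of_check (k := 7) rfl (by decide +kernel)

theorem b1566 : Block F al 200448 200576 128 :=
  block_of_check (k := 7) rfl (by decide +kernel)

theorem b1567 : Block F al 200576 200704 128 :=
  block_of_check (k := 7) rfl (by decide +kernel)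

theorem b1568 : Block F al 200704 200832 128 :=
  block_of_check (k := 7) rfl (by decide +kernel)

theorem b1569 : Block F al 200832 200960 128 :=
  block_of_check (k := 7) rfl (by decide +kernel)

theorem b1570 : Block F al 200960 201088 128 :=
  block_of_check (k := 7) rfl (by decide +kernel)

theorem b1571 : Block F al 201088 201216 128 :=
  block_of_check (k := 7) rfl (by decide +kernel)

theorem b1572 : Block F al 201216 201344 128 :=
  block_of_check (k := 7) rfl (by decide +kernel)

theorem b1573 : Block F al 201344 201472 128 :=
  block_of_check (k := 7) rfl (by decide +kernel)

theorem b1574 : Block F al 201472 201600 128 :=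
  block_of_check (k := 7) rfl (by decide +kernel)

theorem b1575 : Block F al 201600 201728 128 :=
  block_of_check (k := 7) rfl (by decide +kernel)

theorem b1576 : Block F al 201728 201856 128 :=
  block_of_check (k := 7) rfl (by decide +kernel)

theorem b1577 : Block F al 201856 201984 128 :=
  block_of_check (k := 7) rfl (by decide +kernel)

theorem b1578 : Block F al 201984 202112 128 :=
  block_of_check (k := 7) rfl (by decide +kernel)

theorem b1579 : Block F al 202112 202240 128 :=
  block_of_check (k := 7) rfl (by decide +kernel)

theorem b1580 : Block F al 202240 202368 128 :=
  block_of_check (k := 7) rfl (by decide +kernel)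

theorem b1581 : Block F al 202368 202496 128 :=
  block_of_check (k := 7) rfl (by decide +kernel)

theorem b1582 : Block F al 202496 202624 128 :=
  block_of_check (k := 7) rfl (by decide +kernel)

theorem b1583 : Block F al 202624 202752 128 :=
  block_of_check (k := 7) rfl (by decide +kernel)

theorem b1584 : Block F al 202752 202880 128 :=
  block_of_check (k := 7) rfl (by decide +kernel)

theorem b1585 : Block F al 202880 203008 128 :=
  block_of_check (k := 7) rfl (by decide +kernel)

theorem b1586 : Block F al 203008 203136 128 :=
  block_of_check (k := 7) rfl (by decide +kernel)

theorem b1587 : Block F al 203136 203264 128 :=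
  block_of_check (k := 7) rfl (by decide +kernel)

theorem b1588 : Block F al 203264 203392 128 :=
  block_of_check (k := 7) rfl (by decide +kernel)

theorem b1589 : Block F al 203392 203520 128 :=
  block_of_check (k := 7) rfl (by decide +kernel)

theorem b1590 : Block F al 203520 203648 128 :=
  block_of_check (k := 7) rfl (by decide +kernel)

theorem b1591 : Block F al 203648 203776 128 :=
  block_of_check (k := 7) rfl (by decide +kernel)

theorem b1592 : Block F al 203776 203904 128 :=
  block_of_check (k := 7) rfl (by decide +kernel)

theorem b1593 : Block F al 203904 204032 128 :=
  block_of_check (k := 7) rfl (by decide +kernel)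

theorem b1594 : Block F al 204032 204160 128 :=
  block_of_check (k := 7) rfl (by decide +kernel)

theorem b1595 : Block F al 204160 204288 128 :=
  block_of_check (k := 7) rfl (by decide +kernel)

theorem b1596 : Block F al 204288 204416 128 :=
  block_of_check (k := 7) rfl (by decide +kernel)

theorem b1597 : Block F al 204416 204544 128 :=
  block_of_check (k := 7) rfl (by decide +kernel)

theorem b1598 : Block F al 204544 204672 128 :=
  block_of_check (k := 7) rfl (by decide +kernel)

theorem b1599 : Block F al 204672 204800 128 :=
  block_of_check (k := 7) rfl (by decide +kernel)

theorem b1600 : Block F al 204800 204928 128 :=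
  block_of_check (k := 7) rfl (by decide +kernel)

theorem b1601 : Block F al 204928 205056 128 :=
  block_of_check (k := 7) rfl (by decide +kernel)

theorem b1602 : Block F al 205056 205184 128 :=
  block_of_check (k := 7) rfl (by decide +kernel)

end Cfsg.Agent.TcData.Fi24.I306936
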