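import Mathlib
import Cfsg.Agent.TcData.Fi24.I306936.Tab

set_option autoImplicit false
set_option Elab.async false
set_option maxRecDepth 100000
set_option linter.all false

namespace Cfsg.Agent.TcData.Fi24.I306936

open Cfsg.Spor Cfsg.Agent.Lib.TcFacts Cfsg.Agent.Lib.TcBits Cfsg.Agent.Lib.TcPres Cfsg.Spor.Fi24 Cfsg.Agent.TcData.Fi24

theorem b1603 : Block F al 205184 205312 128 :=
  block_of_check (k := 7) rfl (by decide +kernel)

theorem b1604 : Block F al 205312 205440 128 :=
  block_of_check (k := 7) rfl (by decide +kernel)

theorem b1605 : Block F al 205440 205568 128 :=
  block_of_check (k := 7) rfl (by decide +kernel)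

theorem b1606 : Block F al 205568 205696 128 :=
  block_of_check (k := 7) rfl (by decide +kernel)

theorem b1607 : Block F al 205696 205824 128 :=
  block_of_check (k := 7) rfl (by decide +kernel)

theorem b1608 : Block F al 205824 205952 128 :=
  block_of_check (k := 7) rfl (by decide +kernel)

theorem b1609 : Block F al 205952 206080 128 :=
  block_of_check (k := 7) rfl (by decide +kernel)

theorem b1610 : Block F al 206080 206208 128 :=
  block_of_check (k := 7) rfl (by decide +kernel)

theorem b1611 : Block F al 206208 206336 128 :=
  block_of_check (k := 7) rfl (by decide +kernel)

theorem b1612 : Block F al 206336 206464 128 :=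
  block_of_check (k := 7) rfl (by decide +kernel)

theorem b1613 : Block F al 206464 206592 128 :=
  block_of_check (k := 7) rfl (by decide +kernel)

theorem b1614 : Block F al 206592 206720 128 :=
  block_of_check (k := 7) rfl (by decide +kernel)

theorem b1615 : Block F al 206720 206848 128 :=
  block_of_check (k := 7) rfl (by decide +kernel)

theorem b1616 : Block F al 206848 206976 128 :=
  block_of_check (k := 7) rfl (by decide +kernel)

theorem b1617 : Block F al 206976 207104 128 :=
  block_of_check (k := 7) rfl (by decide +kernel)

theorem b1618 : Block F al 207104 207232 128 :=
  block_of_check (k := 7) rfl (by decide +kernel)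

theorem b1619 : Block F al 207232 207360 128 :=
  block_of_check (k := 7) rfl (by decide +kernel)

theorem b1620 : Block F al 207360 207488 128 :=
  block_of_check (k := 7) rfl (by decide +kernel)

theorem b1621 : Block F al 207488 207616 128 :=
  block_of_check (k := 7) rfl (by decide +kernel)

theorem b1622 : Block F al 207616 207744 128 :=
  block_of_check (k := 7) rfl (by decide +kernel)

theorem b1623 : Block F al 207744 207872 128 :=
  block_of_check (k := 7) rfl (by decide +kernel)

theorem b1624 : Block F al 207872 208000 128 :=
  block_of_check (k := 7) rfl (by decide +kernel)

theorem b1625 : Block F al 208000 208128 128 :=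
  block_of_check (k := 7) rfl (by decide +kernel)

theorem b1626 : Block F al 208128 208256 128 :=
  block_of_check (k := 7) rfl (by decide +kernel)

theorem b1627 : Block F al 208256 208384 128 :=
  block_of_check (k := 7) rfl (by decide +kernel)

theorem b1628 : Block F al 208384 208512 128 :=
  block_of_check (k := 7) rfl (by decide +kernel)

theorem b1629 : Block F al 208512 208640 128 :=
  block_of_check (k := 7) rfl (by decide +kernel)

theorem b1630 : Block F al 208640 208768 128 :=
  block_of_check (k := 7) rfl (by decide +kernel)

theorem b1631 : Block F al 208768 208896 128 :=
  block_of_check (k := 7) rfl (by decide +kernel)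

theorem b1632 : Block F al 208896 209024 128 :=
  block_of_check (k := 7) rfl (by decide +kernel)

theorem b1633 : Block F al 209024 209152 128 :=
  block_of_check (k := 7) rfl (by decide +kernel)

theorem b1634 : Block F al 209152 209280 128 :=
  block_of_check (k := 7) rfl (by decide +kernel)

theorem b1635 : Block F al 209280 209408 128 :=
  block_of_check (k := 7) rfl (by decide +kernel)

theorem b1636 : Block F al 209408 209536 128 :=
  block_of_check (k := 7) rfl (by decide +kernel)

theorem b1637 : Block F al 209536 209664 128 :=
  block_of_check (k := 7) rfl (by decide +kernel)

theorem b1638 : Block F al 209664 209792 128 :=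
  block_of_check (k := 7) rfl (by decide +kernel)

theorem b1639 : Block F al 209792 209920 128 :=
  block_of_check (k := 7) rfl (by decide +kernel)

theorem b1640 : Block F al 209920 210048 128 :=
  block_of_check (k := 7) rfl (by decide +kernel)

theorem b1641 : Block F al 210048 210176 128 :=
  block_of_check (k := 7) rfl (by decide +kernel)

theorem b1642 : Block F al 210176 210304 128 :=
  block_of_check (k := 7) rfl (by decide +kernel)

theorem b1643 : Block F al 210304 210432 128 :=
  block_of_check (k := 7) rfl (by decide +kernel)

theorem b1644 : Block F al 210432 210560 128 :=
  block_of_check (k := 7) rfl (by decide +kernel)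

theorem b1645 : Block F al 210560 210688 128 :=
  block_of_check (k := 7) rfl (by decide +kernel)

theorem b1646 : Block F al 210688 210816 128 :=
  block_of_check (k := 7) rfl (by decide +kernel)

theorem b1647 : Block F al 210816 210944 128 :=
  block_of_check (k := 7) rfl (by decide +kernel)

end Cfsg.Agent.TcData.Fi24.I306936
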