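import Mathlib
import Cfsg.Agent.TcData.Fi24.I306936.Tab

set_option autoImplicit false
set_option Elab.async false
set_option maxRecDepth 100000
set_option linter.all false

namespace Cfsg.Agent.TcData.Fi24.I306936

open Cfsg.Spor Cfsg.Agent.Lib.TcFacts Cfsg.Agent.Lib.TcBits Cfsg.Agent.Lib.TcPres Cfsg.Spor.Fi24 Cfsg.Agent.TcData.Fi24

theorem b1648 : Block F al 210944 211072 128 :=
  block_of_check (k := 7) rfl (by decide +kernel)

theorem b1649 : Block F al 211072 211200 128 :=
  block_of_check (k := 7) rfl (by decide +kernel)

theorem b1650 : Block F al 211200 211328 128 :=
  block_of_check (k := 7) rfl (by decide +kernel)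

theorem b1651 : Block F al 211328 211456 128 :=
  block_of_check (k := 7) rfl (by decide +kernel)

theorem b1652 : Block F al 211456 211584 128 :=
  block_of_check (k := 7) rfl (by decide +kernel)

theorem b1653 : Block F al 211584 211712 128 :=
  block_of_check (k := 7) rfl (by decide +kernel)

theorem b1654 : Block F al 211712 211840 128 :=
  block_of_check (k := 7) rfl (by decide +kernel)

theorem b1655 : Block F al 211840 211968 128 :=
  block_of_check (k := 7) rfl (by decide +kernel)

theorem b1656 : Block F al 211968 212096 128 :=
  block_of_check (k := 7) rfl (by decide +kernel)

theorem b1657 : Block F al 212096 212224 128 :=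
  block_of_check (k := 7) rfl (by decide +kernel)

theorem b1658 : Block F al 212224 212352 128 :=
  block_of_check (k := 7) rfl (by decide +kernel)

theorem b1659 : Block F al 212352 212480 128 :=
  block_of_check (k := 7) rfl (by decide +kernel)

theorem b1660 : Block F al 212480 212608 128 :=
  block_of_check (k := 7) rfl (by decide +kernel)

theorem b1661 : Block F al 212608 212736 128 :=
  block_of_check (k := 7) rfl (by decide +kernel)

theorem b1662 : Block F al 212736 212864 128 :=
  block_of_check (k := 7) rfl (by decide +kernel)

theorem b1663 : Block F al 212864 212992 128 :=
  block_of_check (k := 7) rfl (by decide +kernel)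

theorem b1664 : Block F al 212992 213120 128 :=
  block_of_check (k := 7) rfl (by decide +kernel)

theorem b1665 : Block F al 213120 213248 128 :=
  block_of_check (k := 7) rfl (by decide +kernel)

theorem b1666 : Block F al 213248 213376 128 :=
  block_of_check (k := 7) rfl (by decide +kernel)

theorem b1667 : Block F al 213376 213504 128 :=
  block_of_check (k := 7) rfl (by decide +kernel)

theorem b1668 : Block F al 213504 213632 128 :=
  block_of_check (k := 7) rfl (by decide +kernel)

theorem b1669 : Block F al 213632 213760 128 :=
  block_of_check (k := 7) rfl (by decide +kernel)

theorem b1670 : Block F al 213760 213888 128 :=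
  block_of_check (k := 7) rfl (by decide +kernel)

theorem b1671 : Block F al 213888 214016 128 :=
  block_of_check (k := 7) rfl (by decide +kernel)

theorem b1672 : Block F al 214016 214144 128 :=
  block_of_check (k := 7) rfl (by decide +kernel)

theorem b1673 : Block F al 214144 214272 128 :=
  block_of_check (k := 7) rfl (by decide +kernel)

theorem b1674 : Block F al 214272 214400 128 :=
  block_of_check (k := 7) rfl (by decide +kernel)

theorem b1675 : Block F al 214400 214528 128 :=
  block_of_check (k := 7) rfl (by decide +kernel)

theorem b1676 : Block F al 214528 214656 128 :=
  block_of_check (k := 7) rfl (by decide +kernel)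

theorem b1677 : Block F al 214656 214784 128 :=
  block_of_check (k := 7) rfl (by decide +kernel)

theorem b1678 : Block F al 214784 214912 128 :=
  block_of_check (k := 7) rfl (by decide +kernel)

theorem b1679 : Block F al 214912 215040 128 :=
  block_of_check (k := 7) rfl (by decide +kernel)

theorem b1680 : Block F al 215040 215168 128 :=
  block_of_check (k := 7) rfl (by decide +kernel)

theorem b1681 : Block F al 215168 215296 128 :=
  block_of_check (k := 7) rfl (by decide +kernel)

theorem b1682 : Block F al 215296 215424 128 :=
  block_of_check (k := 7) rfl (by decide +kernel)

theorem b1683 : Block F al 215424 215552 128 :=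
  block_of_check (k := 7) rfl (by decide +kernel)

theorem b1684 : Block F al 215552 215680 128 :=
  block_of_check (k := 7) rfl (by decide +kernel)

theorem b1685 : Block F al 215680 215808 128 :=
  block_of_check (k := 7) rfl (by decide +kernel)

theorem b1686 : Block F al 215808 215936 128 :=
  block_of_check (k := 7) rfl (by decide +kernel)

theorem b1687 : Block F al 215936 216064 128 :=
  block_of_check (k := 7) rfl (by decide +kernel)

theorem b1688 : Block F al 216064 216192 128 :=
  block_of_check (k := 7) rfl (by decide +kernel)

theorem b1689 : Block F al 216192 216320 128 :=
  block_of_check (k := 7) rfl (by decide +kernel)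

theorem b1690 : Block F al 216320 216448 128 :=
  block_of_check (k := 7) rfl (by decide +kernel)

theorem b1691 : Block F al 216448 216576 128 :=
  block_of_check (k := 7) rfl (by decide +kernel)

theorem b1692 : Block F al 216576 216704 128 :=
  block_of_check (k := 7) rfl (by decide +kernel)

theorem b1693 : Block F al 216704 216832 128 :=
  block_of_check (k := 7) rfl (by decide +kernel)

theorem b1694 : Block F al 216832 216960 128 :=
  block_of_check (k := 7) rfl (by decide +kernel)

theorem b1695 : Block F al 216960 217088 128 :=
  block_of_check (k := 7) rfl (by decide +kernel)

end Cfsg.Agent.TcData.Fi24.I306936
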