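import Mathlib
import Cfsg.Agent.TcData.Fi24.I306936.Tab

set_option autoImplicit false
set_option Elab.async false
set_option maxRecDepth 100000
set_option linter.all false

namespace Cfsg.Agent.TcData.Fi24.I306936

open Cfsg.Spor Cfsg.Agent.Lib.TcFacts Cfsg.Agent.Lib.TcBits Cfsg.Agent.Lib.TcPres Cfsg.Spor.Fi24 Cfsg.Agent.TcData.Fi24

theorem b1696 : Block F al 217088 217216 128 :=
  block_of_check (k := 7) rfl (by decide +kernel)

theorem b1697 : Block F al 217216 217344 128 :=
  block_of_check (k := 7) rfl (by decide +kernel)

theorem b1698 : Block F al 217344 217472 128 :=
  block_of_check (k := 7) rfl (by decide +kernel)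

theorem b1699 : Block F al 217472 217600 128 :=
  block_of_check (k := 7) rfl (by decide +kernel)

theorem b1700 : Block F al 217600 217728 128 :=
  block_of_check (k := 7) rfl (by decide +kernel)

theorem b1701 : Block F al 217728 217856 128 :=
  block_of_check (k := 7) rfl (by decide +kernel)

theorem b1702 : Block F al 217856 217984 128 :=
  block_of_check (k := 7) rfl (by decide +kernel)

theorem b1703 : Block F al 217984 218112 128 :=
  block_of_check (k := 7) rfl (by decide +kernel)

theorem b1704 : Block F al 218112 218240 128 :=
  block_of_check (k := 7) rfl (by decide +kernel)

theorem b1705 : Block F al 218240 218368 128 :=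
  block_of_check (k := 7) rfl (by decide +kernel)

theorem b1706 : Block F al 218368 218496 128 :=
  block_of_check (k := 7) rfl (by decide +kernel)

theorem b1707 : Block F al 218496 218624 128 :=
  block_of_check (k := 7) rfl (by decide +kernel)

theorem b1708 : Block F al 218624 218752 128 :=
  block_of_check (k := 7) rfl (by decide +kernel)

theorem b1709 : Block F al 218752 218880 128 :=
  block_of_check (k := 7) rfl (by decide +kernel)

theorem b1710 : Block F al 218880 219008 128 :=
  block_of_check (k := 7) rfl (by decide +kernel)

theorem b1711 : Block F al 219008 219136 128 :=
  block_of_check (k := 7) rfl (by decide +kernel)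

theorem b1712 : Block F al 219136 219264 128 :=
  block_of_check (k := 7) rfl (by decide +kernel)

theorem b1713 : Block F al 219264 219392 128 :=
  block_of_check (k := 7) rfl (by decide +kernel)

theorem b1714 : Block F al 219392 219520 128 :=
  block_of_check (k := 7) rfl (by decide +kernel)

theorem b1715 : Block F al 219520 219648 128 :=
  block_of_check (k := 7) rfl (by decide +kernel)

theorem b1716 : Block F al 219648 219776 128 :=
  block_of_check (k := 7) rfl (by decide +kernel)

theorem b1717 : Block F al 219776 219904 128 :=
  block_of_check (k := 7) rfl (by decide +kernel)

theorem b1718 : Block F al 219904 220032 128 :=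
  block_of_check (k := 7) rfl (by decide +kernel)

theorem b1719 : Block F al 220032 220160 128 :=
  block_of_check (k := 7) rfl (by decide +kernel)

theorem b1720 : Block F al 220160 220288 128 :=
  block_of_check (k := 7) rfl (by decide +kernel)

theorem b1721 : Block F al 220288 220416 128 :=
  block_of_check (k := 7) rfl (by decide +kernel)

theorem b1722 : Block F al 220416 220544 128 :=
  block_of_check (k := 7) rfl (by decide +kernel)

theorem b1723 : Block F al 220544 220672 128 :=
  block_of_check (k := 7) rfl (by decide +kernel)

theorem b1724 : Block F al 220672 220800 128 :=
  block_of_check (k := 7) rfl (by decide +kernel)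

theorem b1725 : Block F al 220800 220928 128 :=
  block_of_check (k := 7) rfl (by decide +kernel)

theorem b1726 : Block F al 220928 221056 128 :=
  block_of_check (k := 7) rfl (by decide +kernel)

theorem b1727 : Block F al 221056 221184 128 :=
  block_of_check (k := 7) rfl (by decide +kernel)

theorem b1728 : Block F al 221184 221312 128 :=
  block_of_check (k := 7) rfl (by decide +kernel)

theorem b1729 : Block F al 221312 221440 128 :=
  block_of_check (k := 7) rfl (by decide +kernel)

theorem b1730 : Block F al 221440 221568 128 :=
  block_of_check (k := 7) rfl (by decide +kernel)

theorem b1731 : Block F al 221568 221696 128 :=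
  block_of_check (k := 7) rfl (by decide +kernel)

theorem b1732 : Block F al 221696 221824 128 :=
  block_of_check (k := 7) rfl (by decide +kernel)

theorem b1733 : Block F al 221824 221952 128 :=
  block_of_check (k := 7) rfl (by decide +kernel)

theorem b1734 : Block F al 221952 222080 128 :=
  block_of_check (k := 7) rfl (by decide +kernel)

theorem b1735 : Block F al 222080 222208 128 :=
  block_of_check (k := 7) rfl (by decide +kernel)

theorem b1736 : Block F al 222208 222336 128 :=
  block_of_check (k := 7) rfl (by decide +kernel)

theorem b1737 : Block F al 222336 222464 128 :=
  block_of_check (k := 7) rfl (by decide +kernel)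

theorem b1738 : Block F al 222464 222592 128 :=
  block_of_check (k := 7) rfl (by decide +kernel)

theorem b1739 : Block F al 222592 222720 128 :=
  block_of_check (k := 7) rfl (by decide +kernel)

theorem b1740 : Block F al 222720 222848 128 :=
  block_of_check (k := 7) rfl (by decide +kernel)

theorem b1741 : Block F al 222848 222976 128 :=
  block_of_check (k := 7) rfl (by decide +kernel)

theorem b1742 : Block F al 222976 223104 128 :=
  block_of_check (k := 7) rfl (by decide +kernel)

theorem b1743 : Block F al 223104 223232 128 :=
  block_of_check (k := 7) rfl (by decide +kernel)

theorem b1744 : Block F al 223232 223360 128 :=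
  block_of_check (k := 7) rfl (by decide +kernel)

theorem b1745 : Block F al 223360 223488 128 :=
  block_of_check (k := 7) rfl (by decide +kernel)

theorem b1746 : Block F al 223488 223616 128 :=
  block_of_check (k := 7) rfl (by decide +kernel)

end Cfsg.Agent.TcData.Fi24.I306936
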