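import Mathlib
import Cfsg.Agent.TcData.Fi24.I306936.Tab

set_option autoImplicit false
set_option Elab.async false
set_option maxRecDepth 100000
set_option linter.all false

namespace Cfsg.Agent.TcData.Fi24.I306936

open Cfsg.Spor Cfsg.Agent.Lib.TcFacts Cfsg.Agent.Lib.TcBits Cfsg.Agent.Lib.TcPres Cfsg.Spor.Fi24 Cfsg.Agent.TcData.Fi24

theorem b1747 : Block F al 223616 223744 128 :=
  block_of_check (k := 7) rfl (by decide +kernel)

theorem b1748 : Block F al 223744 223872 128 :=
  block_of_check (k := 7) rfl (by decide +kernel)

theorem b1749 : Block F al 223872 224000 128 :=
  block_of_check (k := 7) rfl (by decide +kernel)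

theorem b1750 : Block F al 224000 224128 128 :=
  block_of_check (k := 7) rfl (by decide +kernel)

theorem b1751 : Block F al 224128 224256 128 :=
  block_of_check (k := 7) rfl (by decide +kernel)

theorem b1752 : Block F al 224256 224384 121 :=
  block_of_check (k := 7) rfl (by decide +kernel)

theorem b1753 : Block F al 224384 224512 127 :=
  block_of_check (k := 7) rfl (by decide +kernel)

theorem b1754 : Block F al 224512 224640 128 :=
  block_of_check (k := 7) rfl (by decide +kernel)

theorem b1755 : Block F al 224640 224768 127 :=
  block_of_check (k := 7) rfl (by decide +kernel)

theorem b1756 : Block F al 224768 224896 128 :=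
  block_of_check (k := 7) rfl (by decide +kernel)

theorem b1757 : Block F al 224896 225024 128 :=
  block_of_check (k := 7) rfl (by decide +kernel)

theorem b1758 : Block F al 225024 225152 128 :=
  block_of_check (k := 7) rfl (by decide +kernel)

theorem b1759 : Block F al 225152 225280 128 :=
  block_of_check (k := 7) rfl (by decide +kernel)

theorem b1760 : Block F al 225280 225408 128 :=
  block_of_check (k := 7) rfl (by decide +kernel)

theorem b1761 : Block F al 225408 225536 128 :=
  block_of_check (k := 7) rfl (by decide +kernel)

theorem b1762 : Block F al 225536 225664 128 :=
  block_of_check (k := 7) rfl (by decide +kernel)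

theorem b1763 : Block F al 225664 225792 128 :=
  block_of_check (k := 7) rfl (by decide +kernel)

theorem b1764 : Block F al 225792 225920 128 :=
  block_of_check (k := 7) rfl (by decide +kernel)

theorem b1765 : Block F al 225920 226048 128 :=
  block_of_check (k := 7) rfl (by decide +kernel)

theorem b1766 : Block F al 226048 226176 128 :=
  block_of_check (k := 7) rfl (by decide +kernel)

theorem b1767 : Block F al 226176 226304 128 :=
  block_of_check (k := 7) rfl (by decide +kernel)

theorem b1768 : Block F al 226304 226432 128 :=
  block_of_check (k := 7) rfl (by decide +kernel)

theorem b1769 : Block F al 226432 226560 128 :=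
  block_of_check (k := 7) rfl (by decide +kernel)

theorem b1770 : Block F al 226560 226688 128 :=
  block_of_check (k := 7) rfl (by decide +kernel)

theorem b1771 : Block F al 226688 226816 127 :=
  block_of_check (k := 7) rfl (by decide +kernel)

theorem b1772 : Block F al 226816 226944 128 :=
  block_of_check (k := 7) rfl (by decide +kernel)

theorem b1773 : Block F al 226944 227072 128 :=
  block_of_check (k := 7) rfl (by decide +kernel)

theorem b1774 : Block F al 227072 227200 128 :=
  block_of_check (k := 7) rfl (by decide +kernel)

theorem b1775 : Block F al 227200 227328 128 :=
  block_of_check (k := 7) rfl (by decide +kernel)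

theorem b1776 : Block F al 227328 227456 128 :=
  block_of_check (k := 7) rfl (by decide +kernel)

theorem b1777 : Block F al 227456 227584 128 :=
  block_of_check (k := 7) rfl (by decide +kernel)

theorem b1778 : Block F al 227584 227712 128 :=
  block_of_check (k := 7) rfl (by decide +kernel)

theorem b1779 : Block F al 227712 227840 128 :=
  block_of_check (k := 7) rfl (by decide +kernel)

theorem b1780 : Block F al 227840 227968 128 :=
  block_of_check (k := 7) rfl (by decide +kernel)

theorem b1781 : Block F al 227968 228096 128 :=
  block_of_check (k := 7) rfl (by decide +kernel)

theorem b1782 : Block F al 228096 228224 128 :=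
  block_of_check (k := 7) rfl (by decide +kernel)

theorem b1783 : Block F al 228224 228352 128 :=
  block_of_check (k := 7) rfl (by decide +kernel)

theorem b1784 : Block F al 228352 228480 128 :=
  block_of_check (k := 7) rfl (by decide +kernel)

theorem b1785 : Block F al 228480 228608 128 :=
  block_of_check (k := 7) rfl (by decide +kernel)

theorem b1786 : Block F al 228608 228736 128 :=
  block_of_check (k := 7) rfl (by decide +kernel)

theorem b1787 : Block F al 228736 228864 128 :=
  block_of_check (k := 7) rfl (by decide +kernel)

theorem b1788 : Block F al 228864 228992 128 :=
  block_of_check (k := 7) rfl (by decide +kernel)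

theorem b1789 : Block F al 228992 229120 128 :=
  block_of_check (k := 7) rfl (by decide +kernel)

theorem b1790 : Block F al 229120 229248 128 :=
  block_of_check (k := 7) rfl (by decide +kernel)

theorem b1791 : Block F al 229248 229376 128 :=
  block_of_check (k := 7) rfl (by decide +kernel)

theorem b1792 : Block F al 229376 229504 128 :=
  block_of_check (k := 7) rfl (by decide +kernel)

theorem b1793 : Block F al 229504 229632 128 :=
  block_of_check (k := 7) rfl (by decide +kernel)

theorem b1794 : Block F al 229632 229760 128 :=
  block_of_check (k := 7) rfl (by decide +kernel)

end Cfsg.Agent.TcData.Fi24.I306936
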