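import Mathlib
import Cfsg.Agent.TcData.Fi24.I306936.Tab

set_option autoImplicit false
set_option Elab.async false
set_option maxRecDepth 100000
set_option linter.all false

namespace Cfsg.Agent.TcData.Fi24.I306936

open Cfsg.Spor Cfsg.Agent.Lib.TcFacts Cfsg.Agent.Lib.TcBits Cfsg.Agent.Lib.TcPres Cfsg.Spor.Fi24 Cfsg.Agent.TcData.Fi24

theorem b163 : Block F al 20864 20992 128 :=
  block_of_check (k := 7) rfl (by decide +kernel)

theorem b164 : Block F al 20992 21120 128 :=
  block_of_check (k := 7) rfl (by decide +kernel)

theorem b165 : Block F al 21120 21248 83 :=
  block_of_check (k := 7) rfl (by decide +kernel)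

theorem b166 : Block F al 21248 21376 82 :=
  block_of_check (k := 7) rfl (by decide +kernel)

theorem b167 : Block F al 21376 21504 108 :=
  block_of_check (k := 7) rfl (by decide +kernel)

theorem b168 : Block F al 21504 21632 99 :=
  block_of_check (k := 7) rfl (by decide +kernel)

theorem b169 : Block F al 21632 21760 95 :=
  block_of_check (k := 7) rfl (by decide +kernel)

theorem b170 : Block F al 21760 21888 88 :=
  block_of_check (k := 7) rfl (by decide +kernel)

theorem b171 : Block F al 21888 22016 115 :=
  block_of_check (k := 7) rfl (by decide +kernel)

theorem b172 : Block F al 22016 22144 116 :=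
  block_of_check (k := 7) rfl (by decide +kernel)

theorem b173 : Block F al 22144 22272 126 :=
  block_of_check (k := 7) rfl (by decide +kernel)

theorem b174 : Block F al 22272 22400 71 :=
  block_of_check (k := 7) rfl (by decide +kernel)

theorem b175 : Block F al 22400 22528 59 :=
  block_of_check (k := 7) rfl (by decide +kernel)

theorem b176 : Block F al 22528 22656 65 :=
  block_of_check (k := 7) rfl (by decide +kernel)

theorem b177 : Block F al 22656 22784 47 :=
  block_of_check (k := 7) rfl (by decide +kernel)

theorem b178 : Block F al 22784 22912 33 :=
  block_of_check (k := 7) rfl (by decide +kernel)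

theorem b179 : Block F al 22912 23040 44 :=
  block_of_check (k := 7) rfl (by decide +kernel)

theorem b180 : Block F al 23040 23168 1 :=
  block_of_check (k := 7) rfl (by decide +kernel)

theorem b181 : Block F al 23168 23296 74 :=
  block_of_check (k := 7) rfl (by decide +kernel)

theorem b182 : Block F al 23296 23424 108 :=
  block_of_check (k := 7) rfl (by decide +kernel)

theorem b183 : Block F al 23424 23552 125 :=
  block_of_check (k := 7) rfl (by decide +kernel)

theorem b184 : Block F al 23552 23680 84 :=
  block_of_check (k := 7) rfl (by decide +kernel)

theorem b185 : Block F al 23680 23808 74 :=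
  block_of_check (k := 7) rfl (by decide +kernel)

theorem b186 : Block F al 23808 23936 66 :=
  block_of_check (k := 7) rfl (by decide +kernel)

theorem b187 : Block F al 23936 24064 56 :=
  block_of_check (k := 7) rfl (by decide +kernel)

theorem b188 : Block F al 24064 24192 103 :=
  block_of_check (k := 7) rfl (by decide +kernel)

theorem b189 : Block F al 24192 24320 65 :=
  block_of_check (k := 7) rfl (by decide +kernel)

theorem b190 : Block F al 24320 24448 16 :=
  block_of_check (k := 7) rfl (by decide +kernel)

theorem b191 : Block F al 24448 24576 81 :=
  block_of_check (k := 7) rfl (by decide +kernel)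

theorem b192 : Block F al 24576 24704 123 :=
  block_of_check (k := 7) rfl (by decide +kernel)

theorem b193 : Block F al 24704 24832 117 :=
  block_of_check (k := 7) rfl (by decide +kernel)

theorem b194 : Block F al 24832 24960 114 :=
  block_of_check (k := 7) rfl (by decide +kernel)

theorem b195 : Block F al 24960 25088 128 :=
  block_of_check (k := 7) rfl (by decide +kernel)

theorem b196 : Block F al 25088 25216 125 :=
  block_of_check (k := 7) rfl (by decide +kernel)

theorem b197 : Block F al 25216 25344 72 :=
  block_of_check (k := 7) rfl (by decide +kernel)

theorem b198 : Block F al 25344 25472 68 :=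
  block_of_check (k := 7) rfl (by decide +kernel)

theorem b199 : Block F al 25472 25600 100 :=
  block_of_check (k := 7) rfl (by decide +kernel)

theorem b200 : Block F al 25600 25728 77 :=
  block_of_check (k := 7) rfl (by decide +kernel)

theorem b201 : Block F al 25728 25856 70 :=
  block_of_check (k := 7) rfl (by decide +kernel)

theorem b202 : Block F al 25856 25984 98 :=
  block_of_check (k := 7) rfl (by decide +kernel)

theorem b203 : Block F al 25984 26112 103 :=
  block_of_check (k := 7) rfl (by decide +kernel)

theorem b204 : Block F al 26112 26240 127 :=
  block_of_check (k := 7) rfl (by decide +kernel)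

theorem b205 : Block F al 26240 26368 90 :=
  block_of_check (k := 7) rfl (by decide +kernel)

theorem b206 : Block F al 26368 26496 30 :=
  block_of_check (k := 7) rfl (by decide +kernel)

theorem b207 : Block F al 26496 26624 46 :=
  block_of_check (k := 7) rfl (by decide +kernel)

theorem b208 : Block F al 26624 26752 47 :=
  block_of_check (k := 7) rfl (by decide +kernel)

theorem b209 : Block F al 26752 26880 122 :=
  block_of_check (k := 7) rfl (by decide +kernel)

theorem b210 : Block F al 26880 27008 123 :=
  block_of_check (k := 7) rfl (by decide +kernel)

theorem b211 : Block F al 27008 27136 103 :=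
  block_of_check (k := 7) rfl (by decide +kernel)

theorem b212 : Block F al 27136 27264 128 :=
  block_of_check (k := 7) rfl (by decide +kernel)

theorem b213 : Block F al 27264 27392 115 :=
  block_of_check (k := 7) rfl (by decide +kernel)

theorem b214 : Block F al 27392 27520 119 :=
  block_of_check (k := 7) rfl (by decide +kernel)

theorem b215 : Block F al 27520 27648 128 :=
  block_of_check (k := 7) rfl (by decide +kernel)

theorem b216 : Block F al 27648 27776 128 :=
  block_of_check (k := 7) rfl (by decide +kernel)

theorem b217 : Block F al 27776 27904 125 :=
  block_of_check (k := 7) rfl (by decide +kernel)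

end Cfsg.Agent.TcData.Fi24.I306936
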