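import Mathlib
import Cfsg.Agent.TcData.Fi24.I306936.Tab

set_option autoImplicit false
set_option Elab.async false
set_option maxRecDepth 100000
set_option linter.all false

namespace Cfsg.Agent.TcData.Fi24.I306936

open Cfsg.Spor Cfsg.Agent.Lib.TcFacts Cfsg.Agent.Lib.TcBits Cfsg.Agent.Lib.TcPres Cfsg.Spor.Fi24 Cfsg.Agent.TcData.Fi24

theorem b1795 : Block F al 229760 229888 128 :=
  block_of_check (k := 7) rfl (by decide +kernel)

theorem b1796 : Block F al 229888 230016 128 :=
  block_of_check (k := 7) rfl (by decide +kernel)

theorem b1797 : Block F al 230016 230144 128 :=
  block_of_check (k := 7) rfl (by decide +kernel)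

theorem b1798 : Block F al 230144 230272 128 :=
  block_of_check (k := 7) rfl (by decide +kernel)

theorem b1799 : Block F al 230272 230400 128 :=
  block_of_check (k := 7) rfl (by decide +kernel)

theorem b1800 : Block F al 230400 230528 128 :=
  block_of_check (k := 7) rfl (by decide +kernel)

theorem b1801 : Block F al 230528 230656 128 :=
  block_of_check (k := 7) rfl (by decide +kernel)

theorem b1802 : Block F al 230656 230784 128 :=
  block_of_check (k := 7) rfl (by decide +kernel)

theorem b1803 : Block F al 230784 230912 128 :=
  block_of_check (k := 7) rfl (by decide +kernel)

theorem b1804 : Block F al 230912 231040 128 :=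
  block_of_check (k := 7) rfl (by decide +kernel)

theorem b1805 : Block F al 231040 231168 128 :=
  block_of_check (k := 7) rfl (by decide +kernel)

theorem b1806 : Block F al 231168 231296 128 :=
  block_of_check (k := 7) rfl (by decide +kernel)

theorem b1807 : Block F al 231296 231424 128 :=
  block_of_check (k := 7) rfl (by decide +kernel)

theorem b1808 : Block F al 231424 231552 128 :=
  block_of_check (k := 7) rfl (by decide +kernel)

theorem b1809 : Block F al 231552 231680 128 :=
  block_of_check (k := 7) rfl (by decide +kernel)

theorem b1810 : Block F al 231680 231808 128 :=
  block_of_check (k := 7) rfl (by decide +kernel)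

theorem b1811 : Block F al 231808 231936 128 :=
  block_of_check (k := 7) rfl (by decide +kernel)

theorem b1812 : Block F al 231936 232064 128 :=
  block_of_check (k := 7) rfl (by decide +kernel)

theorem b1813 : Block F al 232064 232192 128 :=
  block_of_check (k := 7) rfl (by decide +kernel)

theorem b1814 : Block F al 232192 232320 128 :=
  block_of_check (k := 7) rfl (by decide +kernel)

theorem b1815 : Block F al 232320 232448 128 :=
  block_of_check (k := 7) rfl (by decide +kernel)

theorem b1816 : Block F al 232448 232576 128 :=
  block_of_check (k := 7) rfl (by decide +kernel)

theorem b1817 : Block F al 232576 232704 128 :=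
  block_of_check (k := 7) rfl (by decide +kernel)

theorem b1818 : Block F al 232704 232832 128 :=
  block_of_check (k := 7) rfl (by decide +kernel)

theorem b1819 : Block F al 232832 232960 128 :=
  block_of_check (k := 7) rfl (by decide +kernel)

theorem b1820 : Block F al 232960 233088 128 :=
  block_of_check (k := 7) rfl (by decide +kernel)

theorem b1821 : Block F al 233088 233216 128 :=
  block_of_check (k := 7) rfl (by decide +kernel)

theorem b1822 : Block F al 233216 233344 128 :=
  block_of_check (k := 7) rfl (by decide +kernel)

theorem b1823 : Block F al 233344 233472 128 :=
  block_of_check (k := 7) rfl (by decide +kernel)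

theorem b1824 : Block F al 233472 233600 128 :=
  block_of_check (k := 7) rfl (by decide +kernel)

theorem b1825 : Block F al 233600 233728 128 :=
  block_of_check (k := 7) rfl (by decide +kernel)

theorem b1826 : Block F al 233728 233856 128 :=
  block_of_check (k := 7) rfl (by decide +kernel)

theorem b1827 : Block F al 233856 233984 128 :=
  block_of_check (k := 7) rfl (by decide +kernel)

theorem b1828 : Block F al 233984 234112 128 :=
  block_of_check (k := 7) rfl (by decide +kernel)

theorem b1829 : Block F al 234112 234240 128 :=
  block_of_check (k := 7) rfl (by decide +kernel)

theorem b1830 : Block F al 234240 234368 128 :=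
  block_of_check (k := 7) rfl (by decide +kernel)

theorem b1831 : Block F al 234368 234496 128 :=
  block_of_check (k := 7) rfl (by decide +kernel)

theorem b1832 : Block F al 234496 234624 128 :=
  block_of_check (k := 7) rfl (by decide +kernel)

theorem b1833 : Block F al 234624 234752 128 :=
  block_of_check (k := 7) rfl (by decide +kernel)

theorem b1834 : Block F al 234752 234880 128 :=
  block_of_check (k := 7) rfl (by decide +kernel)

theorem b1835 : Block F al 234880 235008 128 :=
  block_of_check (k := 7) rfl (by decide +kernel)

theorem b1836 : Block F al 235008 235136 128 :=
  block_of_check (k := 7) rfl (by decide +kernel)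

theorem b1837 : Block F al 235136 235264 128 :=
  block_of_check (k := 7) rfl (by decide +kernel)

theorem b1838 : Block F al 235264 235392 121 :=
  block_of_check (k := 7) rfl (by decide +kernel)

theorem b1839 : Block F al 235392 235520 127 :=
  block_of_check (k := 7) rfl (by decide +kernel)

theorem b1840 : Block F al 235520 235648 127 :=
  block_of_check (k := 7) rfl (by decide +kernel)

theorem b1841 : Block F al 235648 235776 128 :=
  block_of_check (k := 7) rfl (by decide +kernel)

end Cfsg.Agent.TcData.Fi24.I306936
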