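import Mathlib
import Cfsg.Agent.TcData.Fi24.I306936.Tab

set_option autoImplicit false
set_option Elab.async false
set_option maxRecDepth 100000
set_option linter.all false

namespace Cfsg.Agent.TcData.Fi24.I306936

open Cfsg.Spor Cfsg.Agent.Lib.TcFacts Cfsg.Agent.Lib.TcBits Cfsg.Agent.Lib.TcPres Cfsg.Spor.Fi24 Cfsg.Agent.TcData.Fi24

theorem b1842 : Block F al 235776 235904 128 :=
  block_of_check (k := 7) rfl (by decide +kernel)

theorem b1843 : Block F al 235904 236032 128 :=
  block_of_check (k := 7) rfl (by decide +kernel)

theorem b1844 : Block F al 236032 236160 128 :=
  block_of_check (k := 7) rfl (by decide +kernel)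

theorem b1845 : Block F al 236160 236288 128 :=
  block_of_check (k := 7) rfl (by decide +kernel)

theorem b1846 : Block F al 236288 236416 128 :=
  block_of_check (k := 7) rfl (by decide +kernel)

theorem b1847 : Block F al 236416 236544 128 :=
  block_of_check (k := 7) rfl (by decide +kernel)

theorem b1848 : Block F al 236544 236672 128 :=
  block_of_check (k := 7) rfl (by decide +kernel)

theorem b1849 : Block F al 236672 236800 128 :=
  block_of_check (k := 7) rfl (by decide +kernel)

theorem b1850 : Block F al 236800 236928 128 :=
  block_of_check (k := 7) rfl (by decide +kernel)

theorem b1851 : Block F al 236928 237056 128 :=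
  block_of_check (k := 7) rfl (by decide +kernel)

theorem b1852 : Block F al 237056 237184 127 :=
  block_of_check (k := 7) rfl (by decide +kernel)

theorem b1853 : Block F al 237184 237312 128 :=
  block_of_check (k := 7) rfl (by decide +kernel)

theorem b1854 : Block F al 237312 237440 128 :=
  block_of_check (k := 7) rfl (by decide +kernel)

theorem b1855 : Block F al 237440 237568 128 :=
  block_of_check (k := 7) rfl (by decide +kernel)

theorem b1856 : Block F al 237568 237696 128 :=
  block_of_check (k := 7) rfl (by decide +kernel)

theorem b1857 : Block F al 237696 237824 128 :=
  block_of_check (k := 7) rfl (by decide +kernel)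

theorem b1858 : Block F al 237824 237952 128 :=
  block_of_check (k := 7) rfl (by decide +kernel)

theorem b1859 : Block F al 237952 238080 128 :=
  block_of_check (k := 7) rfl (by decide +kernel)

theorem b1860 : Block F al 238080 238208 128 :=
  block_of_check (k := 7) rfl (by decide +kernel)

theorem b1861 : Block F al 238208 238336 128 :=
  block_of_check (k := 7) rfl (by decide +kernel)

theorem b1862 : Block F al 238336 238464 128 :=
  block_of_check (k := 7) rfl (by decide +kernel)

theorem b1863 : Block F al 238464 238592 128 :=
  block_of_check (k := 7) rfl (by decide +kernel)

theorem b1864 : Block F al 238592 238720 128 :=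
  block_of_check (k := 7) rfl (by decide +kernel)

theorem b1865 : Block F al 238720 238848 120 :=
  block_of_check (k := 7) rfl (by decide +kernel)

theorem b1866 : Block F al 238848 238976 127 :=
  block_of_check (k := 7) rfl (by decide +kernel)

theorem b1867 : Block F al 238976 239104 128 :=
  block_of_check (k := 7) rfl (by decide +kernel)

theorem b1868 : Block F al 239104 239232 128 :=
  block_of_check (k := 7) rfl (by decide +kernel)

theorem b1869 : Block F al 239232 239360 128 :=
  block_of_check (k := 7) rfl (by decide +kernel)

theorem b1870 : Block F al 239360 239488 128 :=
  block_of_check (k := 7) rfl (by decide +kernel)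

theorem b1871 : Block F al 239488 239616 128 :=
  block_of_check (k := 7) rfl (by decide +kernel)

theorem b1872 : Block F al 239616 239744 128 :=
  block_of_check (k := 7) rfl (by decide +kernel)

theorem b1873 : Block F al 239744 239872 128 :=
  block_of_check (k := 7) rfl (by decide +kernel)

theorem b1874 : Block F al 239872 240000 128 :=
  block_of_check (k := 7) rfl (by decide +kernel)

theorem b1875 : Block F al 240000 240128 128 :=
  block_of_check (k := 7) rfl (by decide +kernel)

theorem b1876 : Block F al 240128 240256 128 :=
  block_of_check (k := 7) rfl (by decide +kernel)

theorem b1877 : Block F al 240256 240384 128 :=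
  block_of_check (k := 7) rfl (by decide +kernel)

theorem b1878 : Block F al 240384 240512 128 :=
  block_of_check (k := 7) rfl (by decide +kernel)

theorem b1879 : Block F al 240512 240640 128 :=
  block_of_check (k := 7) rfl (by decide +kernel)

theorem b1880 : Block F al 240640 240768 128 :=
  block_of_check (k := 7) rfl (by decide +kernel)

theorem b1881 : Block F al 240768 240896 128 :=
  block_of_check (k := 7) rfl (by decide +kernel)

theorem b1882 : Block F al 240896 241024 128 :=
  block_of_check (k := 7) rfl (by decide +kernel)

theorem b1883 : Block F al 241024 241152 128 :=
  block_of_check (k := 7) rfl (by decide +kernel)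

theorem b1884 : Block F al 241152 241280 128 :=
  block_of_check (k := 7) rfl (by decide +kernel)

theorem b1885 : Block F al 241280 241408 128 :=
  block_of_check (k := 7) rfl (by decide +kernel)

theorem b1886 : Block F al 241408 241536 128 :=
  block_of_check (k := 7) rfl (by decide +kernel)

theorem b1887 : Block F al 241536 241664 128 :=
  block_of_check (k := 7) rfl (by decide +kernel)

theorem b1888 : Block F al 241664 241792 128 :=
  block_of_check (k := 7) rfl (by decide +kernel)

theorem b1889 : Block F al 241792 241920 128 :=
  block_of_check (k := 7) rfl (by decide +kernel)

theorem b1890 : Block F al 241920 242048 128 :=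
  block_of_check (k := 7) rfl (by decide +kernel)

end Cfsg.Agent.TcData.Fi24.I306936
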