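import Mathlib
import Cfsg.Agent.TcData.Fi24.I306936.Tab

set_option autoImplicit false
set_option Elab.async false
set_option maxRecDepth 100000
set_option linter.all false

namespace Cfsg.Agent.TcData.Fi24.I306936

open Cfsg.Spor Cfsg.Agent.Lib.TcFacts Cfsg.Agent.Lib.TcBits Cfsg.Agent.Lib.TcPres Cfsg.Spor.Fi24 Cfsg.Agent.TcData.Fi24

theorem b1891 : Block F al 242048 242176 128 :=
  block_of_check (k := 7) rfl (by decide +kernel)

theorem b1892 : Block F al 242176 242304 128 :=
  block_of_check (k := 7) rfl (by decide +kernel)

theorem b1893 : Block F al 242304 242432 128 :=
  block_of_check (k := 7) rfl (by decide +kernel)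

theorem b1894 : Block F al 242432 242560 128 :=
  block_of_check (k := 7) rfl (by decide +kernel)

theorem b1895 : Block F al 242560 242688 128 :=
  block_of_check (k := 7) rfl (by decide +kernel)

theorem b1896 : Block F al 242688 242816 128 :=
  block_of_check (k := 7) rfl (by decide +kernel)

theorem b1897 : Block F al 242816 242944 128 :=
  block_of_check (k := 7) rfl (by decide +kernel)

theorem b1898 : Block F al 242944 243072 128 :=
  block_of_check (k := 7) rfl (by decide +kernel)

theorem b1899 : Block F al 243072 243200 128 :=
  block_of_check (k := 7) rfl (by decide +kernel)

theorem b1900 : Block F al 243200 243328 128 :=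
  block_of_check (k := 7) rfl (by decide +kernel)

theorem b1901 : Block F al 243328 243456 128 :=
  block_of_check (k := 7) rfl (by decide +kernel)

theorem b1902 : Block F al 243456 243584 128 :=
  block_of_check (k := 7) rfl (by decide +kernel)

theorem b1903 : Block F al 243584 243712 128 :=
  block_of_check (k := 7) rfl (by decide +kernel)

theorem b1904 : Block F al 243712 243840 128 :=
  block_of_check (k := 7) rfl (by decide +kernel)

theorem b1905 : Block F al 243840 243968 128 :=
  block_of_check (k := 7) rfl (by decide +kernel)

theorem b1906 : Block F al 243968 244096 128 :=
  block_of_check (k := 7) rfl (by decide +kernel)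

theorem b1907 : Block F al 244096 244224 128 :=
  block_of_check (k := 7) rfl (by decide +kernel)

theorem b1908 : Block F al 244224 244352 128 :=
  block_of_check (k := 7) rfl (by decide +kernel)

theorem b1909 : Block F al 244352 244480 128 :=
  block_of_check (k := 7) rfl (by decide +kernel)

theorem b1910 : Block F al 244480 244608 128 :=
  block_of_check (k := 7) rfl (by decide +kernel)

theorem b1911 : Block F al 244608 244736 128 :=
  block_of_check (k := 7) rfl (by decide +kernel)

theorem b1912 : Block F al 244736 244864 128 :=
  block_of_check (k := 7) rfl (by decide +kernel)

theorem b1913 : Block F al 244864 244992 128 :=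
  block_of_check (k := 7) rfl (by decide +kernel)

theorem b1914 : Block F al 244992 245120 128 :=
  block_of_check (k := 7) rfl (by decide +kernel)

theorem b1915 : Block F al 245120 245248 128 :=
  block_of_check (k := 7) rfl (by decide +kernel)

theorem b1916 : Block F al 245248 245376 128 :=
  block_of_check (k := 7) rfl (by decide +kernel)

theorem b1917 : Block F al 245376 245504 128 :=
  block_of_check (k := 7) rfl (by decide +kernel)

theorem b1918 : Block F al 245504 245632 128 :=
  block_of_check (k := 7) rfl (by decide +kernel)

theorem b1919 : Block F al 245632 245760 128 :=
  block_of_check (k := 7) rfl (by decide +kernel)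

theorem b1920 : Block F al 245760 245888 128 :=
  block_of_check (k := 7) rfl (by decide +kernel)

theorem b1921 : Block F al 245888 246016 128 :=
  block_of_check (k := 7) rfl (by decide +kernel)

theorem b1922 : Block F al 246016 246144 128 :=
  block_of_check (k := 7) rfl (by decide +kernel)

theorem b1923 : Block F al 246144 246272 128 :=
  block_of_check (k := 7) rfl (by decide +kernel)

theorem b1924 : Block F al 246272 246400 128 :=
  block_of_check (k := 7) rfl (by decide +kernel)

theorem b1925 : Block F al 246400 246528 128 :=
  block_of_check (k := 7) rfl (by decide +kernel)

theorem b1926 : Block F al 246528 246656 128 :=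
  block_of_check (k := 7) rfl (by decide +kernel)

theorem b1927 : Block F al 246656 246784 128 :=
  block_of_check (k := 7) rfl (by decide +kernel)

theorem b1928 : Block F al 246784 246912 128 :=
  block_of_check (k := 7) rfl (by decide +kernel)

theorem b1929 : Block F al 246912 247040 128 :=
  block_of_check (k := 7) rfl (by decide +kernel)

theorem b1930 : Block F al 247040 247168 128 :=
  block_of_check (k := 7) rfl (by decide +kernel)

theorem b1931 : Block F al 247168 247296 128 :=
  block_of_check (k := 7) rfl (by decide +kernel)

theorem b1932 : Block F al 247296 247424 128 :=
  block_of_check (k := 7) rfl (by decide +kernel)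

theorem b1933 : Block F al 247424 247552 128 :=
  block_of_check (k := 7) rfl (by decide +kernel)

theorem b1934 : Block F al 247552 247680 128 :=
  block_of_check (k := 7) rfl (by decide +kernel)

theorem b1935 : Block F al 247680 247808 128 :=
  block_of_check (k := 7) rfl (by decide +kernel)

theorem b1936 : Block F al 247808 247936 128 :=
  block_of_check (k := 7) rfl (by decide +kernel)

theorem b1937 : Block F al 247936 248064 128 :=
  block_of_check (k := 7) rfl (by decide +kernel)

theorem b1938 : Block F al 248064 248192 128 :=
  block_of_check (k := 7) rfl (by decide +kernel)

theorem b1939 : Block F al 248192 248320 128 :=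
  block_of_check (k := 7) rfl (by decide +kernel)

theorem b1940 : Block F al 248320 248448 128 :=
  block_of_check (k := 7) rfl (by decide +kernel)

theorem b1941 : Block F al 248448 248576 128 :=
  block_of_check (k := 7) rfl (by decide +kernel)

theorem b1942 : Block F al 248576 248704 128 :=
  block_of_check (k := 7) rfl (by decide +kernel)

end Cfsg.Agent.TcData.Fi24.I306936
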