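import Mathlib
import Cfsg.Agent.TcData.Fi24.I306936.Tab

set_option autoImplicit false
set_option Elab.async false
set_option maxRecDepth 100000
set_option linter.all false

namespace Cfsg.Agent.TcData.Fi24.I306936

open Cfsg.Spor Cfsg.Agent.Lib.TcFacts Cfsg.Agent.Lib.TcBits Cfsg.Agent.Lib.TcPres Cfsg.Spor.Fi24 Cfsg.Agent.TcData.Fi24

theorem b1943 : Block F al 248704 248832 128 :=
  block_of_check (k := 7) rfl (by decide +kernel)

theorem b1944 : Block F al 248832 248960 128 :=
  block_of_check (k := 7) rfl (by decide +kernel)

theorem b1945 : Block F al 248960 249088 128 :=
  block_of_check (k := 7) rfl (by decide +kernel)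

theorem b1946 : Block F al 249088 249216 128 :=
  block_of_check (k := 7) rfl (by decide +kernel)

theorem b1947 : Block F al 249216 249344 128 :=
  block_of_check (k := 7) rfl (by decide +kernel)

theorem b1948 : Block F al 249344 249472 128 :=
  block_of_check (k := 7) rfl (by decide +kernel)

theorem b1949 : Block F al 249472 249600 128 :=
  block_of_check (k := 7) rfl (by decide +kernel)

theorem b1950 : Block F al 249600 249728 128 :=
  block_of_check (k := 7) rfl (by decide +kernel)

theorem b1951 : Block F al 249728 249856 128 :=
  block_of_check (k := 7) rfl (by decide +kernel)

theorem b1952 : Block F al 249856 249984 128 :=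
  block_of_check (k := 7) rfl (by decide +kernel)

theorem b1953 : Block F al 249984 250112 128 :=
  block_of_check (k := 7) rfl (by decide +kernel)

theorem b1954 : Block F al 250112 250240 128 :=
  block_of_check (k := 7) rfl (by decide +kernel)

theorem b1955 : Block F al 250240 250368 128 :=
  block_of_check (k := 7) rfl (by decide +kernel)

theorem b1956 : Block F al 250368 250496 128 :=
  block_of_check (k := 7) rfl (by decide +kernel)

theorem b1957 : Block F al 250496 250624 128 :=
  block_of_check (k := 7) rfl (by decide +kernel)

theorem b1958 : Block F al 250624 250752 128 :=
  block_of_check (k := 7) rfl (by decide +kernel)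

theorem b1959 : Block F al 250752 250880 128 :=
  block_of_check (k := 7) rfl (by decide +kernel)

theorem b1960 : Block F al 250880 251008 128 :=
  block_of_check (k := 7) rfl (by decide +kernel)

theorem b1961 : Block F al 251008 251136 128 :=
  block_of_check (k := 7) rfl (by decide +kernel)

theorem b1962 : Block F al 251136 251264 128 :=
  block_of_check (k := 7) rfl (by decide +kernel)

theorem b1963 : Block F al 251264 251392 128 :=
  block_of_check (k := 7) rfl (by decide +kernel)

theorem b1964 : Block F al 251392 251520 128 :=
  block_of_check (k := 7) rfl (by decide +kernel)

theorem b1965 : Block F al 251520 251648 128 :=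
  block_of_check (k := 7) rfl (by decide +kernel)

theorem b1966 : Block F al 251648 251776 128 :=
  block_of_check (k := 7) rfl (by decide +kernel)

theorem b1967 : Block F al 251776 251904 128 :=
  block_of_check (k := 7) rfl (by decide +kernel)

theorem b1968 : Block F al 251904 252032 128 :=
  block_of_check (k := 7) rfl (by decide +kernel)

theorem b1969 : Block F al 252032 252160 128 :=
  block_of_check (k := 7) rfl (by decide +kernel)

theorem b1970 : Block F al 252160 252288 128 :=
  block_of_check (k := 7) rfl (by decide +kernel)

theorem b1971 : Block F al 252288 252416 128 :=
  block_of_check (k := 7) rfl (by decide +kernel)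

theorem b1972 : Block F al 252416 252544 128 :=
  block_of_check (k := 7) rfl (by decide +kernel)

theorem b1973 : Block F al 252544 252672 128 :=
  block_of_check (k := 7) rfl (by decide +kernel)

theorem b1974 : Block F al 252672 252800 128 :=
  block_of_check (k := 7) rfl (by decide +kernel)

theorem b1975 : Block F al 252800 252928 128 :=
  block_of_check (k := 7) rfl (by decide +kernel)

theorem b1976 : Block F al 252928 253056 128 :=
  block_of_check (k := 7) rfl (by decide +kernel)

theorem b1977 : Block F al 253056 253184 128 :=
  block_of_check (k := 7) rfl (by decide +kernel)

theorem b1978 : Block F al 253184 253312 128 :=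
  block_of_check (k := 7) rfl (by decide +kernel)

theorem b1979 : Block F al 253312 253440 128 :=
  block_of_check (k := 7) rfl (by decide +kernel)

theorem b1980 : Block F al 253440 253568 128 :=
  block_of_check (k := 7) rfl (by decide +kernel)

theorem b1981 : Block F al 253568 253696 128 :=
  block_of_check (k := 7) rfl (by decide +kernel)

theorem b1982 : Block F al 253696 253824 128 :=
  block_of_check (k := 7) rfl (by decide +kernel)

theorem b1983 : Block F al 253824 253952 128 :=
  block_of_check (k := 7) rfl (by decide +kernel)

theorem b1984 : Block F al 253952 254080 128 :=
  block_of_check (k := 7) rfl (by decide +kernel)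

theorem b1985 : Block F al 254080 254208 128 :=
  block_of_check (k := 7) rfl (by decide +kernel)

theorem b1986 : Block F al 254208 254336 128 :=
  block_of_check (k := 7) rfl (by decide +kernel)

theorem b1987 : Block F al 254336 254464 128 :=
  block_of_check (k := 7) rfl (by decide +kernel)

end Cfsg.Agent.TcData.Fi24.I306936
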