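import Mathlib
import Cfsg.Agent.TcData.Fi24.I306936.Tab

set_option autoImplicit false
set_option Elab.async false
set_option maxRecDepth 100000
set_option linter.all false

namespace Cfsg.Agent.TcData.Fi24.I306936

open Cfsg.Spor Cfsg.Agent.Lib.TcFacts Cfsg.Agent.Lib.TcBits Cfsg.Agent.Lib.TcPres Cfsg.Spor.Fi24 Cfsg.Agent.TcData.Fi24

theorem b1988 : Block F al 254464 254592 128 :=
  block_of_check (k := 7) rfl (by decide +kernel)

theorem b1989 : Block F al 254592 254720 128 :=
  block_of_check (k := 7) rfl (by decide +kernel)

theorem b1990 : Block F al 254720 254848 128 :=
  block_of_check (k := 7) rfl (by decide +kernel)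

theorem b1991 : Block F al 254848 254976 128 :=
  block_of_check (k := 7) rfl (by decide +kernel)

theorem b1992 : Block F al 254976 255104 128 :=
  block_of_check (k := 7) rfl (by decide +kernel)

theorem b1993 : Block F al 255104 255232 128 :=
  block_of_check (k := 7) rfl (by decide +kernel)

theorem b1994 : Block F al 255232 255360 128 :=
  block_of_check (k := 7) rfl (by decide +kernel)

theorem b1995 : Block F al 255360 255488 128 :=
  block_of_check (k := 7) rfl (by decide +kernel)

theorem b1996 : Block F al 255488 255616 128 :=
  block_of_check (k := 7) rfl (by decide +kernel)

theorem b1997 : Block F al 255616 255744 128 :=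
  block_of_check (k := 7) rfl (by decide +kernel)

theorem b1998 : Block F al 255744 255872 128 :=
  block_of_check (k := 7) rfl (by decide +kernel)

theorem b1999 : Block F al 255872 256000 128 :=
  block_of_check (k := 7) rfl (by decide +kernel)

theorem b2000 : Block F al 256000 256128 128 :=
  block_of_check (k := 7) rfl (by decide +kernel)

theorem b2001 : Block F al 256128 256256 128 :=
  block_of_check (k := 7) rfl (by decide +kernel)

theorem b2002 : Block F al 256256 256384 128 :=
  block_of_check (k := 7) rfl (by decide +kernel)

theorem b2003 : Block F al 256384 256512 128 :=
  block_of_check (k := 7) rfl (by decide +kernel)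

theorem b2004 : Block F al 256512 256640 128 :=
  block_of_check (k := 7) rfl (by decide +kernel)

theorem b2005 : Block F al 256640 256768 128 :=
  block_of_check (k := 7) rfl (by decide +kernel)

theorem b2006 : Block F al 256768 256896 128 :=
  block_of_check (k := 7) rfl (by decide +kernel)

theorem b2007 : Block F al 256896 257024 128 :=
  block_of_check (k := 7) rfl (by decide +kernel)

theorem b2008 : Block F al 257024 257152 128 :=
  block_of_check (k := 7) rfl (by decide +kernel)

theorem b2009 : Block F al 257152 257280 128 :=
  block_of_check (k := 7) rfl (by decide +kernel)

theorem b2010 : Block F al 257280 257408 128 :=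
  block_of_check (k := 7) rfl (by decide +kernel)

theorem b2011 : Block F al 257408 257536 128 :=
  block_of_check (k := 7) rfl (by decide +kernel)

theorem b2012 : Block F al 257536 257664 128 :=
  block_of_check (k := 7) rfl (by decide +kernel)

theorem b2013 : Block F al 257664 257792 128 :=
  block_of_check (k := 7) rfl (by decide +kernel)

theorem b2014 : Block F al 257792 257920 128 :=
  block_of_check (k := 7) rfl (by decide +kernel)

theorem b2015 : Block F al 257920 258048 128 :=
  block_of_check (k := 7) rfl (by decide +kernel)

theorem b2016 : Block F al 258048 258176 128 :=
  block_of_check (k := 7) rfl (by decide +kernel)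

theorem b2017 : Block F al 258176 258304 128 :=
  block_of_check (k := 7) rfl (by decide +kernel)

theorem b2018 : Block F al 258304 258432 128 :=
  block_of_check (k := 7) rfl (by decide +kernel)

theorem b2019 : Block F al 258432 258560 128 :=
  block_of_check (k := 7) rfl (by decide +kernel)

theorem b2020 : Block F al 258560 258688 128 :=
  block_of_check (k := 7) rfl (by decide +kernel)

theorem b2021 : Block F al 258688 258816 128 :=
  block_of_check (k := 7) rfl (by decide +kernel)

theorem b2022 : Block F al 258816 258944 128 :=
  block_of_check (k := 7) rfl (by decide +kernel)

theorem b2023 : Block F al 258944 259072 128 :=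
  block_of_check (k := 7) rfl (by decide +kernel)

theorem b2024 : Block F al 259072 259200 128 :=
  block_of_check (k := 7) rfl (by decide +kernel)

theorem b2025 : Block F al 259200 259328 128 :=
  block_of_check (k := 7) rfl (by decide +kernel)

theorem b2026 : Block F al 259328 259456 128 :=
  block_of_check (k := 7) rfl (by decide +kernel)

theorem b2027 : Block F al 259456 259584 128 :=
  block_of_check (k := 7) rfl (by decide +kernel)

theorem b2028 : Block F al 259584 259712 128 :=
  block_of_check (k := 7) rfl (by decide +kernel)

theorem b2029 : Block F al 259712 259840 128 :=
  block_of_check (k := 7) rfl (by decide +kernel)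

theorem b2030 : Block F al 259840 259968 128 :=
  block_of_check (k := 7) rfl (by decide +kernel)

theorem b2031 : Block F al 259968 260096 128 :=
  block_of_check (k := 7) rfl (by decide +kernel)

theorem b2032 : Block F al 260096 260224 128 :=
  block_of_check (k := 7) rfl (by decide +kernel)

theorem b2033 : Block F al 260224 260352 128 :=
  block_of_check (k := 7) rfl (by decide +kernel)

theorem b2034 : Block F al 260352 260480 128 :=
  block_of_check (k := 7) rfl (by decide +kernel)

end Cfsg.Agent.TcData.Fi24.I306936
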