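import Mathlib
import Cfsg.Agent.TcData.Fi24.I306936.Tab

set_option autoImplicit false
set_option Elab.async false
set_option maxRecDepth 100000
set_option linter.all false

namespace Cfsg.Agent.TcData.Fi24.I306936

open Cfsg.Spor Cfsg.Agent.Lib.TcFacts Cfsg.Agent.Lib.TcBits Cfsg.Agent.Lib.TcPres Cfsg.Spor.Fi24 Cfsg.Agent.TcData.Fi24

theorem b2085 : Block F al 266880 267008 128 :=
  block_of_check (k := 7) rfl (by decide +kernel)

theorem b2086 : Block F al 267008 267136 128 :=
  block_of_check (k := 7) rfl (by decide +kernel)

theorem b2087 : Block F al 267136 267264 128 :=
  block_of_check (k := 7) rfl (by decide +kernel)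

theorem b2088 : Block F al 267264 267392 128 :=
  block_of_check (k := 7) rfl (by decide +kernel)

theorem b2089 : Block F al 267392 267520 128 :=
  block_of_check (k := 7) rfl (by decide +kernel)

theorem b2090 : Block F al 267520 267648 128 :=
  block_of_check (k := 7) rfl (by decide +kernel)

theorem b2091 : Block F al 267648 267776 128 :=
  block_of_check (k := 7) rfl (by decide +kernel)

theorem b2092 : Block F al 267776 267904 128 :=
  block_of_check (k := 7) rfl (by decide +kernel)

theorem b2093 : Block F al 267904 268032 128 :=
  block_of_check (k := 7) rfl (by decide +kernel)

theorem b2094 : Block F al 268032 268160 128 :=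
  block_of_check (k := 7) rfl (by decide +kernel)

theorem b2095 : Block F al 268160 268288 128 :=
  block_of_check (k := 7) rfl (by decide +kernel)

theorem b2096 : Block F al 268288 268416 128 :=
  block_of_check (k := 7) rfl (by decide +kernel)

theorem b2097 : Block F al 268416 268544 128 :=
  block_of_check (k := 7) rfl (by decide +kernel)

theorem b2098 : Block F al 268544 268672 128 :=
  block_of_check (k := 7) rfl (by decide +kernel)

theorem b2099 : Block F al 268672 268800 128 :=
  block_of_check (k := 7) rfl (by decide +kernel)

theorem b2100 : Block F al 268800 268928 128 :=
  block_of_check (k := 7) rfl (by decide +kernel)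

theorem b2101 : Block F al 268928 269056 128 :=
  block_of_check (k := 7) rfl (by decide +kernel)

theorem b2102 : Block F al 269056 269184 128 :=
  block_of_check (k := 7) rfl (by decide +kernel)

theorem b2103 : Block F al 269184 269312 128 :=
  block_of_check (k := 7) rfl (by decide +kernel)

theorem b2104 : Block F al 269312 269440 128 :=
  block_of_check (k := 7) rfl (by decide +kernel)

theorem b2105 : Block F al 269440 269568 128 :=
  block_of_check (k := 7) rfl (by decide +kernel)

theorem b2106 : Block F al 269568 269696 128 :=
  block_of_check (k := 7) rfl (by decide +kernel)

theorem b2107 : Block F al 269696 269824 128 :=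
  block_of_check (k := 7) rfl (by decide +kernel)

theorem b2108 : Block F al 269824 269952 128 :=
  block_of_check (k := 7) rfl (by decide +kernel)

theorem b2109 : Block F al 269952 270080 128 :=
  block_of_check (k := 7) rfl (by decide +kernel)

theorem b2110 : Block F al 270080 270208 128 :=
  block_of_check (k := 7) rfl (by decide +kernel)

theorem b2111 : Block F al 270208 270336 128 :=
  block_of_check (k := 7) rfl (by decide +kernel)

theorem b2112 : Block F al 270336 270464 128 :=
  block_of_check (k := 7) rfl (by decide +kernel)

theorem b2113 : Block F al 270464 270592 128 :=
  block_of_check (k := 7) rfl (by decide +kernel)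

theorem b2114 : Block F al 270592 270720 128 :=
  block_of_check (k := 7) rfl (by decide +kernel)

theorem b2115 : Block F al 270720 270848 128 :=
  block_of_check (k := 7) rfl (by decide +kernel)

theorem b2116 : Block F al 270848 270976 128 :=
  block_of_check (k := 7) rfl (by decide +kernel)

theorem b2117 : Block F al 270976 271104 128 :=
  block_of_check (k := 7) rfl (by decide +kernel)

theorem b2118 : Block F al 271104 271232 128 :=
  block_of_check (k := 7) rfl (by decide +kernel)

theorem b2119 : Block F al 271232 271360 128 :=
  block_of_check (k := 7) rfl (by decide +kernel)

theorem b2120 : Block F al 271360 271488 128 :=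
  block_of_check (k := 7) rfl (by decide +kernel)

theorem b2121 : Block F al 271488 271616 128 :=
  block_of_check (k := 7) rfl (by decide +kernel)

theorem b2122 : Block F al 271616 271744 128 :=
  block_of_check (k := 7) rfl (by decide +kernel)

theorem b2123 : Block F al 271744 271872 128 :=
  block_of_check (k := 7) rfl (by decide +kernel)

theorem b2124 : Block F al 271872 272000 128 :=
  block_of_check (k := 7) rfl (by decide +kernel)

theorem b2125 : Block F al 272000 272128 128 :=
  block_of_check (k := 7) rfl (by decide +kernel)

theorem b2126 : Block F al 272128 272256 128 :=
  block_of_check (k := 7) rfl (by decide +kernel)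

theorem b2127 : Block F al 272256 272384 128 :=
  block_of_check (k := 7) rfl (by decide +kernel)

theorem b2128 : Block F al 272384 272512 128 :=
  block_of_check (k := 7) rfl (by decide +kernel)

theorem b2129 : Block F al 272512 272640 128 :=
  block_of_check (k := 7) rfl (by decide +kernel)

theorem b2130 : Block F al 272640 272768 128 :=
  block_of_check (k := 7) rfl (by decide +kernel)

theorem b2131 : Block F al 272768 272896 128 :=
  block_of_check (k := 7) rfl (by decide +kernel)

theorem b2132 : Block F al 272896 273024 128 :=
  block_of_check (k := 7) rfl (by decide +kernel)

theorem b2133 : Block F al 273024 273152 128 :=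
  block_of_check (k := 7) rfl (by decide +kernel)

theorem b2134 : Block F al 273152 273280 128 :=
  block_of_check (k := 7) rfl (by decide +kernel)

theorem b2135 : Block F al 273280 273408 128 :=
  block_of_check (k := 7) rfl (by decide +kernel)

theorem b2136 : Block F al 273408 273536 128 :=
  block_of_check (k := 7) rfl (by decide +kernel)

end Cfsg.Agent.TcData.Fi24.I306936
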