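import Mathlib
import Cfsg.Agent.TcData.Fi24.I306936.Tab

set_option autoImplicit false
set_option Elab.async false
set_option maxRecDepth 100000
set_option linter.all false

namespace Cfsg.Agent.TcData.Fi24.I306936

open Cfsg.Spor Cfsg.Agent.Lib.TcFacts Cfsg.Agent.Lib.TcBits Cfsg.Agent.Lib.TcPres Cfsg.Spor.Fi24 Cfsg.Agent.TcData.Fi24

theorem b2137 : Block F al 273536 273664 128 :=
  block_of_check (k := 7) rfl (by decide +kernel)

theorem b2138 : Block F al 273664 273792 128 :=
  block_of_check (k := 7) rfl (by decide +kernel)

theorem b2139 : Block F al 273792 273920 128 :=
  block_of_check (k := 7) rfl (by decide +kernel)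

theorem b2140 : Block F al 273920 274048 128 :=
  block_of_check (k := 7) rfl (by decide +kernel)

theorem b2141 : Block F al 274048 274176 128 :=
  block_of_check (k := 7) rfl (by decide +kernel)

theorem b2142 : Block F al 274176 274304 128 :=
  block_of_check (k := 7) rfl (by decide +kernel)

theorem b2143 : Block F al 274304 274432 128 :=
  block_of_check (k := 7) rfl (by decide +kernel)

theorem b2144 : Block F al 274432 274560 128 :=
  block_of_check (k := 7) rfl (by decide +kernel)

theorem b2145 : Block F al 274560 274688 128 :=
  block_of_check (k := 7) rfl (by decide +kernel)

theorem b2146 : Block F al 274688 274816 128 :=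
  block_of_check (k := 7) rfl (by decide +kernel)

theorem b2147 : Block F al 274816 274944 128 :=
  block_of_check (k := 7) rfl (by decide +kernel)

theorem b2148 : Block F al 274944 275072 128 :=
  block_of_check (k := 7) rfl (by decide +kernel)

theorem b2149 : Block F al 275072 275200 128 :=
  block_of_check (k := 7) rfl (by decide +kernel)

theorem b2150 : Block F al 275200 275328 128 :=
  block_of_check (k := 7) rfl (by decide +kernel)

theorem b2151 : Block F al 275328 275456 128 :=
  block_of_check (k := 7) rfl (by decide +kernel)

theorem b2152 : Block F al 275456 275584 128 :=
  block_of_check (k := 7) rfl (by decide +kernel)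

theorem b2153 : Block F al 275584 275712 128 :=
  block_of_check (k := 7) rfl (by decide +kernel)

theorem b2154 : Block F al 275712 275840 128 :=
  block_of_check (k := 7) rfl (by decide +kernel)

theorem b2155 : Block F al 275840 275968 128 :=
  block_of_check (k := 7) rfl (by decide +kernel)

theorem b2156 : Block F al 275968 276096 128 :=
  block_of_check (k := 7) rfl (by decide +kernel)

theorem b2157 : Block F al 276096 276224 128 :=
  block_of_check (k := 7) rfl (by decide +kernel)

theorem b2158 : Block F al 276224 276352 128 :=
  block_of_check (k := 7) rfl (by decide +kernel)

theorem b2159 : Block F al 276352 276480 128 :=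
  block_of_check (k := 7) rfl (by decide +kernel)

theorem b2160 : Block F al 276480 276608 128 :=
  block_of_check (k := 7) rfl (by decide +kernel)

theorem b2161 : Block F al 276608 276736 128 :=
  block_of_check (k := 7) rfl (by decide +kernel)

theorem b2162 : Block F al 276736 276864 128 :=
  block_of_check (k := 7) rfl (by decide +kernel)

theorem b2163 : Block F al 276864 276992 128 :=
  block_of_check (k := 7) rfl (by decide +kernel)

theorem b2164 : Block F al 276992 277120 128 :=
  block_of_check (k := 7) rfl (by decide +kernel)

theorem b2165 : Block F al 277120 277248 128 :=
  block_of_check (k := 7) rfl (by decide +kernel)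

theorem b2166 : Block F al 277248 277376 128 :=
  block_of_check (k := 7) rfl (by decide +kernel)

theorem b2167 : Block F al 277376 277504 128 :=
  block_of_check (k := 7) rfl (by decide +kernel)

theorem b2168 : Block F al 277504 277632 128 :=
  block_of_check (k := 7) rfl (by decide +kernel)

theorem b2169 : Block F al 277632 277760 128 :=
  block_of_check (k := 7) rfl (by decide +kernel)

theorem b2170 : Block F al 277760 277888 128 :=
  block_of_check (k := 7) rfl (by decide +kernel)

theorem b2171 : Block F al 277888 278016 128 :=
  block_of_check (k := 7) rfl (by decide +kernel)

theorem b2172 : Block F al 278016 278144 128 :=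
  block_of_check (k := 7) rfl (by decide +kernel)

theorem b2173 : Block F al 278144 278272 128 :=
  block_of_check (k := 7) rfl (by decide +kernel)

theorem b2174 : Block F al 278272 278400 128 :=
  block_of_check (k := 7) rfl (by decide +kernel)

theorem b2175 : Block F al 278400 278528 128 :=
  block_of_check (k := 7) rfl (by decide +kernel)

theorem b2176 : Block F al 278528 278656 128 :=
  block_of_check (k := 7) rfl (by decide +kernel)

theorem b2177 : Block F al 278656 278784 128 :=
  block_of_check (k := 7) rfl (by decide +kernel)

theorem b2178 : Block F al 278784 278912 128 :=
  block_of_check (k := 7) rfl (by decide +kernel)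

theorem b2179 : Block F al 278912 279040 128 :=
  block_of_check (k := 7) rfl (by decide +kernel)

theorem b2180 : Block F al 279040 279168 128 :=
  block_of_check (k := 7) rfl (by decide +kernel)

end Cfsg.Agent.TcData.Fi24.I306936
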