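import Mathlib
import Cfsg.Agent.TcData.Fi24.I306936.Tab

set_option autoImplicit false
set_option Elab.async false
set_option maxRecDepth 100000
set_option linter.all false

namespace Cfsg.Agent.TcData.Fi24.I306936

open Cfsg.Spor Cfsg.Agent.Lib.TcFacts Cfsg.Agent.Lib.TcBits Cfsg.Agent.Lib.TcPres Cfsg.Spor.Fi24 Cfsg.Agent.TcData.Fi24

theorem b2181 : Block F al 279168 279296 128 :=
  block_of_check (k := 7) rfl (by decide +kernel)

theorem b2182 : Block F al 279296 279424 128 :=
  block_of_check (k := 7) rfl (by decide +kernel)

theorem b2183 : Block F al 279424 279552 128 :=
  block_of_check (k := 7) rfl (by decide +kernel)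

theorem b2184 : Block F al 279552 279680 128 :=
  block_of_check (k := 7) rfl (by decide +kernel)

theorem b2185 : Block F al 279680 279808 128 :=
  block_of_check (k := 7) rfl (by decide +kernel)

theorem b2186 : Block F al 279808 279936 128 :=
  block_of_check (k := 7) rfl (by decide +kernel)

theorem b2187 : Block F al 279936 280064 128 :=
  block_of_check (k := 7) rfl (by decide +kernel)

theorem b2188 : Block F al 280064 280192 128 :=
  block_of_check (k := 7) rfl (by decide +kernel)

theorem b2189 : Block F al 280192 280320 128 :=
  block_of_check (k := 7) rfl (by decide +kernel)

theorem b2190 : Block F al 280320 280448 128 :=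
  block_of_check (k := 7) rfl (by decide +kernel)

theorem b2191 : Block F al 280448 280576 128 :=
  block_of_check (k := 7) rfl (by decide +kernel)

theorem b2192 : Block F al 280576 280704 128 :=
  block_of_check (k := 7) rfl (by decide +kernel)

theorem b2193 : Block F al 280704 280832 128 :=
  block_of_check (k := 7) rfl (by decide +kernel)

theorem b2194 : Block F al 280832 280960 128 :=
  block_of_check (k := 7) rfl (by decide +kernel)

theorem b2195 : Block F al 280960 281088 128 :=
  block_of_check (k := 7) rfl (by decide +kernel)

theorem b2196 : Block F al 281088 281216 128 :=
  block_of_check (k := 7) rfl (by decide +kernel)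

theorem b2197 : Block F al 281216 281344 128 :=
  block_of_check (k := 7) rfl (by decide +kernel)

theorem b2198 : Block F al 281344 281472 128 :=
  block_of_check (k := 7) rfl (by decide +kernel)

theorem b2199 : Block F al 281472 281600 128 :=
  block_of_check (k := 7) rfl (by decide +kernel)

theorem b2200 : Block F al 281600 281728 128 :=
  block_of_check (k := 7) rfl (by decide +kernel)

theorem b2201 : Block F al 281728 281856 128 :=
  block_of_check (k := 7) rfl (by decide +kernel)

theorem b2202 : Block F al 281856 281984 128 :=
  block_of_check (k := 7) rfl (by decide +kernel)

theorem b2203 : Block F al 281984 282112 128 :=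
  block_of_check (k := 7) rfl (by decide +kernel)

theorem b2204 : Block F al 282112 282240 128 :=
  block_of_check (k := 7) rfl (by decide +kernel)

theorem b2205 : Block F al 282240 282368 128 :=
  block_of_check (k := 7) rfl (by decide +kernel)

theorem b2206 : Block F al 282368 282496 128 :=
  block_of_check (k := 7) rfl (by decide +kernel)

theorem b2207 : Block F al 282496 282624 128 :=
  block_of_check (k := 7) rfl (by decide +kernel)

theorem b2208 : Block F al 282624 282752 128 :=
  block_of_check (k := 7) rfl (by decide +kernel)

theorem b2209 : Block F al 282752 282880 128 :=
  block_of_check (k := 7) rfl (by decide +kernel)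

theorem b2210 : Block F al 282880 283008 128 :=
  block_of_check (k := 7) rfl (by decide +kernel)

theorem b2211 : Block F al 283008 283136 128 :=
  block_of_check (k := 7) rfl (by decide +kernel)

theorem b2212 : Block F al 283136 283264 128 :=
  block_of_check (k := 7) rfl (by decide +kernel)

theorem b2213 : Block F al 283264 283392 128 :=
  block_of_check (k := 7) rfl (by decide +kernel)

theorem b2214 : Block F al 283392 283520 128 :=
  block_of_check (k := 7) rfl (by decide +kernel)

theorem b2215 : Block F al 283520 283648 128 :=
  block_of_check (k := 7) rfl (by decide +kernel)

theorem b2216 : Block F al 283648 283776 128 :=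
  block_of_check (k := 7) rfl (by decide +kernel)

theorem b2217 : Block F al 283776 283904 128 :=
  block_of_check (k := 7) rfl (by decide +kernel)

theorem b2218 : Block F al 283904 284032 128 :=
  block_of_check (k := 7) rfl (by decide +kernel)

theorem b2219 : Block F al 284032 284160 128 :=
  block_of_check (k := 7) rfl (by decide +kernel)

theorem b2220 : Block F al 284160 284288 128 :=
  block_of_check (k := 7) rfl (by decide +kernel)

theorem b2221 : Block F al 284288 284416 128 :=
  block_of_check (k := 7) rfl (by decide +kernel)

theorem b2222 : Block F al 284416 284544 128 :=
  block_of_check (k := 7) rfl (by decide +kernel)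

theorem b2223 : Block F al 284544 284672 128 :=
  block_of_check (k := 7) rfl (by decide +kernel)

theorem b2224 : Block F al 284672 284800 128 :=
  block_of_check (k := 7) rfl (by decide +kernel)

theorem b2225 : Block F al 284800 284928 128 :=
  block_of_check (k := 7) rfl (by decide +kernel)

theorem b2226 : Block F al 284928 285056 128 :=
  block_of_check (k := 7) rfl (by decide +kernel)

end Cfsg.Agent.TcData.Fi24.I306936
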