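import Mathlib
import Cfsg.Agent.TcData.Fi24.I306936.Tab

set_option autoImplicit false
set_option Elab.async false
set_option maxRecDepth 100000
set_option linter.all false

namespace Cfsg.Agent.TcData.Fi24.I306936

open Cfsg.Spor Cfsg.Agent.Lib.TcFacts Cfsg.Agent.Lib.TcBits Cfsg.Agent.Lib.TcPres Cfsg.Spor.Fi24 Cfsg.Agent.TcData.Fi24

theorem b2227 : Block F al 285056 285184 128 :=
  block_of_check (k := 7) rfl (by decide +kernel)

theorem b2228 : Block F al 285184 285312 128 :=
  block_of_check (k := 7) rfl (by decide +kernel)

theorem b2229 : Block F al 285312 285440 128 :=
  block_of_check (k := 7) rfl (by decide +kernel)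

theorem b2230 : Block F al 285440 285568 128 :=
  block_of_check (k := 7) rfl (by decide +kernel)

theorem b2231 : Block F al 285568 285696 128 :=
  block_of_check (k := 7) rfl (by decide +kernel)

theorem b2232 : Block F al 285696 285824 128 :=
  block_of_check (k := 7) rfl (by decide +kernel)

theorem b2233 : Block F al 285824 285952 128 :=
  block_of_check (k := 7) rfl (by decide +kernel)

theorem b2234 : Block F al 285952 286080 128 :=
  block_of_check (k := 7) rfl (by decide +kernel)

theorem b2235 : Block F al 286080 286208 128 :=
  block_of_check (k := 7) rfl (by decide +kernel)

theorem b2236 : Block F al 286208 286336 128 :=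
  block_of_check (k := 7) rfl (by decide +kernel)

theorem b2237 : Block F al 286336 286464 128 :=
  block_of_check (k := 7) rfl (by decide +kernel)

theorem b2238 : Block F al 286464 286592 128 :=
  block_of_check (k := 7) rfl (by decide +kernel)

theorem b2239 : Block F al 286592 286720 128 :=
  block_of_check (k := 7) rfl (by decide +kernel)

theorem b2240 : Block F al 286720 286848 128 :=
  block_of_check (k := 7) rfl (by decide +kernel)

theorem b2241 : Block F al 286848 286976 128 :=
  block_of_check (k := 7) rfl (by decide +kernel)

theorem b2242 : Block F al 286976 287104 128 :=
  block_of_check (k := 7) rfl (by decide +kernel)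

theorem b2243 : Block F al 287104 287232 128 :=
  block_of_check (k := 7) rfl (by decide +kernel)

theorem b2244 : Block F al 287232 287360 128 :=
  block_of_check (k := 7) rfl (by decide +kernel)

theorem b2245 : Block F al 287360 287488 128 :=
  block_of_check (k := 7) rfl (by decide +kernel)

theorem b2246 : Block F al 287488 287616 128 :=
  block_of_check (k := 7) rfl (by decide +kernel)

theorem b2247 : Block F al 287616 287744 128 :=
  block_of_check (k := 7) rfl (by decide +kernel)

theorem b2248 : Block F al 287744 287872 128 :=
  block_of_check (k := 7) rfl (by decide +kernel)

theorem b2249 : Block F al 287872 288000 128 :=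
  block_of_check (k := 7) rfl (by decide +kernel)

theorem b2250 : Block F al 288000 288128 128 :=
  block_of_check (k := 7) rfl (by decide +kernel)

theorem b2251 : Block F al 288128 288256 128 :=
  block_of_check (k := 7) rfl (by decide +kernel)

theorem b2252 : Block F al 288256 288384 128 :=
  block_of_check (k := 7) rfl (by decide +kernel)

theorem b2253 : Block F al 288384 288512 128 :=
  block_of_check (k := 7) rfl (by decide +kernel)

theorem b2254 : Block F al 288512 288640 128 :=
  block_of_check (k := 7) rfl (by decide +kernel)

theorem b2255 : Block F al 288640 288768 128 :=
  block_of_check (k := 7) rfl (by decide +kernel)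

theorem b2256 : Block F al 288768 288896 128 :=
  block_of_check (k := 7) rfl (by decide +kernel)

theorem b2257 : Block F al 288896 289024 128 :=
  block_of_check (k := 7) rfl (by decide +kernel)

theorem b2258 : Block F al 289024 289152 128 :=
  block_of_check (k := 7) rfl (by decide +kernel)

theorem b2259 : Block F al 289152 289280 128 :=
  block_of_check (k := 7) rfl (by decide +kernel)

theorem b2260 : Block F al 289280 289408 128 :=
  block_of_check (k := 7) rfl (by decide +kernel)

theorem b2261 : Block F al 289408 289536 128 :=
  block_of_check (k := 7) rfl (by decide +kernel)

theorem b2262 : Block F al 289536 289664 128 :=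
  block_of_check (k := 7) rfl (by decide +kernel)

theorem b2263 : Block F al 289664 289792 128 :=
  block_of_check (k := 7) rfl (by decide +kernel)

theorem b2264 : Block F al 289792 289920 128 :=
  block_of_check (k := 7) rfl (by decide +kernel)

theorem b2265 : Block F al 289920 290048 128 :=
  block_of_check (k := 7) rfl (by decide +kernel)

theorem b2266 : Block F al 290048 290176 128 :=
  block_of_check (k := 7) rfl (by decide +kernel)

theorem b2267 : Block F al 290176 290304 128 :=
  block_of_check (k := 7) rfl (by decide +kernel)

theorem b2268 : Block F al 290304 290432 128 :=
  block_of_check (k := 7) rfl (by decide +kernel)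

theorem b2269 : Block F al 290432 290560 128 :=
  block_of_check (k := 7) rfl (by decide +kernel)

theorem b2270 : Block F al 290560 290688 128 :=
  block_of_check (k := 7) rfl (by decide +kernel)

theorem b2271 : Block F al 290688 290816 128 :=
  block_of_check (k := 7) rfl (by decide +kernel)

theorem b2272 : Block F al 290816 290944 128 :=
  block_of_check (k := 7) rfl (by decide +kernel)

theorem b2273 : Block F al 290944 291072 128 :=
  block_of_check (k := 7) rfl (by decide +kernel)

theorem b2274 : Block F al 291072 291200 128 :=
  block_of_check (k := 7) rfl (by decide +kernel)

theorem b2275 : Block F al 291200 291328 128 :=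
  block_of_check (k := 7) rfl (by decide +kernel)

end Cfsg.Agent.TcData.Fi24.I306936
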