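import Mathlib
import Cfsg.Agent.TcData.Fi24.I306936.Tab

set_option autoImplicit false
set_option Elab.async false
set_option maxRecDepth 100000
set_option linter.all false

namespace Cfsg.Agent.TcData.Fi24.I306936

open Cfsg.Spor Cfsg.Agent.Lib.TcFacts Cfsg.Agent.Lib.TcBits Cfsg.Agent.Lib.TcPres Cfsg.Spor.Fi24 Cfsg.Agent.TcData.Fi24

theorem b218 : Block F al 27904 28032 82 :=
  block_of_check (k := 7) rfl (by decide +kernel)

theorem b219 : Block F al 28032 28160 83 :=
  block_of_check (k := 7) rfl (by decide +kernel)

theorem b220 : Block F al 28160 28288 48 :=
  block_of_check (k := 7) rfl (by decide +kernel)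

theorem b221 : Block F al 28288 28416 96 :=
  block_of_check (k := 7) rfl (by decide +kernel)

theorem b222 : Block F al 28416 28544 84 :=
  block_of_check (k := 7) rfl (by decide +kernel)

theorem b223 : Block F al 28544 28672 96 :=
  block_of_check (k := 7) rfl (by decide +kernel)

theorem b224 : Block F al 28672 28800 92 :=
  block_of_check (k := 7) rfl (by decide +kernel)

theorem b225 : Block F al 28800 28928 48 :=
  block_of_check (k := 7) rfl (by decide +kernel)

theorem b226 : Block F al 28928 29056 87 :=
  block_of_check (k := 7) rfl (by decide +kernel)

theorem b227 : Block F al 29056 29184 101 :=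
  block_of_check (k := 7) rfl (by decide +kernel)

theorem b228 : Block F al 29184 29312 100 :=
  block_of_check (k := 7) rfl (by decide +kernel)

theorem b229 : Block F al 29312 29440 128 :=
  block_of_check (k := 7) rfl (by decide +kernel)

theorem b230 : Block F al 29440 29568 127 :=
  block_of_check (k := 7) rfl (by decide +kernel)

theorem b231 : Block F al 29568 29696 85 :=
  block_of_check (k := 7) rfl (by decide +kernel)

theorem b232 : Block F al 29696 29824 9 :=
  block_of_check (k := 7) rfl (by decide +kernel)

theorem b233 : Block F al 29824 29952 60 :=
  block_of_check (k := 7) rfl (by decide +kernel)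

theorem b234 : Block F al 29952 30080 58 :=
  block_of_check (k := 7) rfl (by decide +kernel)

theorem b235 : Block F al 30080 30208 47 :=
  block_of_check (k := 7) rfl (by decide +kernel)

theorem b236 : Block F al 30208 30336 16 :=
  block_of_check (k := 7) rfl (by decide +kernel)

theorem b237 : Block F al 30336 30464 28 :=
  block_of_check (k := 7) rfl (by decide +kernel)

theorem b238 : Block F al 30464 30592 24 :=
  block_of_check (k := 7) rfl (by decide +kernel)

theorem b239 : Block F al 30592 30720 4 :=
  block_of_check (k := 7) rfl (by decide +kernel)

theorem b240 : Block F al 30720 30848 0 :=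
  block_of_check (k := 7) rfl (by decide +kernel)

theorem b241 : Block F al 30848 30976 85 :=
  block_of_check (k := 7) rfl (by decide +kernel)

theorem b242 : Block F al 30976 31104 102 :=
  block_of_check (k := 7) rfl (by decide +kernel)

theorem b243 : Block F al 31104 31232 115 :=
  block_of_check (k := 7) rfl (by decide +kernel)

theorem b244 : Block F al 31232 31360 119 :=
  block_of_check (k := 7) rfl (by decide +kernel)

theorem b245 : Block F al 31360 31488 83 :=
  block_of_check (k := 7) rfl (by decide +kernel)

theorem b246 : Block F al 31488 31616 44 :=
  block_of_check (k := 7) rfl (by decide +kernel)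

theorem b247 : Block F al 31616 31744 53 :=
  block_of_check (k := 7) rfl (by decide +kernel)

theorem b248 : Block F al 31744 31872 43 :=
  block_of_check (k := 7) rfl (by decide +kernel)

theorem b249 : Block F al 31872 32000 31 :=
  block_of_check (k := 7) rfl (by decide +kernel)

theorem b250 : Block F al 32000 32128 83 :=
  block_of_check (k := 7) rfl (by decide +kernel)

theorem b251 : Block F al 32128 32256 78 :=
  block_of_check (k := 7) rfl (by decide +kernel)

theorem b252 : Block F al 32256 32384 77 :=
  block_of_check (k := 7) rfl (by decide +kernel)

theorem b253 : Block F al 32384 32512 4 :=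
  block_of_check (k := 7) rfl (by decide +kernel)

theorem b254 : Block F al 32512 32640 8 :=
  block_of_check (k := 7) rfl (by decide +kernel)

theorem b255 : Block F al 32640 32768 88 :=
  block_of_check (k := 7) rfl (by decide +kernel)

theorem b256 : Block F al 32768 32896 123 :=
  block_of_check (k := 7) rfl (by decide +kernel)

theorem b257 : Block F al 32896 33024 120 :=
  block_of_check (k := 7) rfl (by decide +kernel)

theorem b258 : Block F al 33024 33152 118 :=
  block_of_check (k := 7) rfl (by decide +kernel)

theorem b259 : Block F al 33152 33280 91 :=
  block_of_check (k := 7) rfl (by decide +kernel)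

theorem b260 : Block F al 33280 33408 128 :=
  block_of_check (k := 7) rfl (by decide +kernel)

theorem b261 : Block F al 33408 33536 127 :=
  block_of_check (k := 7) rfl (by decide +kernel)

theorem b262 : Block F al 33536 33664 119 :=
  block_of_check (k := 7) rfl (by decide +kernel)

theorem b263 : Block F al 33664 33792 101 :=
  block_of_check (k := 7) rfl (by decide +kernel)

theorem b264 : Block F al 33792 33920 48 :=
  block_of_check (k := 7) rfl (by decide +kernel)

theorem b265 : Block F al 33920 34048 50 :=
  block_of_check (k := 7) rfl (by decide +kernel)

theorem b266 : Block F al 34048 34176 71 :=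
  block_of_check (k := 7) rfl (by decide +kernel)

theorem b267 : Block F al 34176 34304 78 :=
  block_of_check (k := 7) rfl (by decide +kernel)

theorem b268 : Block F al 34304 34432 65 :=
  block_of_check (k := 7) rfl (by decide +kernel)

theorem b269 : Block F al 34432 34560 66 :=
  block_of_check (k := 7) rfl (by decide +kernel)

theorem b270 : Block F al 34560 34688 41 :=
  block_of_check (k := 7) rfl (by decide +kernel)

theorem b271 : Block F al 34688 34816 100 :=
  block_of_check (k := 7) rfl (by decide +kernel)

theorem b272 : Block F al 34816 34944 120 :=
  block_of_check (k := 7) rfl (by decide +kernel)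

theorem b273 : Block F al 34944 35072 82 :=
  block_of_check (k := 7) rfl (by decide +kernel)

theorem b274 : Block F al 35072 35200 120 :=
  block_of_check (k := 7) rfl (by decide +kernel)

theorem b275 : Block F al 35200 35328 95 :=
  block_of_check (k := 7) rfl (by decide +kernel)

end Cfsg.Agent.TcData.Fi24.I306936
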