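import Mathlib
import Cfsg.Agent.TcData.Fi24.I306936.Tab

set_option autoImplicit false
set_option Elab.async false
set_option maxRecDepth 100000
set_option linter.all false

namespace Cfsg.Agent.TcData.Fi24.I306936

open Cfsg.Spor Cfsg.Agent.Lib.TcFacts Cfsg.Agent.Lib.TcBits Cfsg.Agent.Lib.TcPres Cfsg.Spor.Fi24 Cfsg.Agent.TcData.Fi24

theorem b2276 : Block F al 291328 291456 128 :=
  block_of_check (k := 7) rfl (by decide +kernel)

theorem b2277 : Block F al 291456 291584 128 :=
  block_of_check (k := 7) rfl (by decide +kernel)

theorem b2278 : Block F al 291584 291712 128 :=
  block_of_check (k := 7) rfl (by decide +kernel)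

theorem b2279 : Block F al 291712 291840 128 :=
  block_of_check (k := 7) rfl (by decide +kernel)

theorem b2280 : Block F al 291840 291968 128 :=
  block_of_check (k := 7) rfl (by decide +kernel)

theorem b2281 : Block F al 291968 292096 128 :=
  block_of_check (k := 7) rfl (by decide +kernel)

theorem b2282 : Block F al 292096 292224 128 :=
  block_of_check (k := 7) rfl (by decide +kernel)

theorem b2283 : Block F al 292224 292352 128 :=
  block_of_check (k := 7) rfl (by decide +kernel)

theorem b2284 : Block F al 292352 292480 128 :=
  block_of_check (k := 7) rfl (by decide +kernel)

theorem b2285 : Block F al 292480 292608 128 :=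
  block_of_check (k := 7) rfl (by decide +kernel)

theorem b2286 : Block F al 292608 292736 128 :=
  block_of_check (k := 7) rfl (by decide +kernel)

theorem b2287 : Block F al 292736 292864 128 :=
  block_of_check (k := 7) rfl (by decide +kernel)

theorem b2288 : Block F al 292864 292992 128 :=
  block_of_check (k := 7) rfl (by decide +kernel)

theorem b2289 : Block F al 292992 293120 128 :=
  block_of_check (k := 7) rfl (by decide +kernel)

theorem b2290 : Block F al 293120 293248 128 :=
  block_of_check (k := 7) rfl (by decide +kernel)

theorem b2291 : Block F al 293248 293376 128 :=
  block_of_check (k := 7) rfl (by decide +kernel)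

theorem b2292 : Block F al 293376 293504 128 :=
  block_of_check (k := 7) rfl (by decide +kernel)

theorem b2293 : Block F al 293504 293632 128 :=
  block_of_check (k := 7) rfl (by decide +kernel)

theorem b2294 : Block F al 293632 293760 128 :=
  block_of_check (k := 7) rfl (by decide +kernel)

theorem b2295 : Block F al 293760 293888 128 :=
  block_of_check (k := 7) rfl (by decide +kernel)

theorem b2296 : Block F al 293888 294016 128 :=
  block_of_check (k := 7) rfl (by decide +kernel)

theorem b2297 : Block F al 294016 294144 128 :=
  block_of_check (k := 7) rfl (by decide +kernel)

theorem b2298 : Block F al 294144 294272 128 :=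
  block_of_check (k := 7) rfl (by decide +kernel)

theorem b2299 : Block F al 294272 294400 128 :=
  block_of_check (k := 7) rfl (by decide +kernel)

theorem b2300 : Block F al 294400 294528 128 :=
  block_of_check (k := 7) rfl (by decide +kernel)

theorem b2301 : Block F al 294528 294656 128 :=
  block_of_check (k := 7) rfl (by decide +kernel)

theorem b2302 : Block F al 294656 294784 128 :=
  block_of_check (k := 7) rfl (by decide +kernel)

theorem b2303 : Block F al 294784 294912 128 :=
  block_of_check (k := 7) rfl (by decide +kernel)

theorem b2304 : Block F al 294912 295040 128 :=
  block_of_check (k := 7) rfl (by decide +kernel)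

theorem b2305 : Block F al 295040 295168 128 :=
  block_of_check (k := 7) rfl (by decide +kernel)

theorem b2306 : Block F al 295168 295296 128 :=
  block_of_check (k := 7) rfl (by decide +kernel)

theorem b2307 : Block F al 295296 295424 128 :=
  block_of_check (k := 7) rfl (by decide +kernel)

theorem b2308 : Block F al 295424 295552 128 :=
  block_of_check (k := 7) rfl (by decide +kernel)

theorem b2309 : Block F al 295552 295680 128 :=
  block_of_check (k := 7) rfl (by decide +kernel)

theorem b2310 : Block F al 295680 295808 128 :=
  block_of_check (k := 7) rfl (by decide +kernel)

theorem b2311 : Block F al 295808 295936 128 :=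
  block_of_check (k := 7) rfl (by decide +kernel)

theorem b2312 : Block F al 295936 296064 128 :=
  block_of_check (k := 7) rfl (by decide +kernel)

theorem b2313 : Block F al 296064 296192 128 :=
  block_of_check (k := 7) rfl (by decide +kernel)

theorem b2314 : Block F al 296192 296320 128 :=
  block_of_check (k := 7) rfl (by decide +kernel)

theorem b2315 : Block F al 296320 296448 128 :=
  block_of_check (k := 7) rfl (by decide +kernel)

theorem b2316 : Block F al 296448 296576 128 :=
  block_of_check (k := 7) rfl (by decide +kernel)

theorem b2317 : Block F al 296576 296704 128 :=
  block_of_check (k := 7) rfl (by decide +kernel)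

theorem b2318 : Block F al 296704 296832 128 :=
  block_of_check (k := 7) rfl (by decide +kernel)

theorem b2319 : Block F al 296832 296960 128 :=
  block_of_check (k := 7) rfl (by decide +kernel)

theorem b2320 : Block F al 296960 297088 128 :=
  block_of_check (k := 7) rfl (by decide +kernel)

theorem b2321 : Block F al 297088 297216 128 :=
  block_of_check (k := 7) rfl (by decide +kernel)

theorem b2322 : Block F al 297216 297344 128 :=
  block_of_check (k := 7) rfl (by decide +kernel)

theorem b2323 : Block F al 297344 297472 128 :=
  block_of_check (k := 7) rfl (by decide +kernel)

theorem b2324 : Block F al 297472 297600 128 :=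
  block_of_check (k := 7) rfl (by decide +kernel)

theorem b2325 : Block F al 297600 297728 128 :=
  block_of_check (k := 7) rfl (by decide +kernel)

end Cfsg.Agent.TcData.Fi24.I306936
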