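import Mathlib
import Cfsg.Agent.TcData.Fi24.I306936.Tab

set_option autoImplicit false
set_option Elab.async false
set_option maxRecDepth 100000
set_option linter.all false

namespace Cfsg.Agent.TcData.Fi24.I306936

open Cfsg.Spor Cfsg.Agent.Lib.TcFacts Cfsg.Agent.Lib.TcBits Cfsg.Agent.Lib.TcPres Cfsg.Spor.Fi24 Cfsg.Agent.TcData.Fi24

theorem b2326 : Block F al 297728 297856 128 :=
  block_of_check (k := 7) rfl (by decide +kernel)

theorem b2327 : Block F al 297856 297984 128 :=
  block_of_check (k := 7) rfl (by decide +kernel)

theorem b2328 : Block F al 297984 298112 128 :=
  block_of_check (k := 7) rfl (by decide +kernel)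

theorem b2329 : Block F al 298112 298240 128 :=
  block_of_check (k := 7) rfl (by decide +kernel)

theorem b2330 : Block F al 298240 298368 128 :=
  block_of_check (k := 7) rfl (by decide +kernel)

theorem b2331 : Block F al 298368 298496 128 :=
  block_of_check (k := 7) rfl (by decide +kernel)

theorem b2332 : Block F al 298496 298624 128 :=
  block_of_check (k := 7) rfl (by decide +kernel)

theorem b2333 : Block F al 298624 298752 128 :=
  block_of_check (k := 7) rfl (by decide +kernel)

theorem b2334 : Block F al 298752 298880 128 :=
  block_of_check (k := 7) rfl (by decide +kernel)

theorem b2335 : Block F al 298880 299008 128 :=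
  block_of_check (k := 7) rfl (by decide +kernel)

theorem b2336 : Block F al 299008 299136 128 :=
  block_of_check (k := 7) rfl (by decide +kernel)

theorem b2337 : Block F al 299136 299264 128 :=
  block_of_check (k := 7) rfl (by decide +kernel)

theorem b2338 : Block F al 299264 299392 128 :=
  block_of_check (k := 7) rfl (by decide +kernel)

theorem b2339 : Block F al 299392 299520 128 :=
  block_of_check (k := 7) rfl (by decide +kernel)

theorem b2340 : Block F al 299520 299648 128 :=
  block_of_check (k := 7) rfl (by decide +kernel)

theorem b2341 : Block F al 299648 299776 128 :=
  block_of_check (k := 7) rfl (by decide +kernel)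

theorem b2342 : Block F al 299776 299904 128 :=
  block_of_check (k := 7) rfl (by decide +kernel)

theorem b2343 : Block F al 299904 300032 128 :=
  block_of_check (k := 7) rfl (by decide +kernel)

theorem b2344 : Block F al 300032 300160 128 :=
  block_of_check (k := 7) rfl (by decide +kernel)

theorem b2345 : Block F al 300160 300288 128 :=
  block_of_check (k := 7) rfl (by decide +kernel)

theorem b2346 : Block F al 300288 300416 128 :=
  block_of_check (k := 7) rfl (by decide +kernel)

theorem b2347 : Block F al 300416 300544 128 :=
  block_of_check (k := 7) rfl (by decide +kernel)

theorem b2348 : Block F al 300544 300672 128 :=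
  block_of_check (k := 7) rfl (by decide +kernel)

theorem b2349 : Block F al 300672 300800 128 :=
  block_of_check (k := 7) rfl (by decide +kernel)

theorem b2350 : Block F al 300800 300928 128 :=
  block_of_check (k := 7) rfl (by decide +kernel)

theorem b2351 : Block F al 300928 301056 128 :=
  block_of_check (k := 7) rfl (by decide +kernel)

theorem b2352 : Block F al 301056 301184 128 :=
  block_of_check (k := 7) rfl (by decide +kernel)

theorem b2353 : Block F al 301184 301312 128 :=
  block_of_check (k := 7) rfl (by decide +kernel)

theorem b2354 : Block F al 301312 301440 128 :=
  block_of_check (k := 7) rfl (by decide +kernel)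

theorem b2355 : Block F al 301440 301568 128 :=
  block_of_check (k := 7) rfl (by decide +kernel)

theorem b2356 : Block F al 301568 301696 128 :=
  block_of_check (k := 7) rfl (by decide +kernel)

theorem b2357 : Block F al 301696 301824 128 :=
  block_of_check (k := 7) rfl (by decide +kernel)

theorem b2358 : Block F al 301824 301952 128 :=
  block_of_check (k := 7) rfl (by decide +kernel)

theorem b2359 : Block F al 301952 302080 128 :=
  block_of_check (k := 7) rfl (by decide +kernel)

theorem b2360 : Block F al 302080 302208 128 :=
  block_of_check (k := 7) rfl (by decide +kernel)

theorem b2361 : Block F al 302208 302336 128 :=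
  block_of_check (k := 7) rfl (by decide +kernel)

theorem b2362 : Block F al 302336 302464 128 :=
  block_of_check (k := 7) rfl (by decide +kernel)

theorem b2363 : Block F al 302464 302592 128 :=
  block_of_check (k := 7) rfl (by decide +kernel)

theorem b2364 : Block F al 302592 302720 128 :=
  block_of_check (k := 7) rfl (by decide +kernel)

theorem b2365 : Block F al 302720 302848 128 :=
  block_of_check (k := 7) rfl (by decide +kernel)

theorem b2366 : Block F al 302848 302976 128 :=
  block_of_check (k := 7) rfl (by decide +kernel)

theorem b2367 : Block F al 302976 303104 128 :=
  block_of_check (k := 7) rfl (by decide +kernel)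

theorem b2368 : Block F al 303104 303232 128 :=
  block_of_check (k := 7) rfl (by decide +kernel)

theorem b2369 : Block F al 303232 303360 128 :=
  block_of_check (k := 7) rfl (by decide +kernel)

theorem b2370 : Block F al 303360 303488 128 :=
  block_of_check (k := 7) rfl (by decide +kernel)

end Cfsg.Agent.TcData.Fi24.I306936
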