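import Mathlib
import Cfsg.Agent.TcData.Fi24.I306936.Tab

set_option autoImplicit false
set_option Elab.async false
set_option maxRecDepth 100000
set_option linter.all false

namespace Cfsg.Agent.TcData.Fi24.I306936

open Cfsg.Spor Cfsg.Agent.Lib.TcFacts Cfsg.Agent.Lib.TcBits Cfsg.Agent.Lib.TcPres Cfsg.Spor.Fi24 Cfsg.Agent.TcData.Fi24

theorem b2371 : Block F al 303488 303616 128 :=
  block_of_check (k := 7) rfl (by decide +kernel)

theorem b2372 : Block F al 303616 303744 128 :=
  block_of_check (k := 7) rfl (by decide +kernel)

theorem b2373 : Block F al 303744 303872 128 :=
  block_of_check (k := 7) rfl (by decide +kernel)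

theorem b2374 : Block F al 303872 304000 128 :=
  block_of_check (k := 7) rfl (by decide +kernel)

theorem b2375 : Block F al 304000 304128 128 :=
  block_of_check (k := 7) rfl (by decide +kernel)

theorem b2376 : Block F al 304128 304256 128 :=
  block_of_check (k := 7) rfl (by decide +kernel)

theorem b2377 : Block F al 304256 304384 128 :=
  block_of_check (k := 7) rfl (by decide +kernel)

theorem b2378 : Block F al 304384 304512 128 :=
  block_of_check (k := 7) rfl (by decide +kernel)

theorem b2379 : Block F al 304512 304640 128 :=
  block_of_check (k := 7) rfl (by decide +kernel)

theorem b2380 : Block F al 304640 304768 128 :=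
  block_of_check (k := 7) rfl (by decide +kernel)

theorem b2381 : Block F al 304768 304896 128 :=
  block_of_check (k := 7) rfl (by decide +kernel)

theorem b2382 : Block F al 304896 305024 128 :=
  block_of_check (k := 7) rfl (by decide +kernel)

theorem b2383 : Block F al 305024 305152 128 :=
  block_of_check (k := 7) rfl (by decide +kernel)

theorem b2384 : Block F al 305152 305280 128 :=
  block_of_check (k := 7) rfl (by decide +kernel)

theorem b2385 : Block F al 305280 305408 128 :=
  block_of_check (k := 7) rfl (by decide +kernel)

theorem b2386 : Block F al 305408 305536 128 :=
  block_of_check (k := 7) rfl (by decide +kernel)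

theorem b2387 : Block F al 305536 305664 128 :=
  block_of_check (k := 7) rfl (by decide +kernel)

theorem b2388 : Block F al 305664 305792 128 :=
  block_of_check (k := 7) rfl (by decide +kernel)

theorem b2389 : Block F al 305792 305920 128 :=
  block_of_check (k := 7) rfl (by decide +kernel)

theorem b2390 : Block F al 305920 306048 128 :=
  block_of_check (k := 7) rfl (by decide +kernel)

theorem b2391 : Block F al 306048 306176 128 :=
  block_of_check (k := 7) rfl (by decide +kernel)

theorem b2392 : Block F al 306176 306304 128 :=
  block_of_check (k := 7) rfl (by decide +kernel)

theorem b2393 : Block F al 306304 306432 128 :=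
  block_of_check (k := 7) rfl (by decide +kernel)

theorem b2394 : Block F al 306432 306560 128 :=
  block_of_check (k := 7) rfl (by decide +kernel)

theorem b2395 : Block F al 306560 306688 128 :=
  block_of_check (k := 7) rfl (by decide +kernel)

theorem b2396 : Block F al 306688 306816 128 :=
  block_of_check (k := 7) rfl (by decide +kernel)

theorem b2397 : Block F al 306816 306944 128 :=
  block_of_check (k := 7) rfl (by decide +kernel)

theorem b2398 : Block F al 306944 307072 128 :=
  block_of_check (k := 7) rfl (by decide +kernel)

theorem b2399 : Block F al 307072 307200 128 :=
  block_of_check (k := 7) rfl (by decide +kernel)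

theorem b2400 : Block F al 307200 307328 128 :=
  block_of_check (k := 7) rfl (by decide +kernel)

theorem b2401 : Block F al 307328 307456 128 :=
  block_of_check (k := 7) rfl (by decide +kernel)

theorem b2402 : Block F al 307456 307584 128 :=
  block_of_check (k := 7) rfl (by decide +kernel)

theorem b2403 : Block F al 307584 307712 128 :=
  block_of_check (k := 7) rfl (by decide +kernel)

theorem b2404 : Block F al 307712 307840 128 :=
  block_of_check (k := 7) rfl (by decide +kernel)

theorem b2405 : Block F al 307840 307968 128 :=
  block_of_check (k := 7) rfl (by decide +kernel)

theorem b2406 : Block F al 307968 308096 128 :=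
  block_of_check (k := 7) rfl (by decide +kernel)

theorem b2407 : Block F al 308096 308224 128 :=
  block_of_check (k := 7) rfl (by decide +kernel)

theorem b2408 : Block F al 308224 308352 128 :=
  block_of_check (k := 7) rfl (by decide +kernel)

theorem b2409 : Block F al 308352 308480 128 :=
  block_of_check (k := 7) rfl (by decide +kernel)

theorem b2410 : Block F al 308480 308608 128 :=
  block_of_check (k := 7) rfl (by decide +kernel)

theorem b2411 : Block F al 308608 308736 128 :=
  block_of_check (k := 7) rfl (by decide +kernel)

theorem b2412 : Block F al 308736 308864 128 :=
  block_of_check (k := 7) rfl (by decide +kernel)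

theorem b2413 : Block F al 308864 308992 128 :=
  block_of_check (k := 7) rfl (by decide +kernel)

theorem b2414 : Block F al 308992 309120 128 :=
  block_of_check (k := 7) rfl (by decide +kernel)

end Cfsg.Agent.TcData.Fi24.I306936
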