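import Mathlib
import Cfsg.Agent.TcData.Fi24.I306936.Tab

set_option autoImplicit false
set_option Elab.async false
set_option maxRecDepth 100000
set_option linter.all false

namespace Cfsg.Agent.TcData.Fi24.I306936

open Cfsg.Spor Cfsg.Agent.Lib.TcFacts Cfsg.Agent.Lib.TcBits Cfsg.Agent.Lib.TcPres Cfsg.Spor.Fi24 Cfsg.Agent.TcData.Fi24

theorem b2415 : Block F al 309120 309248 128 :=
  block_of_check (k := 7) rfl (by decide +kernel)

theorem b2416 : Block F al 309248 309376 128 :=
  block_of_check (k := 7) rfl (by decide +kernel)

theorem b2417 : Block F al 309376 309504 128 :=
  block_of_check (k := 7) rfl (by decide +kernel)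

theorem b2418 : Block F al 309504 309632 128 :=
  block_of_check (k := 7) rfl (by decide +kernel)

theorem b2419 : Block F al 309632 309760 128 :=
  block_of_check (k := 7) rfl (by decide +kernel)

theorem b2420 : Block F al 309760 309888 128 :=
  block_of_check (k := 7) rfl (by decide +kernel)

theorem b2421 : Block F al 309888 310016 128 :=
  block_of_check (k := 7) rfl (by decide +kernel)

theorem b2422 : Block F al 310016 310144 128 :=
  block_of_check (k := 7) rfl (by decide +kernel)

theorem b2423 : Block F al 310144 310272 128 :=
  block_of_check (k := 7) rfl (by decide +kernel)

theorem b2424 : Block F al 310272 310400 128 :=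
  block_of_check (k := 7) rfl (by decide +kernel)

theorem b2425 : Block F al 310400 310528 128 :=
  block_of_check (k := 7) rfl (by decide +kernel)

theorem b2426 : Block F al 310528 310656 128 :=
  block_of_check (k := 7) rfl (by decide +kernel)

theorem b2427 : Block F al 310656 310784 128 :=
  block_of_check (k := 7) rfl (by decide +kernel)

theorem b2428 : Block F al 310784 310912 128 :=
  block_of_check (k := 7) rfl (by decide +kernel)

theorem b2429 : Block F al 310912 311040 128 :=
  block_of_check (k := 7) rfl (by decide +kernel)

theorem b2430 : Block F al 311040 311168 128 :=
  block_of_check (k := 7) rfl (by decide +kernel)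

theorem b2431 : Block F al 311168 311296 128 :=
  block_of_check (k := 7) rfl (by decide +kernel)

theorem b2432 : Block F al 311296 311424 128 :=
  block_of_check (k := 7) rfl (by decide +kernel)

theorem b2433 : Block F al 311424 311552 128 :=
  block_of_check (k := 7) rfl (by decide +kernel)

theorem b2434 : Block F al 311552 311680 128 :=
  block_of_check (k := 7) rfl (by decide +kernel)

theorem b2435 : Block F al 311680 311808 128 :=
  block_of_check (k := 7) rfl (by decide +kernel)

theorem b2436 : Block F al 311808 311936 128 :=
  block_of_check (k := 7) rfl (by decide +kernel)

theorem b2437 : Block F al 311936 312064 128 :=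
  block_of_check (k := 7) rfl (by decide +kernel)

theorem b2438 : Block F al 312064 312192 128 :=
  block_of_check (k := 7) rfl (by decide +kernel)

theorem b2439 : Block F al 312192 312320 128 :=
  block_of_check (k := 7) rfl (by decide +kernel)

theorem b2440 : Block F al 312320 312448 128 :=
  block_of_check (k := 7) rfl (by decide +kernel)

theorem b2441 : Block F al 312448 312576 128 :=
  block_of_check (k := 7) rfl (by decide +kernel)

theorem b2442 : Block F al 312576 312704 128 :=
  block_of_check (k := 7) rfl (by decide +kernel)

theorem b2443 : Block F al 312704 312832 128 :=
  block_of_check (k := 7) rfl (by decide +kernel)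

theorem b2444 : Block F al 312832 312960 128 :=
  block_of_check (k := 7) rfl (by decide +kernel)

theorem b2445 : Block F al 312960 313088 128 :=
  block_of_check (k := 7) rfl (by decide +kernel)

theorem b2446 : Block F al 313088 313216 128 :=
  block_of_check (k := 7) rfl (by decide +kernel)

theorem b2447 : Block F al 313216 313344 128 :=
  block_of_check (k := 7) rfl (by decide +kernel)

theorem b2448 : Block F al 313344 313472 128 :=
  block_of_check (k := 7) rfl (by decide +kernel)

theorem b2449 : Block F al 313472 313600 128 :=
  block_of_check (k := 7) rfl (by decide +kernel)

theorem b2450 : Block F al 313600 313728 128 :=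
  block_of_check (k := 7) rfl (by decide +kernel)

theorem b2451 : Block F al 313728 313856 128 :=
  block_of_check (k := 7) rfl (by decide +kernel)

theorem b2452 : Block F al 313856 313984 128 :=
  block_of_check (k := 7) rfl (by decide +kernel)

theorem b2453 : Block F al 313984 314112 128 :=
  block_of_check (k := 7) rfl (by decide +kernel)

theorem b2454 : Block F al 314112 314240 128 :=
  block_of_check (k := 7) rfl (by decide +kernel)

theorem b2455 : Block F al 314240 314368 128 :=
  block_of_check (k := 7) rfl (by decide +kernel)

theorem b2456 : Block F al 314368 314496 128 :=
  block_of_check (k := 7) rfl (by decide +kernel)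

theorem b2457 : Block F al 314496 314624 128 :=
  block_of_check (k := 7) rfl (by decide +kernel)

theorem b2458 : Block F al 314624 314752 128 :=
  block_of_check (k := 7) rfl (by decide +kernel)

theorem b2459 : Block F al 314752 314880 128 :=
  block_of_check (k := 7) rfl (by decide +kernel)

theorem b2460 : Block F al 314880 315008 128 :=
  block_of_check (k := 7) rfl (by decide +kernel)

end Cfsg.Agent.TcData.Fi24.I306936
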