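import Mathlib
import Cfsg.Agent.TcData.Fi24.I306936.Tab

set_option autoImplicit false
set_option Elab.async false
set_option maxRecDepth 100000
set_option linter.all false

namespace Cfsg.Agent.TcData.Fi24.I306936

open Cfsg.Spor Cfsg.Agent.Lib.TcFacts Cfsg.Agent.Lib.TcBits Cfsg.Agent.Lib.TcPres Cfsg.Spor.Fi24 Cfsg.Agent.TcData.Fi24

theorem b2461 : Block F al 315008 315136 128 :=
  block_of_check (k := 7) rfl (by decide +kernel)

theorem b2462 : Block F al 315136 315264 128 :=
  block_of_check (k := 7) rfl (by decide +kernel)

theorem b2463 : Block F al 315264 315392 128 :=
  block_of_check (k := 7) rfl (by decide +kernel)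

theorem b2464 : Block F al 315392 315520 128 :=
  block_of_check (k := 7) rfl (by decide +kernel)

theorem b2465 : Block F al 315520 315648 128 :=
  block_of_check (k := 7) rfl (by decide +kernel)

theorem b2466 : Block F al 315648 315776 128 :=
  block_of_check (k := 7) rfl (by decide +kernel)

theorem b2467 : Block F al 315776 315904 128 :=
  block_of_check (k := 7) rfl (by decide +kernel)

theorem b2468 : Block F al 315904 316032 128 :=
  block_of_check (k := 7) rfl (by decide +kernel)

theorem b2469 : Block F al 316032 316160 128 :=
  block_of_check (k := 7) rfl (by decide +kernel)

theorem b2470 : Block F al 316160 316288 128 :=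
  block_of_check (k := 7) rfl (by decide +kernel)

theorem b2471 : Block F al 316288 316416 128 :=
  block_of_check (k := 7) rfl (by decide +kernel)

theorem b2472 : Block F al 316416 316544 128 :=
  block_of_check (k := 7) rfl (by decide +kernel)

theorem b2473 : Block F al 316544 316672 128 :=
  block_of_check (k := 7) rfl (by decide +kernel)

theorem b2474 : Block F al 316672 316800 128 :=
  block_of_check (k := 7) rfl (by decide +kernel)

theorem b2475 : Block F al 316800 316928 128 :=
  block_of_check (k := 7) rfl (by decide +kernel)

theorem b2476 : Block F al 316928 317056 128 :=
  block_of_check (k := 7) rfl (by decide +kernel)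

theorem b2477 : Block F al 317056 317184 128 :=
  block_of_check (k := 7) rfl (by decide +kernel)

theorem b2478 : Block F al 317184 317312 128 :=
  block_of_check (k := 7) rfl (by decide +kernel)

theorem b2479 : Block F al 317312 317440 128 :=
  block_of_check (k := 7) rfl (by decide +kernel)

theorem b2480 : Block F al 317440 317568 128 :=
  block_of_check (k := 7) rfl (by decide +kernel)

theorem b2481 : Block F al 317568 317696 128 :=
  block_of_check (k := 7) rfl (by decide +kernel)

theorem b2482 : Block F al 317696 317824 128 :=
  block_of_check (k := 7) rfl (by decide +kernel)

theorem b2483 : Block F al 317824 317952 128 :=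
  block_of_check (k := 7) rfl (by decide +kernel)

theorem b2484 : Block F al 317952 318080 128 :=
  block_of_check (k := 7) rfl (by decide +kernel)

theorem b2485 : Block F al 318080 318208 128 :=
  block_of_check (k := 7) rfl (by decide +kernel)

theorem b2486 : Block F al 318208 318336 128 :=
  block_of_check (k := 7) rfl (by decide +kernel)

theorem b2487 : Block F al 318336 318464 128 :=
  block_of_check (k := 7) rfl (by decide +kernel)

theorem b2488 : Block F al 318464 318592 128 :=
  block_of_check (k := 7) rfl (by decide +kernel)

theorem b2489 : Block F al 318592 318720 128 :=
  block_of_check (k := 7) rfl (by decide +kernel)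

theorem b2490 : Block F al 318720 318848 128 :=
  block_of_check (k := 7) rfl (by decide +kernel)

theorem b2491 : Block F al 318848 318976 128 :=
  block_of_check (k := 7) rfl (by decide +kernel)

theorem b2492 : Block F al 318976 319104 128 :=
  block_of_check (k := 7) rfl (by decide +kernel)

theorem b2493 : Block F al 319104 319232 128 :=
  block_of_check (k := 7) rfl (by decide +kernel)

theorem b2494 : Block F al 319232 319360 128 :=
  block_of_check (k := 7) rfl (by decide +kernel)

theorem b2495 : Block F al 319360 319488 128 :=
  block_of_check (k := 7) rfl (by decide +kernel)

theorem b2496 : Block F al 319488 319616 128 :=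
  block_of_check (k := 7) rfl (by decide +kernel)

theorem b2497 : Block F al 319616 319744 128 :=
  block_of_check (k := 7) rfl (by decide +kernel)

theorem b2498 : Block F al 319744 319872 128 :=
  block_of_check (k := 7) rfl (by decide +kernel)

theorem b2499 : Block F al 319872 320000 128 :=
  block_of_check (k := 7) rfl (by decide +kernel)

theorem b2500 : Block F al 320000 320128 128 :=
  block_of_check (k := 7) rfl (by decide +kernel)

theorem b2501 : Block F al 320128 320256 128 :=
  block_of_check (k := 7) rfl (by decide +kernel)

theorem b2502 : Block F al 320256 320384 128 :=
  block_of_check (k := 7) rfl (by decide +kernel)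

theorem b2503 : Block F al 320384 320512 128 :=
  block_of_check (k := 7) rfl (by decide +kernel)

theorem b2504 : Block F al 320512 320640 128 :=
  block_of_check (k := 7) rfl (by decide +kernel)

theorem b2505 : Block F al 320640 320768 128 :=
  block_of_check (k := 7) rfl (by decide +kernel)

theorem b2506 : Block F al 320768 320896 128 :=
  block_of_check (k := 7) rfl (by decide +kernel)

end Cfsg.Agent.TcData.Fi24.I306936
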