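import Mathlib
import Cfsg.Agent.TcData.Fi24.I306936.Tab

set_option autoImplicit false
set_option Elab.async false
set_option maxRecDepth 100000
set_option linter.all false

namespace Cfsg.Agent.TcData.Fi24.I306936

open Cfsg.Spor Cfsg.Agent.Lib.TcFacts Cfsg.Agent.Lib.TcBits Cfsg.Agent.Lib.TcPres Cfsg.Spor.Fi24 Cfsg.Agent.TcData.Fi24

theorem b2507 : Block F al 320896 321024 128 :=
  block_of_check (k := 7) rfl (by decide +kernel)

theorem b2508 : Block F al 321024 321152 128 :=
  block_of_check (k := 7) rfl (by decide +kernel)

theorem b2509 : Block F al 321152 321280 128 :=
  block_of_check (k := 7) rfl (by decide +kernel)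

theorem b2510 : Block F al 321280 321408 128 :=
  block_of_check (k := 7) rfl (by decide +kernel)

theorem b2511 : Block F al 321408 321536 128 :=
  block_of_check (k := 7) rfl (by decide +kernel)

theorem b2512 : Block F al 321536 321664 128 :=
  block_of_check (k := 7) rfl (by decide +kernel)

theorem b2513 : Block F al 321664 321792 128 :=
  block_of_check (k := 7) rfl (by decide +kernel)

theorem b2514 : Block F al 321792 321920 128 :=
  block_of_check (k := 7) rfl (by decide +kernel)

theorem b2515 : Block F al 321920 322048 128 :=
  block_of_check (k := 7) rfl (by decide +kernel)

theorem b2516 : Block F al 322048 322176 128 :=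
  block_of_check (k := 7) rfl (by decide +kernel)

theorem b2517 : Block F al 322176 322304 128 :=
  block_of_check (k := 7) rfl (by decide +kernel)

theorem b2518 : Block F al 322304 322432 128 :=
  block_of_check (k := 7) rfl (by decide +kernel)

theorem b2519 : Block F al 322432 322560 128 :=
  block_of_check (k := 7) rfl (by decide +kernel)

theorem b2520 : Block F al 322560 322688 128 :=
  block_of_check (k := 7) rfl (by decide +kernel)

theorem b2521 : Block F al 322688 322816 128 :=
  block_of_check (k := 7) rfl (by decide +kernel)

theorem b2522 : Block F al 322816 322944 128 :=
  block_of_check (k := 7) rfl (by decide +kernel)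

theorem b2523 : Block F al 322944 323072 128 :=
  block_of_check (k := 7) rfl (by decide +kernel)

theorem b2524 : Block F al 323072 323200 128 :=
  block_of_check (k := 7) rfl (by decide +kernel)

theorem b2525 : Block F al 323200 323328 128 :=
  block_of_check (k := 7) rfl (by decide +kernel)

theorem b2526 : Block F al 323328 323456 128 :=
  block_of_check (k := 7) rfl (by decide +kernel)

theorem b2527 : Block F al 323456 323584 128 :=
  block_of_check (k := 7) rfl (by decide +kernel)

theorem b2528 : Block F al 323584 323712 128 :=
  block_of_check (k := 7) rfl (by decide +kernel)

theorem b2529 : Block F al 323712 323840 128 :=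
  block_of_check (k := 7) rfl (by decide +kernel)

theorem b2530 : Block F al 323840 323968 128 :=
  block_of_check (k := 7) rfl (by decide +kernel)

theorem b2531 : Block F al 323968 324096 128 :=
  block_of_check (k := 7) rfl (by decide +kernel)

theorem b2532 : Block F al 324096 324224 128 :=
  block_of_check (k := 7) rfl (by decide +kernel)

theorem b2533 : Block F al 324224 324352 128 :=
  block_of_check (k := 7) rfl (by decide +kernel)

theorem b2534 : Block F al 324352 324480 128 :=
  block_of_check (k := 7) rfl (by decide +kernel)

theorem b2535 : Block F al 324480 324608 128 :=
  block_of_check (k := 7) rfl (by decide +kernel)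

theorem b2536 : Block F al 324608 324736 128 :=
  block_of_check (k := 7) rfl (by decide +kernel)

theorem b2537 : Block F al 324736 324864 128 :=
  block_of_check (k := 7) rfl (by decide +kernel)

theorem b2538 : Block F al 324864 324992 128 :=
  block_of_check (k := 7) rfl (by decide +kernel)

theorem b2539 : Block F al 324992 325120 128 :=
  block_of_check (k := 7) rfl (by decide +kernel)

theorem b2540 : Block F al 325120 325248 128 :=
  block_of_check (k := 7) rfl (by decide +kernel)

theorem b2541 : Block F al 325248 325376 128 :=
  block_of_check (k := 7) rfl (by decide +kernel)

theorem b2542 : Block F al 325376 325504 128 :=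
  block_of_check (k := 7) rfl (by decide +kernel)

theorem b2543 : Block F al 325504 325632 128 :=
  block_of_check (k := 7) rfl (by decide +kernel)

theorem b2544 : Block F al 325632 325760 128 :=
  block_of_check (k := 7) rfl (by decide +kernel)

theorem b2545 : Block F al 325760 325888 128 :=
  block_of_check (k := 7) rfl (by decide +kernel)

theorem b2546 : Block F al 325888 326016 128 :=
  block_of_check (k := 7) rfl (by decide +kernel)

theorem b2547 : Block F al 326016 326144 128 :=
  block_of_check (k := 7) rfl (by decide +kernel)

theorem b2548 : Block F al 326144 326272 128 :=
  block_of_check (k := 7) rfl (by decide +kernel)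

theorem b2549 : Block F al 326272 326400 128 :=
  block_of_check (k := 7) rfl (by decide +kernel)

theorem b2550 : Block F al 326400 326528 128 :=
  block_of_check (k := 7) rfl (by decide +kernel)

theorem b2551 : Block F al 326528 326656 128 :=
  block_of_check (k := 7) rfl (by decide +kernel)

theorem b2552 : Block F al 326656 326784 128 :=
  block_of_check (k := 7) rfl (by decide +kernel)

end Cfsg.Agent.TcData.Fi24.I306936
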