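import Mathlib
import Cfsg.Agent.TcData.Fi24.I306936.Tab

set_option autoImplicit false
set_option Elab.async false
set_option maxRecDepth 100000
set_option linter.all false

namespace Cfsg.Agent.TcData.Fi24.I306936

open Cfsg.Spor Cfsg.Agent.Lib.TcFacts Cfsg.Agent.Lib.TcBits Cfsg.Agent.Lib.TcPres Cfsg.Spor.Fi24 Cfsg.Agent.TcData.Fi24

theorem b2553 : Block F al 326784 326912 128 :=
  block_of_check (k := 7) rfl (by decide +kernel)

theorem b2554 : Block F al 326912 327040 128 :=
  block_of_check (k := 7) rfl (by decide +kernel)

theorem b2555 : Block F al 327040 327168 128 :=
  block_of_check (k := 7) rfl (by decide +kernel)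

theorem b2556 : Block F al 327168 327296 128 :=
  block_of_check (k := 7) rfl (by decide +kernel)

theorem b2557 : Block F al 327296 327424 128 :=
  block_of_check (k := 7) rfl (by decide +kernel)

theorem b2558 : Block F al 327424 327552 128 :=
  block_of_check (k := 7) rfl (by decide +kernel)

theorem b2559 : Block F al 327552 327680 128 :=
  block_of_check (k := 7) rfl (by decide +kernel)

theorem b2560 : Block F al 327680 327808 128 :=
  block_of_check (k := 7) rfl (by decide +kernel)

theorem b2561 : Block F al 327808 327936 128 :=
  block_of_check (k := 7) rfl (by decide +kernel)

theorem b2562 : Block F al 327936 328064 128 :=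
  block_of_check (k := 7) rfl (by decide +kernel)

theorem b2563 : Block F al 328064 328192 128 :=
  block_of_check (k := 7) rfl (by decide +kernel)

theorem b2564 : Block F al 328192 328320 128 :=
  block_of_check (k := 7) rfl (by decide +kernel)

theorem b2565 : Block F al 328320 328448 128 :=
  block_of_check (k := 7) rfl (by decide +kernel)

theorem b2566 : Block F al 328448 328576 128 :=
  block_of_check (k := 7) rfl (by decide +kernel)

theorem b2567 : Block F al 328576 328704 128 :=
  block_of_check (k := 7) rfl (by decide +kernel)

theorem b2568 : Block F al 328704 328832 128 :=
  block_of_check (k := 7) rfl (by decide +kernel)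

theorem b2569 : Block F al 328832 328960 128 :=
  block_of_check (k := 7) rfl (by decide +kernel)

theorem b2570 : Block F al 328960 329088 128 :=
  block_of_check (k := 7) rfl (by decide +kernel)

theorem b2571 : Block F al 329088 329216 128 :=
  block_of_check (k := 7) rfl (by decide +kernel)

theorem b2572 : Block F al 329216 329344 128 :=
  block_of_check (k := 7) rfl (by decide +kernel)

theorem b2573 : Block F al 329344 329472 128 :=
  block_of_check (k := 7) rfl (by decide +kernel)

theorem b2574 : Block F al 329472 329600 128 :=
  block_of_check (k := 7) rfl (by decide +kernel)

theorem b2575 : Block F al 329600 329728 128 :=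
  block_of_check (k := 7) rfl (by decide +kernel)

theorem b2576 : Block F al 329728 329856 128 :=
  block_of_check (k := 7) rfl (by decide +kernel)

theorem b2577 : Block F al 329856 329984 128 :=
  block_of_check (k := 7) rfl (by decide +kernel)

theorem b2578 : Block F al 329984 330112 128 :=
  block_of_check (k := 7) rfl (by decide +kernel)

theorem b2579 : Block F al 330112 330240 128 :=
  block_of_check (k := 7) rfl (by decide +kernel)

theorem b2580 : Block F al 330240 330368 128 :=
  block_of_check (k := 7) rfl (by decide +kernel)

theorem b2581 : Block F al 330368 330496 128 :=
  block_of_check (k := 7) rfl (by decide +kernel)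

theorem b2582 : Block F al 330496 330624 128 :=
  block_of_check (k := 7) rfl (by decide +kernel)

theorem b2583 : Block F al 330624 330752 128 :=
  block_of_check (k := 7) rfl (by decide +kernel)

theorem b2584 : Block F al 330752 330880 128 :=
  block_of_check (k := 7) rfl (by decide +kernel)

theorem b2585 : Block F al 330880 331008 128 :=
  block_of_check (k := 7) rfl (by decide +kernel)

theorem b2586 : Block F al 331008 331136 128 :=
  block_of_check (k := 7) rfl (by decide +kernel)

theorem b2587 : Block F al 331136 331264 128 :=
  block_of_check (k := 7) rfl (by decide +kernel)

theorem b2588 : Block F al 331264 331392 128 :=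
  block_of_check (k := 7) rfl (by decide +kernel)

theorem b2589 : Block F al 331392 331520 128 :=
  block_of_check (k := 7) rfl (by decide +kernel)

theorem b2590 : Block F al 331520 331648 128 :=
  block_of_check (k := 7) rfl (by decide +kernel)

theorem b2591 : Block F al 331648 331776 128 :=
  block_of_check (k := 7) rfl (by decide +kernel)

theorem b2592 : Block F al 331776 331904 128 :=
  block_of_check (k := 7) rfl (by decide +kernel)

end Cfsg.Agent.TcData.Fi24.I306936
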