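import Mathlib
import Cfsg.Agent.TcData.Fi24.I306936.Tab

set_option autoImplicit false
set_option Elab.async false
set_option maxRecDepth 100000
set_option linter.all false

namespace Cfsg.Agent.TcData.Fi24.I306936

open Cfsg.Spor Cfsg.Agent.Lib.TcFacts Cfsg.Agent.Lib.TcBits Cfsg.Agent.Lib.TcPres Cfsg.Spor.Fi24 Cfsg.Agent.TcData.Fi24

theorem b2635 : Block F al 337280 337408 128 :=
  block_of_check (k := 7) rfl (by decide +kernel)

theorem b2636 : Block F al 337408 337536 128 :=
  block_of_check (k := 7) rfl (by decide +kernel)

theorem b2637 : Block F al 337536 337664 128 :=
  block_of_check (k := 7) rfl (by decide +kernel)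

theorem b2638 : Block F al 337664 337792 128 :=
  block_of_check (k := 7) rfl (by decide +kernel)

theorem b2639 : Block F al 337792 337920 128 :=
  block_of_check (k := 7) rfl (by decide +kernel)

theorem b2640 : Block F al 337920 338048 128 :=
  block_of_check (k := 7) rfl (by decide +kernel)

theorem b2641 : Block F al 338048 338176 128 :=
  block_of_check (k := 7) rfl (by decide +kernel)

theorem b2642 : Block F al 338176 338304 128 :=
  block_of_check (k := 7) rfl (by decide +kernel)

theorem b2643 : Block F al 338304 338432 128 :=
  block_of_check (k := 7) rfl (by decide +kernel)

theorem b2644 : Block F al 338432 338560 128 :=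
  block_of_check (k := 7) rfl (by decide +kernel)

theorem b2645 : Block F al 338560 338688 128 :=
  block_of_check (k := 7) rfl (by decide +kernel)

theorem b2646 : Block F al 338688 338816 128 :=
  block_of_check (k := 7) rfl (by decide +kernel)

theorem b2647 : Block F al 338816 338944 128 :=
  block_of_check (k := 7) rfl (by decide +kernel)

theorem b2648 : Block F al 338944 339072 128 :=
  block_of_check (k := 7) rfl (by decide +kernel)

theorem b2649 : Block F al 339072 339200 128 :=
  block_of_check (k := 7) rfl (by decide +kernel)

theorem b2650 : Block F al 339200 339328 128 :=
  block_of_check (k := 7) rfl (by decide +kernel)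

theorem b2651 : Block F al 339328 339456 128 :=
  block_of_check (k := 7) rfl (by decide +kernel)

theorem b2652 : Block F al 339456 339584 128 :=
  block_of_check (k := 7) rfl (by decide +kernel)

theorem b2653 : Block F al 339584 339712 128 :=
  block_of_check (k := 7) rfl (by decide +kernel)

theorem b2654 : Block F al 339712 339840 128 :=
  block_of_check (k := 7) rfl (by decide +kernel)

theorem b2655 : Block F al 339840 339968 128 :=
  block_of_check (k := 7) rfl (by decide +kernel)

theorem b2656 : Block F al 339968 340096 128 :=
  block_of_check (k := 7) rfl (by decide +kernel)

theorem b2657 : Block F al 340096 340224 128 :=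
  block_of_check (k := 7) rfl (by decide +kernel)

theorem b2658 : Block F al 340224 340352 128 :=
  block_of_check (k := 7) rfl (by decide +kernel)

theorem b2659 : Block F al 340352 340480 128 :=
  block_of_check (k := 7) rfl (by decide +kernel)

theorem b2660 : Block F al 340480 340608 128 :=
  block_of_check (k := 7) rfl (by decide +kernel)

theorem b2661 : Block F al 340608 340736 128 :=
  block_of_check (k := 7) rfl (by decide +kernel)

theorem b2662 : Block F al 340736 340864 128 :=
  block_of_check (k := 7) rfl (by decide +kernel)

theorem b2663 : Block F al 340864 340992 128 :=
  block_of_check (k := 7) rfl (by decide +kernel)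

theorem b2664 : Block F al 340992 341120 128 :=
  block_of_check (k := 7) rfl (by decide +kernel)

theorem b2665 : Block F al 341120 341248 128 :=
  block_of_check (k := 7) rfl (by decide +kernel)

theorem b2666 : Block F al 341248 341376 128 :=
  block_of_check (k := 7) rfl (by decide +kernel)

theorem b2667 : Block F al 341376 341504 128 :=
  block_of_check (k := 7) rfl (by decide +kernel)

theorem b2668 : Block F al 341504 341632 128 :=
  block_of_check (k := 7) rfl (by decide +kernel)

theorem b2669 : Block F al 341632 341760 128 :=
  block_of_check (k := 7) rfl (by decide +kernel)

theorem b2670 : Block F al 341760 341888 128 :=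
  block_of_check (k := 7) rfl (by decide +kernel)

theorem b2671 : Block F al 341888 342016 128 :=
  block_of_check (k := 7) rfl (by decide +kernel)

theorem b2672 : Block F al 342016 342144 128 :=
  block_of_check (k := 7) rfl (by decide +kernel)

theorem b2673 : Block F al 342144 342272 128 :=
  block_of_check (k := 7) rfl (by decide +kernel)

theorem b2674 : Block F al 342272 342400 128 :=
  block_of_check (k := 7) rfl (by decide +kernel)

theorem b2675 : Block F al 342400 342528 128 :=
  block_of_check (k := 7) rfl (by decide +kernel)

theorem b2676 : Block F al 342528 342656 128 :=
  block_of_check (k := 7) rfl (by decide +kernel)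

end Cfsg.Agent.TcData.Fi24.I306936
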