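import Mathlib
import Cfsg.Agent.TcData.Fi24.I306936.Tab

set_option autoImplicit false
set_option Elab.async false
set_option maxRecDepth 100000
set_option linter.all false

namespace Cfsg.Agent.TcData.Fi24.I306936

open Cfsg.Spor Cfsg.Agent.Lib.TcFacts Cfsg.Agent.Lib.TcBits Cfsg.Agent.Lib.TcPres Cfsg.Spor.Fi24 Cfsg.Agent.TcData.Fi24

theorem b2677 : Block F al 342656 342784 128 :=
  block_of_check (k := 7) rfl (by decide +kernel)

theorem b2678 : Block F al 342784 342912 128 :=
  block_of_check (k := 7) rfl (by decide +kernel)

theorem b2679 : Block F al 342912 343040 128 :=
  block_of_check (k := 7) rfl (by decide +kernel)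

theorem b2680 : Block F al 343040 343168 128 :=
  block_of_check (k := 7) rfl (by decide +kernel)

theorem b2681 : Block F al 343168 343296 128 :=
  block_of_check (k := 7) rfl (by decide +kernel)

theorem b2682 : Block F al 343296 343424 128 :=
  block_of_check (k := 7) rfl (by decide +kernel)

theorem b2683 : Block F al 343424 343552 128 :=
  block_of_check (k := 7) rfl (by decide +kernel)

theorem b2684 : Block F al 343552 343680 128 :=
  block_of_check (k := 7) rfl (by decide +kernel)

theorem b2685 : Block F al 343680 343808 128 :=
  block_of_check (k := 7) rfl (by decide +kernel)

theorem b2686 : Block F al 343808 343936 128 :=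
  block_of_check (k := 7) rfl (by decide +kernel)

theorem b2687 : Block F al 343936 344064 128 :=
  block_of_check (k := 7) rfl (by decide +kernel)

theorem b2688 : Block F al 344064 344192 128 :=
  block_of_check (k := 7) rfl (by decide +kernel)

theorem b2689 : Block F al 344192 344320 128 :=
  block_of_check (k := 7) rfl (by decide +kernel)

theorem b2690 : Block F al 344320 344448 128 :=
  block_of_check (k := 7) rfl (by decide +kernel)

theorem b2691 : Block F al 344448 344576 128 :=
  block_of_check (k := 7) rfl (by decide +kernel)

theorem b2692 : Block F al 344576 344704 128 :=
  block_of_check (k := 7) rfl (by decide +kernel)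

theorem b2693 : Block F al 344704 344832 128 :=
  block_of_check (k := 7) rfl (by decide +kernel)

theorem b2694 : Block F al 344832 344960 128 :=
  block_of_check (k := 7) rfl (by decide +kernel)

theorem b2695 : Block F al 344960 345088 128 :=
  block_of_check (k := 7) rfl (by decide +kernel)

theorem b2696 : Block F al 345088 345216 128 :=
  block_of_check (k := 7) rfl (by decide +kernel)

theorem b2697 : Block F al 345216 345344 128 :=
  block_of_check (k := 7) rfl (by decide +kernel)

theorem b2698 : Block F al 345344 345472 128 :=
  block_of_check (k := 7) rfl (by decide +kernel)

theorem b2699 : Block F al 345472 345600 128 :=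
  block_of_check (k := 7) rfl (by decide +kernel)

theorem b2700 : Block F al 345600 345728 128 :=
  block_of_check (k := 7) rfl (by decide +kernel)

theorem b2701 : Block F al 345728 345856 128 :=
  block_of_check (k := 7) rfl (by decide +kernel)

theorem b2702 : Block F al 345856 345984 128 :=
  block_of_check (k := 7) rfl (by decide +kernel)

theorem b2703 : Block F al 345984 346112 128 :=
  block_of_check (k := 7) rfl (by decide +kernel)

theorem b2704 : Block F al 346112 346240 128 :=
  block_of_check (k := 7) rfl (by decide +kernel)

theorem b2705 : Block F al 346240 346368 128 :=
  block_of_check (k := 7) rfl (by decide +kernel)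

theorem b2706 : Block F al 346368 346496 128 :=
  block_of_check (k := 7) rfl (by decide +kernel)

theorem b2707 : Block F al 346496 346624 128 :=
  block_of_check (k := 7) rfl (by decide +kernel)

theorem b2708 : Block F al 346624 346752 128 :=
  block_of_check (k := 7) rfl (by decide +kernel)

theorem b2709 : Block F al 346752 346880 128 :=
  block_of_check (k := 7) rfl (by decide +kernel)

theorem b2710 : Block F al 346880 347008 128 :=
  block_of_check (k := 7) rfl (by decide +kernel)

theorem b2711 : Block F al 347008 347136 128 :=
  block_of_check (k := 7) rfl (by decide +kernel)

theorem b2712 : Block F al 347136 347264 128 :=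
  block_of_check (k := 7) rfl (by decide +kernel)

theorem b2713 : Block F al 347264 347392 128 :=
  block_of_check (k := 7) rfl (by decide +kernel)

theorem b2714 : Block F al 347392 347520 128 :=
  block_of_check (k := 7) rfl (by decide +kernel)

theorem b2715 : Block F al 347520 347648 128 :=
  block_of_check (k := 7) rfl (by decide +kernel)

theorem b2716 : Block F al 347648 347776 128 :=
  block_of_check (k := 7) rfl (by decide +kernel)

theorem b2717 : Block F al 347776 347904 128 :=
  block_of_check (k := 7) rfl (by decide +kernel)

theorem b2718 : Block F al 347904 348032 128 :=
  block_of_check (k := 7) rfl (by decide +kernel)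

theorem b2719 : Block F al 348032 348160 128 :=
  block_of_check (k := 7) rfl (by decide +kernel)

end Cfsg.Agent.TcData.Fi24.I306936
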