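import Mathlib
import Cfsg.Agent.TcData.Fi24.I306936.Tab

set_option autoImplicit false
set_option Elab.async false
set_option maxRecDepth 100000
set_option linter.all false

namespace Cfsg.Agent.TcData.Fi24.I306936

open Cfsg.Spor Cfsg.Agent.Lib.TcFacts Cfsg.Agent.Lib.TcBits Cfsg.Agent.Lib.TcPres Cfsg.Spor.Fi24 Cfsg.Agent.TcData.Fi24

theorem b276 : Block F al 35328 35456 8 :=
  block_of_check (k := 7) rfl (by decide +kernel)

theorem b277 : Block F al 35456 35584 28 :=
  block_of_check (k := 7) rfl (by decide +kernel)

theorem b278 : Block F al 35584 35712 38 :=
  block_of_check (k := 7) rfl (by decide +kernel)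

theorem b279 : Block F al 35712 35840 20 :=
  block_of_check (k := 7) rfl (by decide +kernel)

theorem b280 : Block F al 35840 35968 96 :=
  block_of_check (k := 7) rfl (by decide +kernel)

theorem b281 : Block F al 35968 36096 105 :=
  block_of_check (k := 7) rfl (by decide +kernel)

theorem b282 : Block F al 36096 36224 128 :=
  block_of_check (k := 7) rfl (by decide +kernel)

theorem b283 : Block F al 36224 36352 109 :=
  block_of_check (k := 7) rfl (by decide +kernel)

theorem b284 : Block F al 36352 36480 91 :=
  block_of_check (k := 7) rfl (by decide +kernel)

theorem b285 : Block F al 36480 36608 128 :=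
  block_of_check (k := 7) rfl (by decide +kernel)

theorem b286 : Block F al 36608 36736 114 :=
  block_of_check (k := 7) rfl (by decide +kernel)

theorem b287 : Block F al 36736 36864 98 :=
  block_of_check (k := 7) rfl (by decide +kernel)

theorem b288 : Block F al 36864 36992 123 :=
  block_of_check (k := 7) rfl (by decide +kernel)

theorem b289 : Block F al 36992 37120 128 :=
  block_of_check (k := 7) rfl (by decide +kernel)

theorem b290 : Block F al 37120 37248 127 :=
  block_of_check (k := 7) rfl (by decide +kernel)

theorem b291 : Block F al 37248 37376 128 :=
  block_of_check (k := 7) rfl (by decide +kernel)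

theorem b292 : Block F al 37376 37504 121 :=
  block_of_check (k := 7) rfl (by decide +kernel)

theorem b293 : Block F al 37504 37632 116 :=
  block_of_check (k := 7) rfl (by decide +kernel)

theorem b294 : Block F al 37632 37760 45 :=
  block_of_check (k := 7) rfl (by decide +kernel)

theorem b295 : Block F al 37760 37888 46 :=
  block_of_check (k := 7) rfl (by decide +kernel)

theorem b296 : Block F al 37888 38016 77 :=
  block_of_check (k := 7) rfl (by decide +kernel)

theorem b297 : Block F al 38016 38144 26 :=
  block_of_check (k := 7) rfl (by decide +kernel)

theorem b298 : Block F al 38144 38272 86 :=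
  block_of_check (k := 7) rfl (by decide +kernel)

theorem b299 : Block F al 38272 38400 96 :=
  block_of_check (k := 7) rfl (by decide +kernel)

theorem b300 : Block F al 38400 38528 75 :=
  block_of_check (k := 7) rfl (by decide +kernel)

theorem b301 : Block F al 38528 38656 80 :=
  block_of_check (k := 7) rfl (by decide +kernel)

theorem b302 : Block F al 38656 38784 74 :=
  block_of_check (k := 7) rfl (by decide +kernel)

theorem b303 : Block F al 38784 38912 73 :=
  block_of_check (k := 7) rfl (by decide +kernel)

theorem b304 : Block F al 38912 39040 32 :=
  block_of_check (k := 7) rfl (by decide +kernel)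

theorem b305 : Block F al 39040 39168 27 :=
  block_of_check (k := 7) rfl (by decide +kernel)

theorem b306 : Block F al 39168 39296 108 :=
  block_of_check (k := 7) rfl (by decide +kernel)

theorem b307 : Block F al 39296 39424 79 :=
  block_of_check (k := 7) rfl (by decide +kernel)

theorem b308 : Block F al 39424 39552 124 :=
  block_of_check (k := 7) rfl (by decide +kernel)

theorem b309 : Block F al 39552 39680 75 :=
  block_of_check (k := 7) rfl (by decide +kernel)

theorem b310 : Block F al 39680 39808 126 :=
  block_of_check (k := 7) rfl (by decide +kernel)

theorem b311 : Block F al 39808 39936 118 :=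
  block_of_check (k := 7) rfl (by decide +kernel)

theorem b312 : Block F al 39936 40064 97 :=
  block_of_check (k := 7) rfl (by decide +kernel)

theorem b313 : Block F al 40064 40192 49 :=
  block_of_check (k := 7) rfl (by decide +kernel)

theorem b314 : Block F al 40192 40320 5 :=
  block_of_check (k := 7) rfl (by decide +kernel)

theorem b315 : Block F al 40320 40448 43 :=
  block_of_check (k := 7) rfl (by decide +kernel)

theorem b316 : Block F al 40448 40576 35 :=
  block_of_check (k := 7) rfl (by decide +kernel)

theorem b317 : Block F al 40576 40704 47 :=
  block_of_check (k := 7) rfl (by decide +kernel)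

theorem b318 : Block F al 40704 40832 30 :=
  block_of_check (k := 7) rfl (by decide +kernel)

theorem b319 : Block F al 40832 40960 23 :=
  block_of_check (k := 7) rfl (by decide +kernel)

theorem b320 : Block F al 40960 41088 16 :=
  block_of_check (k := 7) rfl (by decide +kernel)

theorem b321 : Block F al 41088 41216 14 :=
  block_of_check (k := 7) rfl (by decide +kernel)

theorem b322 : Block F al 41216 41344 11 :=
  block_of_check (k := 7) rfl (by decide +kernel)

theorem b323 : Block F al 41344 41472 3 :=
  block_of_check (k := 7) rfl (by decide +kernel)

theorem b324 : Block F al 41472 41600 0 :=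
  block_of_check (k := 7) rfl (by decide +kernel)

theorem b325 : Block F al 41600 41728 0 :=
  block_of_check (k := 7) rfl (by decide +kernel)

theorem b326 : Block F al 41728 41856 66 :=
  block_of_check (k := 7) rfl (by decide +kernel)

theorem b327 : Block F al 41856 41984 125 :=
  block_of_check (k := 7) rfl (by decide +kernel)

theorem b328 : Block F al 41984 42112 77 :=
  block_of_check (k := 7) rfl (by decide +kernel)

theorem b329 : Block F al 42112 42240 97 :=
  block_of_check (k := 7) rfl (by decide +kernel)

theorem b330 : Block F al 42240 42368 111 :=
  block_of_check (k := 7) rfl (by decide +kernel)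

theorem b331 : Block F al 42368 42496 101 :=
  block_of_check (k := 7) rfl (by decide +kernel)

theorem b332 : Block F al 42496 42624 82 :=
  block_of_check (k := 7) rfl (by decide +kernel)

theorem b333 : Block F al 42624 42752 30 :=
  block_of_check (k := 7) rfl (by decide +kernel)

theorem b334 : Block F al 42752 42880 31 :=
  block_of_check (k := 7) rfl (by decide +kernel)

theorem b335 : Block F al 42880 43008 29 :=
  block_of_check (k := 7) rfl (by decide +kernel)

theorem b336 : Block F al 43008 43136 31 :=
  block_of_check (k := 7) rfl (by decide +kernel)

end Cfsg.Agent.TcData.Fi24.I306936
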