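import Mathlib
import Cfsg.Agent.TcData.Fi24.I306936.Tab

set_option autoImplicit false
set_option Elab.async false
set_option maxRecDepth 100000
set_option linter.all false

namespace Cfsg.Agent.TcData.Fi24.I306936

open Cfsg.Spor Cfsg.Agent.Lib.TcFacts Cfsg.Agent.Lib.TcBits Cfsg.Agent.Lib.TcPres Cfsg.Spor.Fi24 Cfsg.Agent.TcData.Fi24

theorem b337 : Block F al 43136 43264 43 :=
  block_of_check (k := 7) rfl (by decide +kernel)

theorem b338 : Block F al 43264 43392 7 :=
  block_of_check (k := 7) rfl (by decide +kernel)

theorem b339 : Block F al 43392 43520 53 :=
  block_of_check (k := 7) rfl (by decide +kernel)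

theorem b340 : Block F al 43520 43648 70 :=
  block_of_check (k := 7) rfl (by decide +kernel)

theorem b341 : Block F al 43648 43776 68 :=
  block_of_check (k := 7) rfl (by decide +kernel)

theorem b342 : Block F al 43776 43904 58 :=
  block_of_check (k := 7) rfl (by decide +kernel)

theorem b343 : Block F al 43904 44032 2 :=
  block_of_check (k := 7) rfl (by decide +kernel)

theorem b344 : Block F al 44032 44160 2 :=
  block_of_check (k := 7) rfl (by decide +kernel)

theorem b345 : Block F al 44160 44288 6 :=
  block_of_check (k := 7) rfl (by decide +kernel)

theorem b346 : Block F al 44288 44416 91 :=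
  block_of_check (k := 7) rfl (by decide +kernel)

theorem b347 : Block F al 44416 44544 127 :=
  block_of_check (k := 7) rfl (by decide +kernel)

theorem b348 : Block F al 44544 44672 103 :=
  block_of_check (k := 7) rfl (by decide +kernel)

theorem b349 : Block F al 44672 44800 119 :=
  block_of_check (k := 7) rfl (by decide +kernel)

theorem b350 : Block F al 44800 44928 128 :=
  block_of_check (k := 7) rfl (by decide +kernel)

theorem b351 : Block F al 44928 45056 83 :=
  block_of_check (k := 7) rfl (by decide +kernel)

theorem b352 : Block F al 45056 45184 84 :=
  block_of_check (k := 7) rfl (by decide +kernel)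

theorem b353 : Block F al 45184 45312 120 :=
  block_of_check (k := 7) rfl (by decide +kernel)

theorem b354 : Block F al 45312 45440 127 :=
  block_of_check (k := 7) rfl (by decide +kernel)

theorem b355 : Block F al 45440 45568 120 :=
  block_of_check (k := 7) rfl (by decide +kernel)

theorem b356 : Block F al 45568 45696 117 :=
  block_of_check (k := 7) rfl (by decide +kernel)

theorem b357 : Block F al 45696 45824 97 :=
  block_of_check (k := 7) rfl (by decide +kernel)

theorem b358 : Block F al 45824 45952 91 :=
  block_of_check (k := 7) rfl (by decide +kernel)

theorem b359 : Block F al 45952 46080 41 :=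
  block_of_check (k := 7) rfl (by decide +kernel)

theorem b360 : Block F al 46080 46208 51 :=
  block_of_check (k := 7) rfl (by decide +kernel)

theorem b361 : Block F al 46208 46336 20 :=
  block_of_check (k := 7) rfl (by decide +kernel)

theorem b362 : Block F al 46336 46464 43 :=
  block_of_check (k := 7) rfl (by decide +kernel)

theorem b363 : Block F al 46464 46592 57 :=
  block_of_check (k := 7) rfl (by decide +kernel)

theorem b364 : Block F al 46592 46720 74 :=
  block_of_check (k := 7) rfl (by decide +kernel)

theorem b365 : Block F al 46720 46848 57 :=
  block_of_check (k := 7) rfl (by decide +kernel)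

theorem b366 : Block F al 46848 46976 55 :=
  block_of_check (k := 7) rfl (by decide +kernel)

theorem b367 : Block F al 46976 47104 48 :=
  block_of_check (k := 7) rfl (by decide +kernel)

theorem b368 : Block F al 47104 47232 27 :=
  block_of_check (k := 7) rfl (by decide +kernel)

theorem b369 : Block F al 47232 47360 67 :=
  block_of_check (k := 7) rfl (by decide +kernel)

theorem b370 : Block F al 47360 47488 98 :=
  block_of_check (k := 7) rfl (by decide +kernel)

theorem b371 : Block F al 47488 47616 119 :=
  block_of_check (k := 7) rfl (by decide +kernel)

theorem b372 : Block F al 47616 47744 45 :=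
  block_of_check (k := 7) rfl (by decide +kernel)

theorem b373 : Block F al 47744 47872 117 :=
  block_of_check (k := 7) rfl (by decide +kernel)

theorem b374 : Block F al 47872 48000 102 :=
  block_of_check (k := 7) rfl (by decide +kernel)

theorem b375 : Block F al 48000 48128 64 :=
  block_of_check (k := 7) rfl (by decide +kernel)

theorem b376 : Block F al 48128 48256 16 :=
  block_of_check (k := 7) rfl (by decide +kernel)

theorem b377 : Block F al 48256 48384 1 :=
  block_of_check (k := 7) rfl (by decide +kernel)

theorem b378 : Block F al 48384 48512 21 :=
  block_of_check (k := 7) rfl (by decide +kernel)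

theorem b379 : Block F al 48512 48640 23 :=
  block_of_check (k := 7) rfl (by decide +kernel)

theorem b380 : Block F al 48640 48768 19 :=
  block_of_check (k := 7) rfl (by decide +kernel)

theorem b381 : Block F al 48768 48896 31 :=
  block_of_check (k := 7) rfl (by decide +kernel)

theorem b382 : Block F al 48896 49024 100 :=
  block_of_check (k := 7) rfl (by decide +kernel)

theorem b383 : Block F al 49024 49152 111 :=
  block_of_check (k := 7) rfl (by decide +kernel)

theorem b384 : Block F al 49152 49280 97 :=
  block_of_check (k := 7) rfl (by decide +kernel)

theorem b385 : Block F al 49280 49408 127 :=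
  block_of_check (k := 7) rfl (by decide +kernel)

theorem b386 : Block F al 49408 49536 125 :=
  block_of_check (k := 7) rfl (by decide +kernel)

theorem b387 : Block F al 49536 49664 59 :=
  block_of_check (k := 7) rfl (by decide +kernel)

theorem b388 : Block F al 49664 49792 91 :=
  block_of_check (k := 7) rfl (by decide +kernel)

theorem b389 : Block F al 49792 49920 128 :=
  block_of_check (k := 7) rfl (by decide +kernel)

theorem b390 : Block F al 49920 50048 128 :=
  block_of_check (k := 7) rfl (by decide +kernel)

theorem b391 : Block F al 50048 50176 85 :=
  block_of_check (k := 7) rfl (by decide +kernel)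

theorem b392 : Block F al 50176 50304 109 :=
  block_of_check (k := 7) rfl (by decide +kernel)

theorem b393 : Block F al 50304 50432 81 :=
  block_of_check (k := 7) rfl (by decide +kernel)

theorem b394 : Block F al 50432 50560 128 :=
  block_of_check (k := 7) rfl (by decide +kernel)

theorem b395 : Block F al 50560 50688 127 :=
  block_of_check (k := 7) rfl (by decide +kernel)

end Cfsg.Agent.TcData.Fi24.I306936
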