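import Mathlib
import Cfsg.Agent.TcData.Fi24.I306936.Tab

set_option autoImplicit false
set_option Elab.async false
set_option maxRecDepth 100000
set_option linter.all false

namespace Cfsg.Agent.TcData.Fi24.I306936

open Cfsg.Spor Cfsg.Agent.Lib.TcFacts Cfsg.Agent.Lib.TcBits Cfsg.Agent.Lib.TcPres Cfsg.Spor.Fi24 Cfsg.Agent.TcData.Fi24

theorem b396 : Block F al 50688 50816 128 :=
  block_of_check (k := 7) rfl (by decide +kernel)

theorem b397 : Block F al 50816 50944 122 :=
  block_of_check (k := 7) rfl (by decide +kernel)

theorem b398 : Block F al 50944 51072 128 :=
  block_of_check (k := 7) rfl (by decide +kernel)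

theorem b399 : Block F al 51072 51200 117 :=
  block_of_check (k := 7) rfl (by decide +kernel)

theorem b400 : Block F al 51200 51328 109 :=
  block_of_check (k := 7) rfl (by decide +kernel)

theorem b401 : Block F al 51328 51456 100 :=
  block_of_check (k := 7) rfl (by decide +kernel)

theorem b402 : Block F al 51456 51584 67 :=
  block_of_check (k := 7) rfl (by decide +kernel)

theorem b403 : Block F al 51584 51712 25 :=
  block_of_check (k := 7) rfl (by decide +kernel)

theorem b404 : Block F al 51712 51840 23 :=
  block_of_check (k := 7) rfl (by decide +kernel)

theorem b405 : Block F al 51840 51968 79 :=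
  block_of_check (k := 7) rfl (by decide +kernel)

theorem b406 : Block F al 51968 52096 46 :=
  block_of_check (k := 7) rfl (by decide +kernel)

theorem b407 : Block F al 52096 52224 14 :=
  block_of_check (k := 7) rfl (by decide +kernel)

theorem b408 : Block F al 52224 52352 59 :=
  block_of_check (k := 7) rfl (by decide +kernel)

theorem b409 : Block F al 52352 52480 69 :=
  block_of_check (k := 7) rfl (by decide +kernel)

theorem b410 : Block F al 52480 52608 67 :=
  block_of_check (k := 7) rfl (by decide +kernel)

theorem b411 : Block F al 52608 52736 90 :=
  block_of_check (k := 7) rfl (by decide +kernel)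

theorem b412 : Block F al 52736 52864 50 :=
  block_of_check (k := 7) rfl (by decide +kernel)

theorem b413 : Block F al 52864 52992 73 :=
  block_of_check (k := 7) rfl (by decide +kernel)

theorem b414 : Block F al 52992 53120 74 :=
  block_of_check (k := 7) rfl (by decide +kernel)

theorem b415 : Block F al 53120 53248 53 :=
  block_of_check (k := 7) rfl (by decide +kernel)

theorem b416 : Block F al 53248 53376 43 :=
  block_of_check (k := 7) rfl (by decide +kernel)

theorem b417 : Block F al 53376 53504 28 :=
  block_of_check (k := 7) rfl (by decide +kernel)

theorem b418 : Block F al 53504 53632 6 :=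
  block_of_check (k := 7) rfl (by decide +kernel)

theorem b419 : Block F al 53632 53760 37 :=
  block_of_check (k := 7) rfl (by decide +kernel)

theorem b420 : Block F al 53760 53888 93 :=
  block_of_check (k := 7) rfl (by decide +kernel)

theorem b421 : Block F al 53888 54016 90 :=
  block_of_check (k := 7) rfl (by decide +kernel)

theorem b422 : Block F al 54016 54144 86 :=
  block_of_check (k := 7) rfl (by decide +kernel)

theorem b423 : Block F al 54144 54272 113 :=
  block_of_check (k := 7) rfl (by decide +kernel)

theorem b424 : Block F al 54272 54400 46 :=
  block_of_check (k := 7) rfl (by decide +kernel)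

theorem b425 : Block F al 54400 54528 115 :=
  block_of_check (k := 7) rfl (by decide +kernel)

theorem b426 : Block F al 54528 54656 118 :=
  block_of_check (k := 7) rfl (by decide +kernel)

theorem b427 : Block F al 54656 54784 96 :=
  block_of_check (k := 7) rfl (by decide +kernel)

theorem b428 : Block F al 54784 54912 92 :=
  block_of_check (k := 7) rfl (by decide +kernel)

theorem b429 : Block F al 54912 55040 76 :=
  block_of_check (k := 7) rfl (by decide +kernel)

theorem b430 : Block F al 55040 55168 10 :=
  block_of_check (k := 7) rfl (by decide +kernel)

theorem b431 : Block F al 55168 55296 3 :=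
  block_of_check (k := 7) rfl (by decide +kernel)

theorem b432 : Block F al 55296 55424 6 :=
  block_of_check (k := 7) rfl (by decide +kernel)

theorem b433 : Block F al 55424 55552 41 :=
  block_of_check (k := 7) rfl (by decide +kernel)

theorem b434 : Block F al 55552 55680 20 :=
  block_of_check (k := 7) rfl (by decide +kernel)

theorem b435 : Block F al 55680 55808 39 :=
  block_of_check (k := 7) rfl (by decide +kernel)

theorem b436 : Block F al 55808 55936 26 :=
  block_of_check (k := 7) rfl (by decide +kernel)

theorem b437 : Block F al 55936 56064 24 :=
  block_of_check (k := 7) rfl (by decide +kernel)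

theorem b438 : Block F al 56064 56192 0 :=
  block_of_check (k := 7) rfl (by decide +kernel)

theorem b439 : Block F al 56192 56320 17 :=
  block_of_check (k := 7) rfl (by decide +kernel)

theorem b440 : Block F al 56320 56448 10 :=
  block_of_check (k := 7) rfl (by decide +kernel)

theorem b441 : Block F al 56448 56576 0 :=
  block_of_check (k := 7) rfl (by decide +kernel)

theorem b442 : Block F al 56576 56704 4 :=
  block_of_check (k := 7) rfl (by decide +kernel)

theorem b443 : Block F al 56704 56832 1 :=
  block_of_check (k := 7) rfl (by decide +kernel)

theorem b444 : Block F al 56832 56960 0 :=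
  block_of_check (k := 7) rfl (by decide +kernel)

theorem b445 : Block F al 56960 57088 0 :=
  block_of_check (k := 7) rfl (by decide +kernel)

theorem b446 : Block F al 57088 57216 0 :=
  block_of_check (k := 7) rfl (by decide +kernel)

theorem b447 : Block F al 57216 57344 52 :=
  block_of_check (k := 7) rfl (by decide +kernel)

theorem b448 : Block F al 57344 57472 101 :=
  block_of_check (k := 7) rfl (by decide +kernel)

theorem b449 : Block F al 57472 57600 114 :=
  block_of_check (k := 7) rfl (by decide +kernel)

theorem b450 : Block F al 57600 57728 57 :=
  block_of_check (k := 7) rfl (by decide +kernel)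

theorem b451 : Block F al 57728 57856 62 :=
  block_of_check (k := 7) rfl (by decide +kernel)

theorem b452 : Block F al 57856 57984 104 :=
  block_of_check (k := 7) rfl (by decide +kernel)

theorem b453 : Block F al 57984 58112 96 :=
  block_of_check (k := 7) rfl (by decide +kernel)

theorem b454 : Block F al 58112 58240 98 :=
  block_of_check (k := 7) rfl (by decide +kernel)

theorem b455 : Block F al 58240 58368 75 :=
  block_of_check (k := 7) rfl (by decide +kernel)

theorem b456 : Block F al 58368 58496 83 :=
  block_of_check (k := 7) rfl (by decide +kernel)

theorem b457 : Block F al 58496 58624 24 :=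
  block_of_check (k := 7) rfl (by decide +kernel)

theorem b458 : Block F al 58624 58752 10 :=
  block_of_check (k := 7) rfl (by decide +kernel)

theorem b459 : Block F al 58752 58880 29 :=
  block_of_check (k := 7) rfl (by decide +kernel)

theorem b460 : Block F al 58880 59008 6 :=
  block_of_check (k := 7) rfl (by decide +kernel)

theorem b461 : Block F al 59008 59136 20 :=
  block_of_check (k := 7) rfl (by decide +kernel)

end Cfsg.Agent.TcData.Fi24.I306936
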