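import Mathlib
import Cfsg.Agent.TcData.Fi24.I306936.Tab

set_option autoImplicit false
set_option Elab.async false
set_option maxRecDepth 100000
set_option linter.all false

namespace Cfsg.Agent.TcData.Fi24.I306936

open Cfsg.Spor Cfsg.Agent.Lib.TcFacts Cfsg.Agent.Lib.TcBits Cfsg.Agent.Lib.TcPres Cfsg.Spor.Fi24 Cfsg.Agent.TcData.Fi24

theorem b462 : Block F al 59136 59264 29 :=
  block_of_check (k := 7) rfl (by decide +kernel)

theorem b463 : Block F al 59264 59392 21 :=
  block_of_check (k := 7) rfl (by decide +kernel)

theorem b464 : Block F al 59392 59520 21 :=
  block_of_check (k := 7) rfl (by decide +kernel)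

theorem b465 : Block F al 59520 59648 4 :=
  block_of_check (k := 7) rfl (by decide +kernel)

theorem b466 : Block F al 59648 59776 38 :=
  block_of_check (k := 7) rfl (by decide +kernel)

theorem b467 : Block F al 59776 59904 69 :=
  block_of_check (k := 7) rfl (by decide +kernel)

theorem b468 : Block F al 59904 60032 28 :=
  block_of_check (k := 7) rfl (by decide +kernel)

theorem b469 : Block F al 60032 60160 57 :=
  block_of_check (k := 7) rfl (by decide +kernel)

theorem b470 : Block F al 60160 60288 36 :=
  block_of_check (k := 7) rfl (by decide +kernel)

theorem b471 : Block F al 60288 60416 12 :=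
  block_of_check (k := 7) rfl (by decide +kernel)

theorem b472 : Block F al 60416 60544 0 :=
  block_of_check (k := 7) rfl (by decide +kernel)

theorem b473 : Block F al 60544 60672 0 :=
  block_of_check (k := 7) rfl (by decide +kernel)

theorem b474 : Block F al 60672 60800 4 :=
  block_of_check (k := 7) rfl (by decide +kernel)

theorem b475 : Block F al 60800 60928 41 :=
  block_of_check (k := 7) rfl (by decide +kernel)

theorem b476 : Block F al 60928 61056 121 :=
  block_of_check (k := 7) rfl (by decide +kernel)

theorem b477 : Block F al 61056 61184 124 :=
  block_of_check (k := 7) rfl (by decide +kernel)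

theorem b478 : Block F al 61184 61312 105 :=
  block_of_check (k := 7) rfl (by decide +kernel)

theorem b479 : Block F al 61312 61440 81 :=
  block_of_check (k := 7) rfl (by decide +kernel)

theorem b480 : Block F al 61440 61568 120 :=
  block_of_check (k := 7) rfl (by decide +kernel)

theorem b481 : Block F al 61568 61696 125 :=
  block_of_check (k := 7) rfl (by decide +kernel)

theorem b482 : Block F al 61696 61824 111 :=
  block_of_check (k := 7) rfl (by decide +kernel)

theorem b483 : Block F al 61824 61952 64 :=
  block_of_check (k := 7) rfl (by decide +kernel)

theorem b484 : Block F al 61952 62080 100 :=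
  block_of_check (k := 7) rfl (by decide +kernel)

theorem b485 : Block F al 62080 62208 54 :=
  block_of_check (k := 7) rfl (by decide +kernel)

theorem b486 : Block F al 62208 62336 128 :=
  block_of_check (k := 7) rfl (by decide +kernel)

theorem b487 : Block F al 62336 62464 120 :=
  block_of_check (k := 7) rfl (by decide +kernel)

theorem b488 : Block F al 62464 62592 118 :=
  block_of_check (k := 7) rfl (by decide +kernel)

theorem b489 : Block F al 62592 62720 106 :=
  block_of_check (k := 7) rfl (by decide +kernel)

theorem b490 : Block F al 62720 62848 119 :=
  block_of_check (k := 7) rfl (by decide +kernel)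

theorem b491 : Block F al 62848 62976 105 :=
  block_of_check (k := 7) rfl (by decide +kernel)

theorem b492 : Block F al 62976 63104 74 :=
  block_of_check (k := 7) rfl (by decide +kernel)

theorem b493 : Block F al 63104 63232 113 :=
  block_of_check (k := 7) rfl (by decide +kernel)

theorem b494 : Block F al 63232 63360 13 :=
  block_of_check (k := 7) rfl (by decide +kernel)

theorem b495 : Block F al 63360 63488 39 :=
  block_of_check (k := 7) rfl (by decide +kernel)

theorem b496 : Block F al 63488 63616 11 :=
  block_of_check (k := 7) rfl (by decide +kernel)

theorem b497 : Block F al 63616 63744 75 :=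
  block_of_check (k := 7) rfl (by decide +kernel)

theorem b498 : Block F al 63744 63872 0 :=
  block_of_check (k := 7) rfl (by decide +kernel)

theorem b499 : Block F al 63872 64000 15 :=
  block_of_check (k := 7) rfl (by decide +kernel)

theorem b500 : Block F al 64000 64128 46 :=
  block_of_check (k := 7) rfl (by decide +kernel)

theorem b501 : Block F al 64128 64256 46 :=
  block_of_check (k := 7) rfl (by decide +kernel)

theorem b502 : Block F al 64256 64384 71 :=
  block_of_check (k := 7) rfl (by decide +kernel)

theorem b503 : Block F al 64384 64512 26 :=
  block_of_check (k := 7) rfl (by decide +kernel)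

theorem b504 : Block F al 64512 64640 69 :=
  block_of_check (k := 7) rfl (by decide +kernel)

theorem b505 : Block F al 64640 64768 25 :=
  block_of_check (k := 7) rfl (by decide +kernel)

theorem b506 : Block F al 64768 64896 51 :=
  block_of_check (k := 7) rfl (by decide +kernel)

theorem b507 : Block F al 64896 65024 20 :=
  block_of_check (k := 7) rfl (by decide +kernel)

theorem b508 : Block F al 65024 65152 3 :=
  block_of_check (k := 7) rfl (by decide +kernel)

theorem b509 : Block F al 65152 65280 28 :=
  block_of_check (k := 7) rfl (by decide +kernel)

theorem b510 : Block F al 65280 65408 109 :=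
  block_of_check (k := 7) rfl (by decide +kernel)

theorem b511 : Block F al 65408 65536 96 :=
  block_of_check (k := 7) rfl (by decide +kernel)

theorem b512 : Block F al 65536 65664 117 :=
  block_of_check (k := 7) rfl (by decide +kernel)

theorem b513 : Block F al 65664 65792 23 :=
  block_of_check (k := 7) rfl (by decide +kernel)

theorem b514 : Block F al 65792 65920 69 :=
  block_of_check (k := 7) rfl (by decide +kernel)

theorem b515 : Block F al 65920 66048 96 :=
  block_of_check (k := 7) rfl (by decide +kernel)

theorem b516 : Block F al 66048 66176 71 :=
  block_of_check (k := 7) rfl (by decide +kernel)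

theorem b517 : Block F al 66176 66304 67 :=
  block_of_check (k := 7) rfl (by decide +kernel)

theorem b518 : Block F al 66304 66432 57 :=
  block_of_check (k := 7) rfl (by decide +kernel)

theorem b519 : Block F al 66432 66560 0 :=
  block_of_check (k := 7) rfl (by decide +kernel)

theorem b520 : Block F al 66560 66688 0 :=
  block_of_check (k := 7) rfl (by decide +kernel)

theorem b521 : Block F al 66688 66816 3 :=
  block_of_check (k := 7) rfl (by decide +kernel)

theorem b522 : Block F al 66816 66944 15 :=
  block_of_check (k := 7) rfl (by decide +kernel)

theorem b523 : Block F al 66944 67072 18 :=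
  block_of_check (k := 7) rfl (by decide +kernel)

theorem b524 : Block F al 67072 67200 12 :=
  block_of_check (k := 7) rfl (by decide +kernel)

theorem b525 : Block F al 67200 67328 15 :=
  block_of_check (k := 7) rfl (by decide +kernel)

theorem b526 : Block F al 67328 67456 29 :=
  block_of_check (k := 7) rfl (by decide +kernel)

end Cfsg.Agent.TcData.Fi24.I306936
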