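import Mathlib
import Cfsg.Agent.TcData.Fi24.I306936.Tab

set_option autoImplicit false
set_option Elab.async false
set_option maxRecDepth 100000
set_option linter.all false

namespace Cfsg.Agent.TcData.Fi24.I306936

open Cfsg.Spor Cfsg.Agent.Lib.TcFacts Cfsg.Agent.Lib.TcBits Cfsg.Agent.Lib.TcPres Cfsg.Spor.Fi24 Cfsg.Agent.TcData.Fi24

theorem b527 : Block F al 67456 67584 111 :=
  block_of_check (k := 7) rfl (by decide +kernel)

theorem b528 : Block F al 67584 67712 115 :=
  block_of_check (k := 7) rfl (by decide +kernel)

theorem b529 : Block F al 67712 67840 84 :=
  block_of_check (k := 7) rfl (by decide +kernel)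

theorem b530 : Block F al 67840 67968 93 :=
  block_of_check (k := 7) rfl (by decide +kernel)

theorem b531 : Block F al 67968 68096 128 :=
  block_of_check (k := 7) rfl (by decide +kernel)

theorem b532 : Block F al 68096 68224 125 :=
  block_of_check (k := 7) rfl (by decide +kernel)

theorem b533 : Block F al 68224 68352 107 :=
  block_of_check (k := 7) rfl (by decide +kernel)

theorem b534 : Block F al 68352 68480 34 :=
  block_of_check (k := 7) rfl (by decide +kernel)

theorem b535 : Block F al 68480 68608 79 :=
  block_of_check (k := 7) rfl (by decide +kernel)

theorem b536 : Block F al 68608 68736 91 :=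
  block_of_check (k := 7) rfl (by decide +kernel)

theorem b537 : Block F al 68736 68864 128 :=
  block_of_check (k := 7) rfl (by decide +kernel)

theorem b538 : Block F al 68864 68992 127 :=
  block_of_check (k := 7) rfl (by decide +kernel)

theorem b539 : Block F al 68992 69120 121 :=
  block_of_check (k := 7) rfl (by decide +kernel)

theorem b540 : Block F al 69120 69248 61 :=
  block_of_check (k := 7) rfl (by decide +kernel)

theorem b541 : Block F al 69248 69376 74 :=
  block_of_check (k := 7) rfl (by decide +kernel)

theorem b542 : Block F al 69376 69504 128 :=
  block_of_check (k := 7) rfl (by decide +kernel)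

theorem b543 : Block F al 69504 69632 51 :=
  block_of_check (k := 7) rfl (by decide +kernel)

theorem b544 : Block F al 69632 69760 113 :=
  block_of_check (k := 7) rfl (by decide +kernel)

theorem b545 : Block F al 69760 69888 127 :=
  block_of_check (k := 7) rfl (by decide +kernel)

theorem b546 : Block F al 69888 70016 128 :=
  block_of_check (k := 7) rfl (by decide +kernel)

theorem b547 : Block F al 70016 70144 122 :=
  block_of_check (k := 7) rfl (by decide +kernel)

theorem b548 : Block F al 70144 70272 125 :=
  block_of_check (k := 7) rfl (by decide +kernel)

theorem b549 : Block F al 70272 70400 114 :=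
  block_of_check (k := 7) rfl (by decide +kernel)

theorem b550 : Block F al 70400 70528 118 :=
  block_of_check (k := 7) rfl (by decide +kernel)

theorem b551 : Block F al 70528 70656 125 :=
  block_of_check (k := 7) rfl (by decide +kernel)

theorem b552 : Block F al 70656 70784 91 :=
  block_of_check (k := 7) rfl (by decide +kernel)

theorem b553 : Block F al 70784 70912 113 :=
  block_of_check (k := 7) rfl (by decide +kernel)

theorem b554 : Block F al 70912 71040 80 :=
  block_of_check (k := 7) rfl (by decide +kernel)

theorem b555 : Block F al 71040 71168 92 :=
  block_of_check (k := 7) rfl (by decide +kernel)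

theorem b556 : Block F al 71168 71296 99 :=
  block_of_check (k := 7) rfl (by decide +kernel)

theorem b557 : Block F al 71296 71424 0 :=
  block_of_check (k := 7) rfl (by decide +kernel)

theorem b558 : Block F al 71424 71552 20 :=
  block_of_check (k := 7) rfl (by decide +kernel)

theorem b559 : Block F al 71552 71680 25 :=
  block_of_check (k := 7) rfl (by decide +kernel)

theorem b560 : Block F al 71680 71808 15 :=
  block_of_check (k := 7) rfl (by decide +kernel)

theorem b561 : Block F al 71808 71936 68 :=
  block_of_check (k := 7) rfl (by decide +kernel)

theorem b562 : Block F al 71936 72064 81 :=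
  block_of_check (k := 7) rfl (by decide +kernel)

theorem b563 : Block F al 72064 72192 0 :=
  block_of_check (k := 7) rfl (by decide +kernel)

theorem b564 : Block F al 72192 72320 11 :=
  block_of_check (k := 7) rfl (by decide +kernel)

theorem b565 : Block F al 72320 72448 14 :=
  block_of_check (k := 7) rfl (by decide +kernel)

theorem b566 : Block F al 72448 72576 68 :=
  block_of_check (k := 7) rfl (by decide +kernel)

theorem b567 : Block F al 72576 72704 52 :=
  block_of_check (k := 7) rfl (by decide +kernel)

theorem b568 : Block F al 72704 72832 62 :=
  block_of_check (k := 7) rfl (by decide +kernel)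

theorem b569 : Block F al 72832 72960 65 :=
  block_of_check (k := 7) rfl (by decide +kernel)

theorem b570 : Block F al 72960 73088 79 :=
  block_of_check (k := 7) rfl (by decide +kernel)

theorem b571 : Block F al 73088 73216 48 :=
  block_of_check (k := 7) rfl (by decide +kernel)

theorem b572 : Block F al 73216 73344 28 :=
  block_of_check (k := 7) rfl (by decide +kernel)

theorem b573 : Block F al 73344 73472 73 :=
  block_of_check (k := 7) rfl (by decide +kernel)

theorem b574 : Block F al 73472 73600 64 :=
  block_of_check (k := 7) rfl (by decide +kernel)

theorem b575 : Block F al 73600 73728 13 :=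
  block_of_check (k := 7) rfl (by decide +kernel)

theorem b576 : Block F al 73728 73856 49 :=
  block_of_check (k := 7) rfl (by decide +kernel)

theorem b577 : Block F al 73856 73984 18 :=
  block_of_check (k := 7) rfl (by decide +kernel)

theorem b578 : Block F al 73984 74112 24 :=
  block_of_check (k := 7) rfl (by decide +kernel)

theorem b579 : Block F al 74112 74240 0 :=
  block_of_check (k := 7) rfl (by decide +kernel)

theorem b580 : Block F al 74240 74368 3 :=
  block_of_check (k := 7) rfl (by decide +kernel)

theorem b581 : Block F al 74368 74496 36 :=
  block_of_check (k := 7) rfl (by decide +kernel)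

theorem b582 : Block F al 74496 74624 61 :=
  block_of_check (k := 7) rfl (by decide +kernel)

theorem b583 : Block F al 74624 74752 115 :=
  block_of_check (k := 7) rfl (by decide +kernel)

theorem b584 : Block F al 74752 74880 59 :=
  block_of_check (k := 7) rfl (by decide +kernel)

theorem b585 : Block F al 74880 75008 82 :=
  block_of_check (k := 7) rfl (by decide +kernel)

theorem b586 : Block F al 75008 75136 123 :=
  block_of_check (k := 7) rfl (by decide +kernel)

theorem b587 : Block F al 75136 75264 32 :=
  block_of_check (k := 7) rfl (by decide +kernel)

theorem b588 : Block F al 75264 75392 54 :=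
  block_of_check (k := 7) rfl (by decide +kernel)

theorem b589 : Block F al 75392 75520 107 :=
  block_of_check (k := 7) rfl (by decide +kernel)

end Cfsg.Agent.TcData.Fi24.I306936
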