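import Mathlib
import Cfsg.Agent.TcData.Fi24.I306936.Chk0
import Cfsg.Agent.TcData.Fi24.I306936.Chk1
import Cfsg.Agent.TcData.Fi24.I306936.Chk2
import Cfsg.Agent.TcData.Fi24.I306936.Chk3
import Cfsg.Agent.TcData.Fi24.I306936.Chk4
import Cfsg.Agent.TcData.Fi24.I306936.Chk5
import Cfsg.Agent.TcData.Fi24.I306936.Chk6
import Cfsg.Agent.TcData.Fi24.I306936.Chk7
import Cfsg.Agent.TcData.Fi24.I306936.Chk8
import Cfsg.Agent.TcData.Fi24.I306936.Chk9
import Cfsg.Agent.TcData.Fi24.I306936.Chk10
import Cfsg.Agent.TcData.Fi24.I306936.Chk11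
import Cfsg.Agent.TcData.Fi24.I306936.Chk12
import Cfsg.Agent.TcData.Fi24.I306936.Chk13
import Cfsg.Agent.TcData.Fi24.I306936.Chk14
import Cfsg.Agent.TcData.Fi24.I306936.Chk15
import Cfsg.Agent.TcData.Fi24.I306936.Chk16
import Cfsg.Agent.TcData.Fi24.I306936.Chk17
import Cfsg.Agent.TcData.Fi24.I306936.Chk18
import Cfsg.Agent.TcData.Fi24.I306936.Chk19
import Cfsg.Agent.TcData.Fi24.I306936.Chk20
import Cfsg.Agent.TcData.Fi24.I306936.Chk21
import Cfsg.Agent.TcData.Fi24.I306936.Chk22
import Cfsg.Agent.TcData.Fi24.I306936.Chk23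
import Cfsg.Agent.TcData.Fi24.I306936.Chk24
import Cfsg.Agent.TcData.Fi24.I306936.Chk25
import Cfsg.Agent.TcData.Fi24.I306936.Chk26
import Cfsg.Agent.TcData.Fi24.I306936.Chk27
import Cfsg.Agent.TcData.Fi24.I306936.Chk28
import Cfsg.Agent.TcData.Fi24.I306936.Chk29
import Cfsg.Agent.TcData.Fi24.I306936.Chk30
import Cfsg.Agent.TcData.Fi24.I306936.Chk31
import Cfsg.Agent.TcData.Fi24.I306936.Chk32
import Cfsg.Agent.TcData.Fi24.I306936.Chk33
import Cfsg.Agent.TcData.Fi24.I306936.Chk34
import Cfsg.Agent.TcData.Fi24.I306936.Chk35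
import Cfsg.Agent.TcData.Fi24.I306936.Chk36
import Cfsg.Agent.TcData.Fi24.I306936.Chk37
import Cfsg.Agent.TcData.Fi24.I306936.Chk38
import Cfsg.Agent.TcData.Fi24.I306936.Chk39
import Cfsg.Agent.TcData.Fi24.I306936.Chk40
import Cfsg.Agent.TcData.Fi24.I306936.Chk41
import Cfsg.Agent.TcData.Fi24.I306936.Chk42
import Cfsg.Agent.TcData.Fi24.I306936.Chk43
import Cfsg.Agent.TcData.Fi24.I306936.Chk44
import Cfsg.Agent.TcData.Fi24.I306936.Chk45
import Cfsg.Agent.TcData.Fi24.I306936.Chk46
import Cfsg.Agent.TcData.Fi24.I306936.Chk47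
import Cfsg.Agent.TcData.Fi24.I306936.Chk48
import Cfsg.Agent.TcData.Fi24.I306936.Chk49
import Cfsg.Agent.TcData.Fi24.I306936.Chk50
import Cfsg.Agent.TcData.Fi24.I306936.Chk51
import Cfsg.Agent.TcData.Fi24.I306936.Chk52
import Cfsg.Agent.TcData.Fi24.I306936.Chk53
import Cfsg.Agent.TcData.Fi24.I306936.Chk54
import Cfsg.Agent.TcData.Fi24.I306936.Chk55
import Cfsg.Agent.TcData.Fi24.I306936.Chk56
import Cfsg.Agent.TcData.Fi24.I306936.Chk57
import Cfsg.Agent.TcData.Fi24.I306936.Chk58
import Cfsg.Agent.TcData.Fi24.I306936.Chk59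
import Cfsg.Agent.TcData.Fi24.I306936.Chk60

set_option autoImplicit false
set_option Elab.async false
set_option maxRecDepth 100000
set_option linter.all false

namespace Cfsg.Agent.TcData.Fi24.I306936

open Cfsg.Spor Cfsg.Agent.Lib.TcFacts Cfsg.Agent.Lib.TcBits Cfsg.Agent.Lib.TcPres Cfsg.Spor.Fi24 Cfsg.Agent.TcData.Fi24

theorem c0 : Block F al 0 128 127 := b0

theorem c1 : Block F al 0 256 247 :=
  block_comb c0 b1 (Nat.zero_le _) (Nat.le_of_ble_eq_true rfl) rfl

theorem c2 : Block F al 0 384 353 :=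
  block_comb c1 b2 (Nat.zero_le _) (Nat.le_of_ble_eq_true rfl) rfl

theorem c3 : Block F al 0 512 445 :=
  block_comb c2 b3 (Nat.zero_le _) (Nat.le_of_ble_eq_true rfl) rfl

theorem c4 : Block F al 0 640 569 :=
  block_comb c3 b4 (Nat.zero_le _) (Nat.le_of_ble_eq_true rfl) rfl

theorem c5 : Block F al 0 768 693 :=
  block_comb c4 b5 (Nat.zero_le _) (Nat.le_of_ble_eq_true rfl) rfl

theorem c6 : Block F al 0 896 813 :=
  block_comb c5 b6 (Nat.zero_le _) (Nat.le_of_ble_eq_true rfl) rfl

theorem c7 : Block F al 0 1024 934 :=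
  block_comb c6 b7 (Nat.zero_le _) (Nat.le_of_ble_eq_true rfl) rfl

theorem c8 : Block F al 0 1152 1047 :=
  block_comb c7 b8 (Nat.zero_le _) (Nat.le_of_ble_eq_true rfl) rfl

theorem c9 : Block F al 0 1280 1162 :=
  block_comb c8 b9 (Nat.zero_le _) (Nat.le_of_ble_eq_true rfl) rfl

theorem c10 : Block F al 0 1408 1280 :=
  block_comb c9 b10 (Nat.zero_le _) (Nat.le_of_ble_eq_true rfl) rfl

theorem c11 : Block F al 0 1536 1389 :=
  block_comb c10 b11 (Nat.zero_le _) (Nat.le_of_ble_eq_true rfl) rfl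

theorem c12 : Block F al 0 1664 1511 :=
  block_comb c11 b12 (Nat.zero_le _) (Nat.le_of_ble_eq_true rfl) rfl

theorem c13 : Block F al 0 1792 1619 :=
  block_comb c12 b13 (Nat.zero_le _) (Nat.le_of_ble_eq_true rfl) rfl

theorem c14 : Block F al 0 1920 1733 :=
  block_comb c13 b14 (Nat.zero_le _) (Nat.le_of_ble_eq_true rfl) rfl

theorem c15 : Block F al 0 2048 1826 :=
  block_comb c14 b15 (Nat.zero_le _) (Nat.le_of_ble_eq_true rfl) rfl

theorem c16 : Block F al 0 2176 1946 :=
  block_comb c15 b16 (Nat.zero_le _) (Nat.le_of_ble_eq_true rfl) rfl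

theorem c17 : Block F al 0 2304 2069 :=
  block_comb c16 b17 (Nat.zero_le _) (Nat.le_of_ble_eq_true rfl) rfl

theorem c18 : Block F al 0 2432 2162 :=
  block_comb c17 b18 (Nat.zero_le _) (Nat.le_of_ble_eq_true rfl) rfl

theorem c19 : Block F al 0 2560 2277 :=
  block_comb c18 b19 (Nat.zero_le _) (Nat.le_of_ble_eq_true rfl) rfl

theorem c20 : Block F al 0 2688 2373 :=
  block_comb c19 b20 (Nat.zero_le _) (Nat.le_of_ble_eq_true rfl) rfl

theorem c21 : Block F al 0 2816 2462 :=
  block_comb c20 b21 (Nat.zero_le _) (Nat.le_of_ble_eq_true rfl) rfl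

theorem c22 : Block F al 0 2944 2589 :=
  block_comb c21 b22 (Nat.zero_le _) (Nat.le_of_ble_eq_true rfl) rfl

theorem c23 : Block F al 0 3072 2703 :=
  block_comb c22 b23 (Nat.zero_le _) (Nat.le_of_ble_eq_true rfl) rfl

theorem c24 : Block F al 0 3200 2821 :=
  block_comb c23 b24 (Nat.zero_le _) (Nat.le_of_ble_eq_true rfl) rfl

theorem c25 : Block F al 0 3328 2898 :=
  block_comb c24 b25 (Nat.zero_le _) (Nat.le_of_ble_eq_true rfl) rfl

theorem c26 : Block F al 0 3456 3018 :=
  block_comb c25 b26 (Nat.zero_le _) (Nat.le_of_ble_eq_true rfl) rfl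

theorem c27 : Block F al 0 3584 3121 :=
  block_comb c26 b27 (Nat.zero_le _) (Nat.le_of_ble_eq_true rfl) rfl

theorem c28 : Block F al 0 3712 3202 :=
  block_comb c27 b28 (Nat.zero_le _) (Nat.le_of_ble_eq_true rfl) rfl

theorem c29 : Block F al 0 3840 3264 :=
  block_comb c28 b29 (Nat.zero_le _) (Nat.le_of_ble_eq_true rfl) rfl

theorem c30 : Block F al 0 3968 3389 :=
  block_comb c29 b30 (Nat.zero_le _) (Nat.le_of_ble_eq_true rfl) rfl

theorem c31 : Block F al 0 4096 3515 :=
  block_comb c30 b31 (Nat.zero_le _) (Nat.le_of_ble_eq_true rfl) rfl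

theorem c32 : Block F al 0 4224 3615 :=
  block_comb c31 b32 (Nat.zero_le _) (Nat.le_of_ble_eq_true rfl) rfl

theorem c33 : Block F al 0 4352 3734 :=
  block_comb c32 b33 (Nat.zero_le _) (Nat.le_of_ble_eq_true rfl) rfl

theorem c34 : Block F al 0 4480 3849 :=
  block_comb c33 b34 (Nat.zero_le _) (Nat.le_of_ble_eq_true rfl) rfl

theorem c35 : Block F al 0 4608 3910 :=
  block_comb c34 b35 (Nat.zero_le _) (Nat.le_of_ble_eq_true rfl) rfl

theorem c36 : Block F al 0 4736 4006 :=
  block_comb c35 b36 (Nat.zero_le _) (Nat.le_of_ble_eq_true rfl) rfl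

theorem c37 : Block F al 0 4864 4133 :=
  block_comb c36 b37 (Nat.zero_le _) (Nat.le_of_ble_eq_true rfl) rfl

theorem c38 : Block F al 0 4992 4214 :=
  block_comb c37 b38 (Nat.zero_le _) (Nat.le_of_ble_eq_true rfl) rfl

theorem c39 : Block F al 0 5120 4331 :=
  block_comb c38 b39 (Nat.zero_le _) (Nat.le_of_ble_eq_true rfl) rfl

theorem c40 : Block F al 0 5248 4383 :=
  block_comb c39 b40 (Nat.zero_le _) (Nat.le_of_ble_eq_true rfl) rfl

theorem c41 : Block F al 0 5376 4430 :=
  block_comb c40 b41 (Nat.zero_le _) (Nat.le_of_ble_eq_true rfl) rfl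

theorem c42 : Block F al 0 5504 4535 :=
  block_comb c41 b42 (Nat.zero_le _) (Nat.le_of_ble_eq_true rfl) rfl

theorem c43 : Block F al 0 5632 4645 :=
  block_comb c42 b43 (Nat.zero_le _) (Nat.le_of_ble_eq_true rfl) rfl

theorem c44 : Block F al 0 5760 4765 :=
  block_comb c43 b44 (Nat.zero_le _) (Nat.le_of_ble_eq_true rfl) rfl

theorem c45 : Block F al 0 5888 4841 :=
  block_comb c44 b45 (Nat.zero_le _) (Nat.le_of_ble_eq_true rfl) rfl

theorem c46 : Block F al 0 6016 4955 :=
  block_comb c45 b46 (Nat.zero_le _) (Nat.le_of_ble_eq_true rfl) rfl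

theorem c47 : Block F al 0 6144 5059 :=
  block_comb c46 b47 (Nat.zero_le _) (Nat.le_of_ble_eq_true rfl) rfl

theorem c48 : Block F al 0 6272 5169 :=
  block_comb c47 b48 (Nat.zero_le _) (Nat.le_of_ble_eq_true rfl) rfl

theorem c49 : Block F al 0 6400 5246 :=
  block_comb c48 b49 (Nat.zero_le _) (Nat.le_of_ble_eq_true rfl) rfl

theorem c50 : Block F al 0 6528 5281 :=
  block_comb c49 b50 (Nat.zero_le _) (Nat.le_of_ble_eq_true rfl) rfl

theorem c51 : Block F al 0 6656 5371 :=
  block_comb c50 b51 (Nat.zero_le _) (Nat.le_of_ble_eq_true rfl) rfl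

theorem c52 : Block F al 0 6784 5495 :=
  block_comb c51 b52 (Nat.zero_le _) (Nat.le_of_ble_eq_true rfl) rfl

theorem c53 : Block F al 0 6912 5623 :=
  block_comb c52 b53 (Nat.zero_le _) (Nat.le_of_ble_eq_true rfl) rfl

theorem c54 : Block F al 0 7040 5672 :=
  block_comb c53 b54 (Nat.zero_le _) (Nat.le_of_ble_eq_true rfl) rfl

theorem c55 : Block F al 0 7168 5793 :=
  block_comb c54 b55 (Nat.zero_le _) (Nat.le_of_ble_eq_true rfl) rfl

theorem c56 : Block F al 0 7296 5900 :=
  block_comb c55 b56 (Nat.zero_le _) (Nat.le_of_ble_eq_true rfl) rfl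

theorem c57 : Block F al 0 7424 5924 :=
  block_comb c56 b57 (Nat.zero_le _) (Nat.le_of_ble_eq_true rfl) rfl

theorem c58 : Block F al 0 7552 5961 :=
  block_comb c57 b58 (Nat.zero_le _) (Nat.le_of_ble_eq_true rfl) rfl

theorem c59 : Block F al 0 7680 5986 :=
  block_comb c58 b59 (Nat.zero_le _) (Nat.le_of_ble_eq_true rfl) rfl

theorem c60 : Block F al 0 7808 6087 :=
  block_comb c59 b60 (Nat.zero_le _) (Nat.le_of_ble_eq_true rfl) rfl

theorem c61 : Block F al 0 7936 6180 :=
  block_comb c60 b61 (Nat.zero_le _) (Nat.le_of_ble_eq_true rfl) rfl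

theorem c62 : Block F al 0 8064 6301 :=
  block_comb c61 b62 (Nat.zero_le _) (Nat.le_of_ble_eq_true rfl) rfl

theorem c63 : Block F al 0 8192 6406 :=
  block_comb c62 b63 (Nat.zero_le _) (Nat.le_of_ble_eq_true rfl) rfl

theorem c64 : Block F al 0 8320 6457 :=
  block_comb c63 b64 (Nat.zero_le _) (Nat.le_of_ble_eq_true rfl) rfl

theorem c65 : Block F al 0 8448 6549 :=
  block_comb c64 b65 (Nat.zero_le _) (Nat.le_of_ble_eq_true rfl) rfl

theorem c66 : Block F al 0 8576 6670 :=
  block_comb c65 b66 (Nat.zero_le _) (Nat.le_of_ble_eq_true rfl) rfl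

theorem c67 : Block F al 0 8704 6786 :=
  block_comb c66 b67 (Nat.zero_le _) (Nat.le_of_ble_eq_true rfl) rfl

theorem c68 : Block F al 0 8832 6882 :=
  block_comb c67 b68 (Nat.zero_le _) (Nat.le_of_ble_eq_true rfl) rfl

theorem c69 : Block F al 0 8960 6978 :=
  block_comb c68 b69 (Nat.zero_le _) (Nat.le_of_ble_eq_true rfl) rfl

theorem c70 : Block F al 0 9088 7038 :=
  block_comb c69 b70 (Nat.zero_le _) (Nat.le_of_ble_eq_true rfl) rfl

theorem c71 : Block F al 0 9216 7059 :=
  block_comb c70 b71 (Nat.zero_le _) (Nat.le_of_ble_eq_true rfl) rfl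

theorem c72 : Block F al 0 9344 7145 :=
  block_comb c71 b72 (Nat.zero_le _) (Nat.le_of_ble_eq_true rfl) rfl

theorem c73 : Block F al 0 9472 7266 :=
  block_comb c72 b73 (Nat.zero_le _) (Nat.le_of_ble_eq_true rfl) rfl

theorem c74 : Block F al 0 9600 7382 :=
  block_comb c73 b74 (Nat.zero_le _) (Nat.le_of_ble_eq_true rfl) rfl

theorem c75 : Block F al 0 9728 7509 :=
  block_comb c74 b75 (Nat.zero_le _) (Nat.le_of_ble_eq_true rfl) rfl

theorem c76 : Block F al 0 9856 7589 :=
  block_comb c75 b76 (Nat.zero_le _) (Nat.le_of_ble_eq_true rfl) rfl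

theorem c77 : Block F al 0 9984 7653 :=
  block_comb c76 b77 (Nat.zero_le _) (Nat.le_of_ble_eq_true rfl) rfl

theorem c78 : Block F al 0 10112 7770 :=
  block_comb c77 b78 (Nat.zero_le _) (Nat.le_of_ble_eq_true rfl) rfl

theorem c79 : Block F al 0 10240 7857 :=
  block_comb c78 b79 (Nat.zero_le _) (Nat.le_of_ble_eq_true rfl) rfl

theorem c80 : Block F al 0 10368 7932 :=
  block_comb c79 b80 (Nat.zero_le _) (Nat.le_of_ble_eq_true rfl) rfl

theorem c81 : Block F al 0 10496 7951 :=
  block_comb c80 b81 (Nat.zero_le _) (Nat.le_of_ble_eq_true rfl) rfl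

theorem c82 : Block F al 0 10624 7966 :=
  block_comb c81 b82 (Nat.zero_le _) (Nat.le_of_ble_eq_true rfl) rfl

theorem c83 : Block F al 0 10752 8020 :=
  block_comb c82 b83 (Nat.zero_le _) (Nat.le_of_ble_eq_true rfl) rfl

theorem c84 : Block F al 0 10880 8085 :=
  block_comb c83 b84 (Nat.zero_le _) (Nat.le_of_ble_eq_true rfl) rfl

theorem c85 : Block F al 0 11008 8176 :=
  block_comb c84 b85 (Nat.zero_le _) (Nat.le_of_ble_eq_true rfl) rfl

theorem c86 : Block F al 0 11136 8287 :=
  block_comb c85 b86 (Nat.zero_le _) (Nat.le_of_ble_eq_true rfl) rfl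

theorem c87 : Block F al 0 11264 8398 :=
  block_comb c86 b87 (Nat.zero_le _) (Nat.le_of_ble_eq_true rfl) rfl

theorem c88 : Block F al 0 11392 8490 :=
  block_comb c87 b88 (Nat.zero_le _) (Nat.le_of_ble_eq_true rfl) rfl

theorem c89 : Block F al 0 11520 8539 :=
  block_comb c88 b89 (Nat.zero_le _) (Nat.le_of_ble_eq_true rfl) rfl

theorem c90 : Block F al 0 11648 8666 :=
  block_comb c89 b90 (Nat.zero_le _) (Nat.le_of_ble_eq_true rfl) rfl

theorem c91 : Block F al 0 11776 8794 :=
  block_comb c90 b91 (Nat.zero_le _) (Nat.le_of_ble_eq_true rfl) rfl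

theorem c92 : Block F al 0 11904 8911 :=
  block_comb c91 b92 (Nat.zero_le _) (Nat.le_of_ble_eq_true rfl) rfl

theorem c93 : Block F al 0 12032 9031 :=
  block_comb c92 b93 (Nat.zero_le _) (Nat.le_of_ble_eq_true rfl) rfl

theorem c94 : Block F al 0 12160 9155 :=
  block_comb c93 b94 (Nat.zero_le _) (Nat.le_of_ble_eq_true rfl) rfl

theorem c95 : Block F al 0 12288 9257 :=
  block_comb c94 b95 (Nat.zero_le _) (Nat.le_of_ble_eq_true rfl) rfl

theorem c96 : Block F al 0 12416 9367 :=
  block_comb c95 b96 (Nat.zero_le _) (Nat.le_of_ble_eq_true rfl) rfl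

theorem c97 : Block F al 0 12544 9493 :=
  block_comb c96 b97 (Nat.zero_le _) (Nat.le_of_ble_eq_true rfl) rfl

theorem c98 : Block F al 0 12672 9620 :=
  block_comb c97 b98 (Nat.zero_le _) (Nat.le_of_ble_eq_true rfl) rfl

theorem c99 : Block F al 0 12800 9739 :=
  block_comb c98 b99 (Nat.zero_le _) (Nat.le_of_ble_eq_true rfl) rfl

theorem c100 : Block F al 0 12928 9858 :=
  block_comb c99 b100 (Nat.zero_le _) (Nat.le_of_ble_eq_true rfl) rfl

theorem c101 : Block F al 0 13056 9982 :=
  block_comb c100 b101 (Nat.zero_le _) (Nat.le_of_ble_eq_true rfl) rfl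

theorem c102 : Block F al 0 13184 10093 :=
  block_comb c101 b102 (Nat.zero_le _) (Nat.le_of_ble_eq_true rfl) rfl

theorem c103 : Block F al 0 13312 10218 :=
  block_comb c102 b103 (Nat.zero_le _) (Nat.le_of_ble_eq_true rfl) rfl

theorem c104 : Block F al 0 13440 10323 :=
  block_comb c103 b104 (Nat.zero_le _) (Nat.le_of_ble_eq_true rfl) rfl

theorem c105 : Block F al 0 13568 10413 :=
  block_comb c104 b105 (Nat.zero_le _) (Nat.le_of_ble_eq_true rfl) rfl

theorem c106 : Block F al 0 13696 10487 :=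
  block_comb c105 b106 (Nat.zero_le _) (Nat.le_of_ble_eq_true rfl) rfl

theorem c107 : Block F al 0 13824 10563 :=
  block_comb c106 b107 (Nat.zero_le _) (Nat.le_of_ble_eq_true rfl) rfl

theorem c108 : Block F al 0 13952 10650 :=
  block_comb c107 b108 (Nat.zero_le _) (Nat.le_of_ble_eq_true rfl) rfl

theorem c109 : Block F al 0 14080 10776 :=
  block_comb c108 b109 (Nat.zero_le _) (Nat.le_of_ble_eq_true rfl) rfl

theorem c110 : Block F al 0 14208 10883 :=
  block_comb c109 b110 (Nat.zero_le _) (Nat.le_of_ble_eq_true rfl) rfl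

theorem c111 : Block F al 0 14336 10978 :=
  block_comb c110 b111 (Nat.zero_le _) (Nat.le_of_ble_eq_true rfl) rfl

theorem c112 : Block F al 0 14464 11083 :=
  block_comb c111 b112 (Nat.zero_le _) (Nat.le_of_ble_eq_true rfl) rfl

theorem c113 : Block F al 0 14592 11165 :=
  block_comb c112 b113 (Nat.zero_le _) (Nat.le_of_ble_eq_true rfl) rfl

theorem c114 : Block F al 0 14720 11289 :=
  block_comb c113 b114 (Nat.zero_le _) (Nat.le_of_ble_eq_true rfl) rfl

theorem c115 : Block F al 0 14848 11416 :=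
  block_comb c114 b115 (Nat.zero_le _) (Nat.le_of_ble_eq_true rfl) rfl

theorem c116 : Block F al 0 14976 11518 :=
  block_comb c115 b116 (Nat.zero_le _) (Nat.le_of_ble_eq_true rfl) rfl

theorem c117 : Block F al 0 15104 11640 :=
  block_comb c116 b117 (Nat.zero_le _) (Nat.le_of_ble_eq_true rfl) rfl

theorem c118 : Block F al 0 15232 11743 :=
  block_comb c117 b118 (Nat.zero_le _) (Nat.le_of_ble_eq_true rfl) rfl

theorem c119 : Block F al 0 15360 11862 :=
  block_comb c118 b119 (Nat.zero_le _) (Nat.le_of_ble_eq_true rfl) rfl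

theorem c120 : Block F al 0 15488 11987 :=
  block_comb c119 b120 (Nat.zero_le _) (Nat.le_of_ble_eq_true rfl) rfl

theorem c121 : Block F al 0 15616 12055 :=
  block_comb c120 b121 (Nat.zero_le _) (Nat.le_of_ble_eq_true rfl) rfl

theorem c122 : Block F al 0 15744 12146 :=
  block_comb c121 b122 (Nat.zero_le _) (Nat.le_of_ble_eq_true rfl) rfl

theorem c123 : Block F al 0 15872 12268 :=
  block_comb c122 b123 (Nat.zero_le _) (Nat.le_of_ble_eq_true rfl) rfl

theorem c124 : Block F al 0 16000 12392 :=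
  block_comb c123 b124 (Nat.zero_le _) (Nat.le_of_ble_eq_true rfl) rfl

theorem c125 : Block F al 0 16128 12517 :=
  block_comb c124 b125 (Nat.zero_le _) (Nat.le_of_ble_eq_true rfl) rfl

theorem c126 : Block F al 0 16256 12645 :=
  block_comb c125 b126 (Nat.zero_le _) (Nat.le_of_ble_eq_true rfl) rfl

theorem c127 : Block F al 0 16384 12738 :=
  block_comb c126 b127 (Nat.zero_le _) (Nat.le_of_ble_eq_true rfl) rfl

theorem c128 : Block F al 0 16512 12855 :=
  block_comb c127 b128 (Nat.zero_le _) (Nat.le_of_ble_eq_true rfl) rfl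

theorem c129 : Block F al 0 16640 12967 :=
  block_comb c128 b129 (Nat.zero_le _) (Nat.le_of_ble_eq_true rfl) rfl

theorem c130 : Block F al 0 16768 13062 :=
  block_comb c129 b130 (Nat.zero_le _) (Nat.le_of_ble_eq_true rfl) rfl

theorem c131 : Block F al 0 16896 13180 :=
  block_comb c130 b131 (Nat.zero_le _) (Nat.le_of_ble_eq_true rfl) rfl

theorem c132 : Block F al 0 17024 13302 :=
  block_comb c131 b132 (Nat.zero_le _) (Nat.le_of_ble_eq_true rfl) rfl

theorem c133 : Block F al 0 17152 13426 :=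
  block_comb c132 b133 (Nat.zero_le _) (Nat.le_of_ble_eq_true rfl) rfl

theorem c134 : Block F al 0 17280 13489 :=
  block_comb c133 b134 (Nat.zero_le _) (Nat.le_of_ble_eq_true rfl) rfl

theorem c135 : Block F al 0 17408 13561 :=
  block_comb c134 b135 (Nat.zero_le _) (Nat.le_of_ble_eq_true rfl) rfl

theorem c136 : Block F al 0 17536 13611 :=
  block_comb c135 b136 (Nat.zero_le _) (Nat.le_of_ble_eq_true rfl) rfl

theorem c137 : Block F al 0 17664 13673 :=
  block_comb c136 b137 (Nat.zero_le _) (Nat.le_of_ble_eq_true rfl) rfl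

theorem c138 : Block F al 0 17792 13694 :=
  block_comb c137 b138 (Nat.zero_le _) (Nat.le_of_ble_eq_true rfl) rfl

theorem c139 : Block F al 0 17920 13812 :=
  block_comb c138 b139 (Nat.zero_le _) (Nat.le_of_ble_eq_true rfl) rfl

theorem c140 : Block F al 0 18048 13939 :=
  block_comb c139 b140 (Nat.zero_le _) (Nat.le_of_ble_eq_true rfl) rfl

theorem c141 : Block F al 0 18176 14023 :=
  block_comb c140 b141 (Nat.zero_le _) (Nat.le_of_ble_eq_true rfl) rfl

theorem c142 : Block F al 0 18304 14112 :=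
  block_comb c141 b142 (Nat.zero_le _) (Nat.le_of_ble_eq_true rfl) rfl

theorem c143 : Block F al 0 18432 14198 :=
  block_comb c142 b143 (Nat.zero_le _) (Nat.le_of_ble_eq_true rfl) rfl

theorem c144 : Block F al 0 18560 14293 :=
  block_comb c143 b144 (Nat.zero_le _) (Nat.le_of_ble_eq_true rfl) rfl

theorem c145 : Block F al 0 18688 14331 :=
  block_comb c144 b145 (Nat.zero_le _) (Nat.le_of_ble_eq_true rfl) rfl

theorem c146 : Block F al 0 18816 14444 :=
  block_comb c145 b146 (Nat.zero_le _) (Nat.le_of_ble_eq_true rfl) rfl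

theorem c147 : Block F al 0 18944 14566 :=
  block_comb c146 b147 (Nat.zero_le _) (Nat.le_of_ble_eq_true rfl) rfl

theorem c148 : Block F al 0 19072 14687 :=
  block_comb c147 b148 (Nat.zero_le _) (Nat.le_of_ble_eq_true rfl) rfl

theorem c149 : Block F al 0 19200 14815 :=
  block_comb c148 b149 (Nat.zero_le _) (Nat.le_of_ble_eq_true rfl) rfl

theorem c150 : Block F al 0 19328 14896 :=
  block_comb c149 b150 (Nat.zero_le _) (Nat.le_of_ble_eq_true rfl) rfl

theorem c151 : Block F al 0 19456 15003 :=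
  block_comb c150 b151 (Nat.zero_le _) (Nat.le_of_ble_eq_true rfl) rfl

theorem c152 : Block F al 0 19584 15101 :=
  block_comb c151 b152 (Nat.zero_le _) (Nat.le_of_ble_eq_true rfl) rfl

theorem c153 : Block F al 0 19712 15190 :=
  block_comb c152 b153 (Nat.zero_le _) (Nat.le_of_ble_eq_true rfl) rfl

theorem c154 : Block F al 0 19840 15302 :=
  block_comb c153 b154 (Nat.zero_le _) (Nat.le_of_ble_eq_true rfl) rfl

theorem c155 : Block F al 0 19968 15427 :=
  block_comb c154 b155 (Nat.zero_le _) (Nat.le_of_ble_eq_true rfl) rfl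

theorem c156 : Block F al 0 20096 15492 :=
  block_comb c155 b156 (Nat.zero_le _) (Nat.le_of_ble_eq_true rfl) rfl

theorem c157 : Block F al 0 20224 15549 :=
  block_comb c156 b157 (Nat.zero_le _) (Nat.le_of_ble_eq_true rfl) rfl

theorem c158 : Block F al 0 20352 15633 :=
  block_comb c157 b158 (Nat.zero_le _) (Nat.le_of_ble_eq_true rfl) rfl

theorem c159 : Block F al 0 20480 15755 :=
  block_comb c158 b159 (Nat.zero_le _) (Nat.le_of_ble_eq_true rfl) rfl

theorem c160 : Block F al 0 20608 15870 :=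
  block_comb c159 b160 (Nat.zero_le _) (Nat.le_of_ble_eq_true rfl) rfl

theorem c161 : Block F al 0 20736 15993 :=
  block_comb c160 b161 (Nat.zero_le _) (Nat.le_of_ble_eq_true rfl) rfl

theorem c162 : Block F al 0 20864 16115 :=
  block_comb c161 b162 (Nat.zero_le _) (Nat.le_of_ble_eq_true rfl) rfl

theorem c163 : Block F al 0 20992 16243 :=
  block_comb c162 b163 (Nat.zero_le _) (Nat.le_of_ble_eq_true rfl) rfl

theorem c164 : Block F al 0 21120 16371 :=
  block_comb c163 b164 (Nat.zero_le _) (Nat.le_of_ble_eq_true rfl) rfl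

theorem c165 : Block F al 0 21248 16454 :=
  block_comb c164 b165 (Nat.zero_le _) (Nat.le_of_ble_eq_true rfl) rfl

theorem c166 : Block F al 0 21376 16536 :=
  block_comb c165 b166 (Nat.zero_le _) (Nat.le_of_ble_eq_true rfl) rfl

theorem c167 : Block F al 0 21504 16644 :=
  block_comb c166 b167 (Nat.zero_le _) (Nat.le_of_ble_eq_true rfl) rfl

theorem c168 : Block F al 0 21632 16743 :=
  block_comb c167 b168 (Nat.zero_le _) (Nat.le_of_ble_eq_true rfl) rfl

theorem c169 : Block F al 0 21760 16838 :=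
  block_comb c168 b169 (Nat.zero_le _) (Nat.le_of_ble_eq_true rfl) rfl

theorem c170 : Block F al 0 21888 16926 :=
  block_comb c169 b170 (Nat.zero_le _) (Nat.le_of_ble_eq_true rfl) rfl

theorem c171 : Block F al 0 22016 17041 :=
  block_comb c170 b171 (Nat.zero_le _) (Nat.le_of_ble_eq_true rfl) rfl

theorem c172 : Block F al 0 22144 17157 :=
  block_comb c171 b172 (Nat.zero_le _) (Nat.le_of_ble_eq_true rfl) rfl

theorem c173 : Block F al 0 22272 17283 :=
  block_comb c172 b173 (Nat.zero_le _) (Nat.le_of_ble_eq_true rfl) rfl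

theorem c174 : Block F al 0 22400 17354 :=
  block_comb c173 b174 (Nat.zero_le _) (Nat.le_of_ble_eq_true rfl) rfl

theorem c175 : Block F al 0 22528 17413 :=
  block_comb c174 b175 (Nat.zero_le _) (Nat.le_of_ble_eq_true rfl) rfl

theorem c176 : Block F al 0 22656 17478 :=
  block_comb c175 b176 (Nat.zero_le _) (Nat.le_of_ble_eq_true rfl) rfl

theorem c177 : Block F al 0 22784 17525 :=
  block_comb c176 b177 (Nat.zero_le _) (Nat.le_of_ble_eq_true rfl) rfl

theorem c178 : Block F al 0 22912 17558 :=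
  block_comb c177 b178 (Nat.zero_le _) (Nat.le_of_ble_eq_true rfl) rfl

theorem c179 : Block F al 0 23040 17602 :=
  block_comb c178 b179 (Nat.zero_le _) (Nat.le_of_ble_eq_true rfl) rfl

theorem c180 : Block F al 0 23168 17603 :=
  block_comb c179 b180 (Nat.zero_le _) (Nat.le_of_ble_eq_true rfl) rfl

theorem c181 : Block F al 0 23296 17677 :=
  block_comb c180 b181 (Nat.zero_le _) (Nat.le_of_ble_eq_true rfl) rfl

theorem c182 : Block F al 0 23424 17785 :=
  block_comb c181 b182 (Nat.zero_le _) (Nat.le_of_ble_eq_true rfl) rfl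

theorem c183 : Block F al 0 23552 17910 :=
  block_comb c182 b183 (Nat.zero_le _) (Nat.le_of_ble_eq_true rfl) rfl

theorem c184 : Block F al 0 23680 17994 :=
  block_comb c183 b184 (Nat.zero_le _) (Nat.le_of_ble_eq_true rfl) rfl

theorem c185 : Block F al 0 23808 18068 :=
  block_comb c184 b185 (Nat.zero_le _) (Nat.le_of_ble_eq_true rfl) rfl

theorem c186 : Block F al 0 23936 18134 :=
  block_comb c185 b186 (Nat.zero_le _) (Nat.le_of_ble_eq_true rfl) rfl

theorem c187 : Block F al 0 24064 18190 :=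
  block_comb c186 b187 (Nat.zero_le _) (Nat.le_of_ble_eq_true rfl) rfl

theorem c188 : Block F al 0 24192 18293 :=
  block_comb c187 b188 (Nat.zero_le _) (Nat.le_of_ble_eq_true rfl) rfl

theorem c189 : Block F al 0 24320 18358 :=
  block_comb c188 b189 (Nat.zero_le _) (Nat.le_of_ble_eq_true rfl) rfl

theorem c190 : Block F al 0 24448 18374 :=
  block_comb c189 b190 (Nat.zero_le _) (Nat.le_of_ble_eq_true rfl) rfl

theorem c191 : Block F al 0 24576 18455 :=
  block_comb c190 b191 (Nat.zero_le _) (Nat.le_of_ble_eq_true rfl) rfl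

theorem c192 : Block F al 0 24704 18578 :=
  block_comb c191 b192 (Nat.zero_le _) (Nat.le_of_ble_eq_true rfl) rfl

theorem c193 : Block F al 0 24832 18695 :=
  block_comb c192 b193 (Nat.zero_le _) (Nat.le_of_ble_eq_true rfl) rfl

theorem c194 : Block F al 0 24960 18809 :=
  block_comb c193 b194 (Nat.zero_le _) (Nat.le_of_ble_eq_true rfl) rfl

theorem c195 : Block F al 0 25088 18937 :=
  block_comb c194 b195 (Nat.zero_le _) (Nat.le_of_ble_eq_true rfl) rfl

theorem c196 : Block F al 0 25216 19062 :=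
  block_comb c195 b196 (Nat.zero_le _) (Nat.le_of_ble_eq_true rfl) rfl

theorem c197 : Block F al 0 25344 19134 :=
  block_comb c196 b197 (Nat.zero_le _) (Nat.le_of_ble_eq_true rfl) rfl

theorem c198 : Block F al 0 25472 19202 :=
  block_comb c197 b198 (Nat.zero_le _) (Nat.le_of_ble_eq_true rfl) rfl

theorem c199 : Block F al 0 25600 19302 :=
  block_comb c198 b199 (Nat.zero_le _) (Nat.le_of_ble_eq_true rfl) rfl

theorem c200 : Block F al 0 25728 19379 :=
  block_comb c199 b200 (Nat.zero_le _) (Nat.le_of_ble_eq_true rfl) rfl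

theorem c201 : Block F al 0 25856 19449 :=
  block_comb c200 b201 (Nat.zero_le _) (Nat.le_of_ble_eq_true rfl) rfl

theorem c202 : Block F al 0 25984 19547 :=
  block_comb c201 b202 (Nat.zero_le _) (Nat.le_of_ble_eq_true rfl) rfl

theorem c203 : Block F al 0 26112 19650 :=
  block_comb c202 b203 (Nat.zero_le _) (Nat.le_of_ble_eq_true rfl) rfl

theorem c204 : Block F al 0 26240 19777 :=
  block_comb c203 b204 (Nat.zero_le _) (Nat.le_of_ble_eq_true rfl) rfl

theorem c205 : Block F al 0 26368 19867 :=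
  block_comb c204 b205 (Nat.zero_le _) (Nat.le_of_ble_eq_true rfl) rfl

theorem c206 : Block F al 0 26496 19897 :=
  block_comb c205 b206 (Nat.zero_le _) (Nat.le_of_ble_eq_true rfl) rfl

theorem c207 : Block F al 0 26624 19943 :=
  block_comb c206 b207 (Nat.zero_le _) (Nat.le_of_ble_eq_true rfl) rfl

theorem c208 : Block F al 0 26752 19990 :=
  block_comb c207 b208 (Nat.zero_le _) (Nat.le_of_ble_eq_true rfl) rfl

theorem c209 : Block F al 0 26880 20112 :=
  block_comb c208 b209 (Nat.zero_le _) (Nat.le_of_ble_eq_true rfl) rfl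

theorem c210 : Block F al 0 27008 20235 :=
  block_comb c209 b210 (Nat.zero_le _) (Nat.le_of_ble_eq_true rfl) rfl

theorem c211 : Block F al 0 27136 20338 :=
  block_comb c210 b211 (Nat.zero_le _) (Nat.le_of_ble_eq_true rfl) rfl

theorem c212 : Block F al 0 27264 20466 :=
  block_comb c211 b212 (Nat.zero_le _) (Nat.le_of_ble_eq_true rfl) rfl

theorem c213 : Block F al 0 27392 20581 :=
  block_comb c212 b213 (Nat.zero_le _) (Nat.le_of_ble_eq_true rfl) rfl

theorem c214 : Block F al 0 27520 20700 :=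
  block_comb c213 b214 (Nat.zero_le _) (Nat.le_of_ble_eq_true rfl) rfl

theorem c215 : Block F al 0 27648 20828 :=
  block_comb c214 b215 (Nat.zero_le _) (Nat.le_of_ble_eq_true rfl) rfl

theorem c216 : Block F al 0 27776 20956 :=
  block_comb c215 b216 (Nat.zero_le _) (Nat.le_of_ble_eq_true rfl) rfl

theorem c217 : Block F al 0 27904 21081 :=
  block_comb c216 b217 (Nat.zero_le _) (Nat.le_of_ble_eq_true rfl) rfl

theorem c218 : Block F al 0 28032 21163 :=
  block_comb c217 b218 (Nat.zero_le _) (Nat.le_of_ble_eq_true rfl) rfl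

theorem c219 : Block F al 0 28160 21246 :=
  block_comb c218 b219 (Nat.zero_le _) (Nat.le_of_ble_eq_true rfl) rfl

theorem c220 : Block F al 0 28288 21294 :=
  block_comb c219 b220 (Nat.zero_le _) (Nat.le_of_ble_eq_true rfl) rfl

theorem c221 : Block F al 0 28416 21390 :=
  block_comb c220 b221 (Nat.zero_le _) (Nat.le_of_ble_eq_true rfl) rfl

theorem c222 : Block F al 0 28544 21474 :=
  block_comb c221 b222 (Nat.zero_le _) (Nat.le_of_ble_eq_true rfl) rfl

theorem c223 : Block F al 0 28672 21570 :=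
  block_comb c222 b223 (Nat.zero_le _) (Nat.le_of_ble_eq_true rfl) rfl

theorem c224 : Block F al 0 28800 21662 :=
  block_comb c223 b224 (Nat.zero_le _) (Nat.le_of_ble_eq_true rfl) rfl

theorem c225 : Block F al 0 28928 21710 :=
  block_comb c224 b225 (Nat.zero_le _) (Nat.le_of_ble_eq_true rfl) rfl

theorem c226 : Block F al 0 29056 21797 :=
  block_comb c225 b226 (Nat.zero_le _) (Nat.le_of_ble_eq_true rfl) rfl

theorem c227 : Block F al 0 29184 21898 :=
  block_comb c226 b227 (Nat.zero_le _) (Nat.le_of_ble_eq_true rfl) rfl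

theorem c228 : Block F al 0 29312 21998 :=
  block_comb c227 b228 (Nat.zero_le _) (Nat.le_of_ble_eq_true rfl) rfl

theorem c229 : Block F al 0 29440 22126 :=
  block_comb c228 b229 (Nat.zero_le _) (Nat.le_of_ble_eq_true rfl) rfl

theorem c230 : Block F al 0 29568 22253 :=
  block_comb c229 b230 (Nat.zero_le _) (Nat.le_of_ble_eq_true rfl) rfl

theorem c231 : Block F al 0 29696 22338 :=
  block_comb c230 b231 (Nat.zero_le _) (Nat.le_of_ble_eq_true rfl) rfl

theorem c232 : Block F al 0 29824 22347 :=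
  block_comb c231 b232 (Nat.zero_le _) (Nat.le_of_ble_eq_true rfl) rfl

theorem c233 : Block F al 0 29952 22407 :=
  block_comb c232 b233 (Nat.zero_le _) (Nat.le_of_ble_eq_true rfl) rfl

theorem c234 : Block F al 0 30080 22465 :=
  block_comb c233 b234 (Nat.zero_le _) (Nat.le_of_ble_eq_true rfl) rfl

theorem c235 : Block F al 0 30208 22512 :=
  block_comb c234 b235 (Nat.zero_le _) (Nat.le_of_ble_eq_true rfl) rfl

theorem c236 : Block F al 0 30336 22528 :=
  block_comb c235 b236 (Nat.zero_le _) (Nat.le_of_ble_eq_true rfl) rfl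

theorem c237 : Block F al 0 30464 22556 :=
  block_comb c236 b237 (Nat.zero_le _) (Nat.le_of_ble_eq_true rfl) rfl

theorem c238 : Block F al 0 30592 22580 :=
  block_comb c237 b238 (Nat.zero_le _) (Nat.le_of_ble_eq_true rfl) rfl

theorem c239 : Block F al 0 30720 22584 :=
  block_comb c238 b239 (Nat.zero_le _) (Nat.le_of_ble_eq_true rfl) rfl

theorem c240 : Block F al 0 30848 22584 :=
  block_comb c239 b240 (Nat.zero_le _) (Nat.le_of_ble_eq_true rfl) rfl

theorem c241 : Block F al 0 30976 22669 :=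
  block_comb c240 b241 (Nat.zero_le _) (Nat.le_of_ble_eq_true rfl) rfl

theorem c242 : Block F al 0 31104 22771 :=
  block_comb c241 b242 (Nat.zero_le _) (Nat.le_of_ble_eq_true rfl) rfl

theorem c243 : Block F al 0 31232 22886 :=
  block_comb c242 b243 (Nat.zero_le _) (Nat.le_of_ble_eq_true rfl) rfl

theorem c244 : Block F al 0 31360 23005 :=
  block_comb c243 b244 (Nat.zero_le _) (Nat.le_of_ble_eq_true rfl) rfl

theorem c245 : Block F al 0 31488 23088 :=
  block_comb c244 b245 (Nat.zero_le _) (Nat.le_of_ble_eq_true rfl) rfl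

theorem c246 : Block F al 0 31616 23132 :=
  block_comb c245 b246 (Nat.zero_le _) (Nat.le_of_ble_eq_true rfl) rfl

theorem c247 : Block F al 0 31744 23185 :=
  block_comb c246 b247 (Nat.zero_le _) (Nat.le_of_ble_eq_true rfl) rfl

theorem c248 : Block F al 0 31872 23228 :=
  block_comb c247 b248 (Nat.zero_le _) (Nat.le_of_ble_eq_true rfl) rfl

theorem c249 : Block F al 0 32000 23259 :=
  block_comb c248 b249 (Nat.zero_le _) (Nat.le_of_ble_eq_true rfl) rfl

theorem c250 : Block F al 0 32128 23342 :=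
  block_comb c249 b250 (Nat.zero_le _) (Nat.le_of_ble_eq_true rfl) rfl

theorem c251 : Block F al 0 32256 23420 :=
  block_comb c250 b251 (Nat.zero_le _) (Nat.le_of_ble_eq_true rfl) rfl

theorem c252 : Block F al 0 32384 23497 :=
  block_comb c251 b252 (Nat.zero_le _) (Nat.le_of_ble_eq_true rfl) rfl

theorem c253 : Block F al 0 32512 23501 :=
  block_comb c252 b253 (Nat.zero_le _) (Nat.le_of_ble_eq_true rfl) rfl

theorem c254 : Block F al 0 32640 23509 :=
  block_comb c253 b254 (Nat.zero_le _) (Nat.le_of_ble_eq_true rfl) rfl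

theorem c255 : Block F al 0 32768 23597 :=
  block_comb c254 b255 (Nat.zero_le _) (Nat.le_of_ble_eq_true rfl) rfl

theorem c256 : Block F al 0 32896 23720 :=
  block_comb c255 b256 (Nat.zero_le _) (Nat.le_of_ble_eq_true rfl) rfl

theorem c257 : Block F al 0 33024 23840 :=
  block_comb c256 b257 (Nat.zero_le _) (Nat.le_of_ble_eq_true rfl) rfl

theorem c258 : Block F al 0 33152 23958 :=
  block_comb c257 b258 (Nat.zero_le _) (Nat.le_of_ble_eq_true rfl) rfl

theorem c259 : Block F al 0 33280 24049 :=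
  block_comb c258 b259 (Nat.zero_le _) (Nat.le_of_ble_eq_true rfl) rfl

theorem c260 : Block F al 0 33408 24177 :=
  block_comb c259 b260 (Nat.zero_le _) (Nat.le_of_ble_eq_true rfl) rfl

theorem c261 : Block F al 0 33536 24304 :=
  block_comb c260 b261 (Nat.zero_le _) (Nat.le_of_ble_eq_true rfl) rfl

theorem c262 : Block F al 0 33664 24423 :=
  block_comb c261 b262 (Nat.zero_le _) (Nat.le_of_ble_eq_true rfl) rfl

theorem c263 : Block F al 0 33792 24524 :=
  block_comb c262 b263 (Nat.zero_le _) (Nat.le_of_ble_eq_true rfl) rfl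

theorem c264 : Block F al 0 33920 24572 :=
  block_comb c263 b264 (Nat.zero_le _) (Nat.le_of_ble_eq_true rfl) rfl

theorem c265 : Block F al 0 34048 24622 :=
  block_comb c264 b265 (Nat.zero_le _) (Nat.le_of_ble_eq_true rfl) rfl

theorem c266 : Block F al 0 34176 24693 :=
  block_comb c265 b266 (Nat.zero_le _) (Nat.le_of_ble_eq_true rfl) rfl

theorem c267 : Block F al 0 34304 24771 :=
  block_comb c266 b267 (Nat.zero_le _) (Nat.le_of_ble_eq_true rfl) rfl

theorem c268 : Block F al 0 34432 24836 :=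
  block_comb c267 b268 (Nat.zero_le _) (Nat.le_of_ble_eq_true rfl) rfl

theorem c269 : Block F al 0 34560 24902 :=
  block_comb c268 b269 (Nat.zero_le _) (Nat.le_of_ble_eq_true rfl) rfl

theorem c270 : Block F al 0 34688 24943 :=
  block_comb c269 b270 (Nat.zero_le _) (Nat.le_of_ble_eq_true rfl) rfl

theorem c271 : Block F al 0 34816 25043 :=
  block_comb c270 b271 (Nat.zero_le _) (Nat.le_of_ble_eq_true rfl) rfl

theorem c272 : Block F al 0 34944 25163 :=
  block_comb c271 b272 (Nat.zero_le _) (Nat.le_of_ble_eq_true rfl) rfl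

theorem c273 : Block F al 0 35072 25245 :=
  block_comb c272 b273 (Nat.zero_le _) (Nat.le_of_ble_eq_true rfl) rfl

theorem c274 : Block F al 0 35200 25365 :=
  block_comb c273 b274 (Nat.zero_le _) (Nat.le_of_ble_eq_true rfl) rfl

theorem c275 : Block F al 0 35328 25460 :=
  block_comb c274 b275 (Nat.zero_le _) (Nat.le_of_ble_eq_true rfl) rfl

theorem c276 : Block F al 0 35456 25468 :=
  block_comb c275 b276 (Nat.zero_le _) (Nat.le_of_ble_eq_true rfl) rfl

theorem c277 : Block F al 0 35584 25496 :=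
  block_comb c276 b277 (Nat.zero_le _) (Nat.le_of_ble_eq_true rfl) rfl

theorem c278 : Block F al 0 35712 25534 :=
  block_comb c277 b278 (Nat.zero_le _) (Nat.le_of_ble_eq_true rfl) rfl

theorem c279 : Block F al 0 35840 25554 :=
  block_comb c278 b279 (Nat.zero_le _) (Nat.le_of_ble_eq_true rfl) rfl

theorem c280 : Block F al 0 35968 25650 :=
  block_comb c279 b280 (Nat.zero_le _) (Nat.le_of_ble_eq_true rfl) rfl

theorem c281 : Block F al 0 36096 25755 :=
  block_comb c280 b281 (Nat.zero_le _) (Nat.le_of_ble_eq_true rfl) rfl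

theorem c282 : Block F al 0 36224 25883 :=
  block_comb c281 b282 (Nat.zero_le _) (Nat.le_of_ble_eq_true rfl) rfl

theorem c283 : Block F al 0 36352 25992 :=
  block_comb c282 b283 (Nat.zero_le _) (Nat.le_of_ble_eq_true rfl) rfl

theorem c284 : Block F al 0 36480 26083 :=
  block_comb c283 b284 (Nat.zero_le _) (Nat.le_of_ble_eq_true rfl) rfl

theorem c285 : Block F al 0 36608 26211 :=
  block_comb c284 b285 (Nat.zero_le _) (Nat.le_of_ble_eq_true rfl) rfl

theorem c286 : Block F al 0 36736 26325 :=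
  block_comb c285 b286 (Nat.zero_le _) (Nat.le_of_ble_eq_true rfl) rfl

theorem c287 : Block F al 0 36864 26423 :=
  block_comb c286 b287 (Nat.zero_le _) (Nat.le_of_ble_eq_true rfl) rfl

theorem c288 : Block F al 0 36992 26546 :=
  block_comb c287 b288 (Nat.zero_le _) (Nat.le_of_ble_eq_true rfl) rfl

theorem c289 : Block F al 0 37120 26674 :=
  block_comb c288 b289 (Nat.zero_le _) (Nat.le_of_ble_eq_true rfl) rfl

theorem c290 : Block F al 0 37248 26801 :=
  block_comb c289 b290 (Nat.zero_le _) (Nat.le_of_ble_eq_true rfl) rfl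

theorem c291 : Block F al 0 37376 26929 :=
  block_comb c290 b291 (Nat.zero_le _) (Nat.le_of_ble_eq_true rfl) rfl

theorem c292 : Block F al 0 37504 27050 :=
  block_comb c291 b292 (Nat.zero_le _) (Nat.le_of_ble_eq_true rfl) rfl

theorem c293 : Block F al 0 37632 27166 :=
  block_comb c292 b293 (Nat.zero_le _) (Nat.le_of_ble_eq_true rfl) rfl

theorem c294 : Block F al 0 37760 27211 :=
  block_comb c293 b294 (Nat.zero_le _) (Nat.le_of_ble_eq_true rfl) rfl

theorem c295 : Block F al 0 37888 27257 :=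
  block_comb c294 b295 (Nat.zero_le _) (Nat.le_of_ble_eq_true rfl) rfl

theorem c296 : Block F al 0 38016 27334 :=
  block_comb c295 b296 (Nat.zero_le _) (Nat.le_of_ble_eq_true rfl) rfl

theorem c297 : Block F al 0 38144 27360 :=
  block_comb c296 b297 (Nat.zero_le _) (Nat.le_of_ble_eq_true rfl) rfl

theorem c298 : Block F al 0 38272 27446 :=
  block_comb c297 b298 (Nat.zero_le _) (Nat.le_of_ble_eq_true rfl) rfl

theorem c299 : Block F al 0 38400 27542 :=
  block_comb c298 b299 (Nat.zero_le _) (Nat.le_of_ble_eq_true rfl) rfl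

theorem c300 : Block F al 0 38528 27617 :=
  block_comb c299 b300 (Nat.zero_le _) (Nat.le_of_ble_eq_true rfl) rfl

theorem c301 : Block F al 0 38656 27697 :=
  block_comb c300 b301 (Nat.zero_le _) (Nat.le_of_ble_eq_true rfl) rfl

theorem c302 : Block F al 0 38784 27771 :=
  block_comb c301 b302 (Nat.zero_le _) (Nat.le_of_ble_eq_true rfl) rfl

theorem c303 : Block F al 0 38912 27844 :=
  block_comb c302 b303 (Nat.zero_le _) (Nat.le_of_ble_eq_true rfl) rfl

theorem c304 : Block F al 0 39040 27876 :=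
  block_comb c303 b304 (Nat.zero_le _) (Nat.le_of_ble_eq_true rfl) rfl

theorem c305 : Block F al 0 39168 27903 :=
  block_comb c304 b305 (Nat.zero_le _) (Nat.le_of_ble_eq_true rfl) rfl

theorem c306 : Block F al 0 39296 28011 :=
  block_comb c305 b306 (Nat.zero_le _) (Nat.le_of_ble_eq_true rfl) rfl

theorem c307 : Block F al 0 39424 28090 :=
  block_comb c306 b307 (Nat.zero_le _) (Nat.le_of_ble_eq_true rfl) rfl

theorem c308 : Block F al 0 39552 28214 :=
  block_comb c307 b308 (Nat.zero_le _) (Nat.le_of_ble_eq_true rfl) rfl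

theorem c309 : Block F al 0 39680 28289 :=
  block_comb c308 b309 (Nat.zero_le _) (Nat.le_of_ble_eq_true rfl) rfl

theorem c310 : Block F al 0 39808 28415 :=
  block_comb c309 b310 (Nat.zero_le _) (Nat.le_of_ble_eq_true rfl) rfl

theorem c311 : Block F al 0 39936 28533 :=
  block_comb c310 b311 (Nat.zero_le _) (Nat.le_of_ble_eq_true rfl) rfl

theorem c312 : Block F al 0 40064 28630 :=
  block_comb c311 b312 (Nat.zero_le _) (Nat.le_of_ble_eq_true rfl) rfl

theorem c313 : Block F al 0 40192 28679 :=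
  block_comb c312 b313 (Nat.zero_le _) (Nat.le_of_ble_eq_true rfl) rfl

theorem c314 : Block F al 0 40320 28684 :=
  block_comb c313 b314 (Nat.zero_le _) (Nat.le_of_ble_eq_true rfl) rfl

theorem c315 : Block F al 0 40448 28727 :=
  block_comb c314 b315 (Nat.zero_le _) (Nat.le_of_ble_eq_true rfl) rfl

theorem c316 : Block F al 0 40576 28762 :=
  block_comb c315 b316 (Nat.zero_le _) (Nat.le_of_ble_eq_true rfl) rfl

theorem c317 : Block F al 0 40704 28809 :=
  block_comb c316 b317 (Nat.zero_le _) (Nat.le_of_ble_eq_true rfl) rfl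

theorem c318 : Block F al 0 40832 28839 :=
  block_comb c317 b318 (Nat.zero_le _) (Nat.le_of_ble_eq_true rfl) rfl

theorem c319 : Block F al 0 40960 28862 :=
  block_comb c318 b319 (Nat.zero_le _) (Nat.le_of_ble_eq_true rfl) rfl

theorem c320 : Block F al 0 41088 28878 :=
  block_comb c319 b320 (Nat.zero_le _) (Nat.le_of_ble_eq_true rfl) rfl

theorem c321 : Block F al 0 41216 28892 :=
  block_comb c320 b321 (Nat.zero_le _) (Nat.le_of_ble_eq_true rfl) rfl

theorem c322 : Block F al 0 41344 28903 :=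
  block_comb c321 b322 (Nat.zero_le _) (Nat.le_of_ble_eq_true rfl) rfl

theorem c323 : Block F al 0 41472 28906 :=
  block_comb c322 b323 (Nat.zero_le _) (Nat.le_of_ble_eq_true rfl) rfl

theorem c324 : Block F al 0 41600 28906 :=
  block_comb c323 b324 (Nat.zero_le _) (Nat.le_of_ble_eq_true rfl) rfl

theorem c325 : Block F al 0 41728 28906 :=
  block_comb c324 b325 (Nat.zero_le _) (Nat.le_of_ble_eq_true rfl) rfl

theorem c326 : Block F al 0 41856 28972 :=
  block_comb c325 b326 (Nat.zero_le _) (Nat.le_of_ble_eq_true rfl) rfl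

theorem c327 : Block F al 0 41984 29097 :=
  block_comb c326 b327 (Nat.zero_le _) (Nat.le_of_ble_eq_true rfl) rfl

theorem c328 : Block F al 0 42112 29174 :=
  block_comb c327 b328 (Nat.zero_le _) (Nat.le_of_ble_eq_true rfl) rfl

theorem c329 : Block F al 0 42240 29271 :=
  block_comb c328 b329 (Nat.zero_le _) (Nat.le_of_ble_eq_true rfl) rfl

theorem c330 : Block F al 0 42368 29382 :=
  block_comb c329 b330 (Nat.zero_le _) (Nat.le_of_ble_eq_true rfl) rfl

theorem c331 : Block F al 0 42496 29483 :=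
  block_comb c330 b331 (Nat.zero_le _) (Nat.le_of_ble_eq_true rfl) rfl

theorem c332 : Block F al 0 42624 29565 :=
  block_comb c331 b332 (Nat.zero_le _) (Nat.le_of_ble_eq_true rfl) rfl

theorem c333 : Block F al 0 42752 29595 :=
  block_comb c332 b333 (Nat.zero_le _) (Nat.le_of_ble_eq_true rfl) rfl

theorem c334 : Block F al 0 42880 29626 :=
  block_comb c333 b334 (Nat.zero_le _) (Nat.le_of_ble_eq_true rfl) rfl

theorem c335 : Block F al 0 43008 29655 :=
  block_comb c334 b335 (Nat.zero_le _) (Nat.le_of_ble_eq_true rfl) rfl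

theorem c336 : Block F al 0 43136 29686 :=
  block_comb c335 b336 (Nat.zero_le _) (Nat.le_of_ble_eq_true rfl) rfl

theorem c337 : Block F al 0 43264 29729 :=
  block_comb c336 b337 (Nat.zero_le _) (Nat.le_of_ble_eq_true rfl) rfl

theorem c338 : Block F al 0 43392 29736 :=
  block_comb c337 b338 (Nat.zero_le _) (Nat.le_of_ble_eq_true rfl) rfl

theorem c339 : Block F al 0 43520 29789 :=
  block_comb c338 b339 (Nat.zero_le _) (Nat.le_of_ble_eq_true rfl) rfl

theorem c340 : Block F al 0 43648 29859 :=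
  block_comb c339 b340 (Nat.zero_le _) (Nat.le_of_ble_eq_true rfl) rfl

theorem c341 : Block F al 0 43776 29927 :=
  block_comb c340 b341 (Nat.zero_le _) (Nat.le_of_ble_eq_true rfl) rfl

theorem c342 : Block F al 0 43904 29985 :=
  block_comb c341 b342 (Nat.zero_le _) (Nat.le_of_ble_eq_true rfl) rfl

theorem c343 : Block F al 0 44032 29987 :=
  block_comb c342 b343 (Nat.zero_le _) (Nat.le_of_ble_eq_true rfl) rfl

theorem c344 : Block F al 0 44160 29989 :=
  block_comb c343 b344 (Nat.zero_le _) (Nat.le_of_ble_eq_true rfl) rfl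

theorem c345 : Block F al 0 44288 29995 :=
  block_comb c344 b345 (Nat.zero_le _) (Nat.le_of_ble_eq_true rfl) rfl

theorem c346 : Block F al 0 44416 30086 :=
  block_comb c345 b346 (Nat.zero_le _) (Nat.le_of_ble_eq_true rfl) rfl

theorem c347 : Block F al 0 44544 30213 :=
  block_comb c346 b347 (Nat.zero_le _) (Nat.le_of_ble_eq_true rfl) rfl

theorem c348 : Block F al 0 44672 30316 :=
  block_comb c347 b348 (Nat.zero_le _) (Nat.le_of_ble_eq_true rfl) rfl

theorem c349 : Block F al 0 44800 30435 :=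
  block_comb c348 b349 (Nat.zero_le _) (Nat.le_of_ble_eq_true rfl) rfl

theorem c350 : Block F al 0 44928 30563 :=
  block_comb c349 b350 (Nat.zero_le _) (Nat.le_of_ble_eq_true rfl) rfl

theorem c351 : Block F al 0 45056 30646 :=
  block_comb c350 b351 (Nat.zero_le _) (Nat.le_of_ble_eq_true rfl) rfl

theorem c352 : Block F al 0 45184 30730 :=
  block_comb c351 b352 (Nat.zero_le _) (Nat.le_of_ble_eq_true rfl) rfl

theorem c353 : Block F al 0 45312 30850 :=
  block_comb c352 b353 (Nat.zero_le _) (Nat.le_of_ble_eq_true rfl) rfl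

theorem c354 : Block F al 0 45440 30977 :=
  block_comb c353 b354 (Nat.zero_le _) (Nat.le_of_ble_eq_true rfl) rfl

theorem c355 : Block F al 0 45568 31097 :=
  block_comb c354 b355 (Nat.zero_le _) (Nat.le_of_ble_eq_true rfl) rfl

theorem c356 : Block F al 0 45696 31214 :=
  block_comb c355 b356 (Nat.zero_le _) (Nat.le_of_ble_eq_true rfl) rfl

theorem c357 : Block F al 0 45824 31311 :=
  block_comb c356 b357 (Nat.zero_le _) (Nat.le_of_ble_eq_true rfl) rfl

theorem c358 : Block F al 0 45952 31402 :=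
  block_comb c357 b358 (Nat.zero_le _) (Nat.le_of_ble_eq_true rfl) rfl

theorem c359 : Block F al 0 46080 31443 :=
  block_comb c358 b359 (Nat.zero_le _) (Nat.le_of_ble_eq_true rfl) rfl

theorem c360 : Block F al 0 46208 31494 :=
  block_comb c359 b360 (Nat.zero_le _) (Nat.le_of_ble_eq_true rfl) rfl

theorem c361 : Block F al 0 46336 31514 :=
  block_comb c360 b361 (Nat.zero_le _) (Nat.le_of_ble_eq_true rfl) rfl

theorem c362 : Block F al 0 46464 31557 :=
  block_comb c361 b362 (Nat.zero_le _) (Nat.le_of_ble_eq_true rfl) rfl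

theorem c363 : Block F al 0 46592 31614 :=
  block_comb c362 b363 (Nat.zero_le _) (Nat.le_of_ble_eq_true rfl) rfl

theorem c364 : Block F al 0 46720 31688 :=
  block_comb c363 b364 (Nat.zero_le _) (Nat.le_of_ble_eq_true rfl) rfl

theorem c365 : Block F al 0 46848 31745 :=
  block_comb c364 b365 (Nat.zero_le _) (Nat.le_of_ble_eq_true rfl) rfl

theorem c366 : Block F al 0 46976 31800 :=
  block_comb c365 b366 (Nat.zero_le _) (Nat.le_of_ble_eq_true rfl) rfl

theorem c367 : Block F al 0 47104 31848 :=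
  block_comb c366 b367 (Nat.zero_le _) (Nat.le_of_ble_eq_true rfl) rfl

theorem c368 : Block F al 0 47232 31875 :=
  block_comb c367 b368 (Nat.zero_le _) (Nat.le_of_ble_eq_true rfl) rfl

theorem c369 : Block F al 0 47360 31942 :=
  block_comb c368 b369 (Nat.zero_le _) (Nat.le_of_ble_eq_true rfl) rfl

theorem c370 : Block F al 0 47488 32040 :=
  block_comb c369 b370 (Nat.zero_le _) (Nat.le_of_ble_eq_true rfl) rfl

theorem c371 : Block F al 0 47616 32159 :=
  block_comb c370 b371 (Nat.zero_le _) (Nat.le_of_ble_eq_true rfl) rfl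

theorem c372 : Block F al 0 47744 32204 :=
  block_comb c371 b372 (Nat.zero_le _) (Nat.le_of_ble_eq_true rfl) rfl

theorem c373 : Block F al 0 47872 32321 :=
  block_comb c372 b373 (Nat.zero_le _) (Nat.le_of_ble_eq_true rfl) rfl

theorem c374 : Block F al 0 48000 32423 :=
  block_comb c373 b374 (Nat.zero_le _) (Nat.le_of_ble_eq_true rfl) rfl

theorem c375 : Block F al 0 48128 32487 :=
  block_comb c374 b375 (Nat.zero_le _) (Nat.le_of_ble_eq_true rfl) rfl

theorem c376 : Block F al 0 48256 32503 :=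
  block_comb c375 b376 (Nat.zero_le _) (Nat.le_of_ble_eq_true rfl) rfl

theorem c377 : Block F al 0 48384 32504 :=
  block_comb c376 b377 (Nat.zero_le _) (Nat.le_of_ble_eq_true rfl) rfl

theorem c378 : Block F al 0 48512 32525 :=
  block_comb c377 b378 (Nat.zero_le _) (Nat.le_of_ble_eq_true rfl) rfl

theorem c379 : Block F al 0 48640 32548 :=
  block_comb c378 b379 (Nat.zero_le _) (Nat.le_of_ble_eq_true rfl) rfl

theorem c380 : Block F al 0 48768 32567 :=
  block_comb c379 b380 (Nat.zero_le _) (Nat.le_of_ble_eq_true rfl) rfl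

theorem c381 : Block F al 0 48896 32598 :=
  block_comb c380 b381 (Nat.zero_le _) (Nat.le_of_ble_eq_true rfl) rfl

theorem c382 : Block F al 0 49024 32698 :=
  block_comb c381 b382 (Nat.zero_le _) (Nat.le_of_ble_eq_true rfl) rfl

theorem c383 : Block F al 0 49152 32809 :=
  block_comb c382 b383 (Nat.zero_le _) (Nat.le_of_ble_eq_true rfl) rfl

theorem c384 : Block F al 0 49280 32906 :=
  block_comb c383 b384 (Nat.zero_le _) (Nat.le_of_ble_eq_true rfl) rfl

theorem c385 : Block F al 0 49408 33033 :=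
  block_comb c384 b385 (Nat.zero_le _) (Nat.le_of_ble_eq_true rfl) rfl

theorem c386 : Block F al 0 49536 33158 :=
  block_comb c385 b386 (Nat.zero_le _) (Nat.le_of_ble_eq_true rfl) rfl

theorem c387 : Block F al 0 49664 33217 :=
  block_comb c386 b387 (Nat.zero_le _) (Nat.le_of_ble_eq_true rfl) rfl

theorem c388 : Block F al 0 49792 33308 :=
  block_comb c387 b388 (Nat.zero_le _) (Nat.le_of_ble_eq_true rfl) rfl

theorem c389 : Block F al 0 49920 33436 :=
  block_comb c388 b389 (Nat.zero_le _) (Nat.le_of_ble_eq_true rfl) rfl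

theorem c390 : Block F al 0 50048 33564 :=
  block_comb c389 b390 (Nat.zero_le _) (Nat.le_of_ble_eq_true rfl) rfl

theorem c391 : Block F al 0 50176 33649 :=
  block_comb c390 b391 (Nat.zero_le _) (Nat.le_of_ble_eq_true rfl) rfl

theorem c392 : Block F al 0 50304 33758 :=
  block_comb c391 b392 (Nat.zero_le _) (Nat.le_of_ble_eq_true rfl) rfl

theorem c393 : Block F al 0 50432 33839 :=
  block_comb c392 b393 (Nat.zero_le _) (Nat.le_of_ble_eq_true rfl) rfl

theorem c394 : Block F al 0 50560 33967 :=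
  block_comb c393 b394 (Nat.zero_le _) (Nat.le_of_ble_eq_true rfl) rfl

theorem c395 : Block F al 0 50688 34094 :=
  block_comb c394 b395 (Nat.zero_le _) (Nat.le_of_ble_eq_true rfl) rfl

theorem c396 : Block F al 0 50816 34222 :=
  block_comb c395 b396 (Nat.zero_le _) (Nat.le_of_ble_eq_true rfl) rfl

theorem c397 : Block F al 0 50944 34344 :=
  block_comb c396 b397 (Nat.zero_le _) (Nat.le_of_ble_eq_true rfl) rfl

theorem c398 : Block F al 0 51072 34472 :=
  block_comb c397 b398 (Nat.zero_le _) (Nat.le_of_ble_eq_true rfl) rfl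

theorem c399 : Block F al 0 51200 34589 :=
  block_comb c398 b399 (Nat.zero_le _) (Nat.le_of_ble_eq_true rfl) rfl

theorem c400 : Block F al 0 51328 34698 :=
  block_comb c399 b400 (Nat.zero_le _) (Nat.le_of_ble_eq_true rfl) rfl

theorem c401 : Block F al 0 51456 34798 :=
  block_comb c400 b401 (Nat.zero_le _) (Nat.le_of_ble_eq_true rfl) rfl

theorem c402 : Block F al 0 51584 34865 :=
  block_comb c401 b402 (Nat.zero_le _) (Nat.le_of_ble_eq_true rfl) rfl

theorem c403 : Block F al 0 51712 34890 :=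
  block_comb c402 b403 (Nat.zero_le _) (Nat.le_of_ble_eq_true rfl) rfl

theorem c404 : Block F al 0 51840 34913 :=
  block_comb c403 b404 (Nat.zero_le _) (Nat.le_of_ble_eq_true rfl) rfl

theorem c405 : Block F al 0 51968 34992 :=
  block_comb c404 b405 (Nat.zero_le _) (Nat.le_of_ble_eq_true rfl) rfl

theorem c406 : Block F al 0 52096 35038 :=
  block_comb c405 b406 (Nat.zero_le _) (Nat.le_of_ble_eq_true rfl) rfl

theorem c407 : Block F al 0 52224 35052 :=
  block_comb c406 b407 (Nat.zero_le _) (Nat.le_of_ble_eq_true rfl) rfl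

theorem c408 : Block F al 0 52352 35111 :=
  block_comb c407 b408 (Nat.zero_le _) (Nat.le_of_ble_eq_true rfl) rfl

theorem c409 : Block F al 0 52480 35180 :=
  block_comb c408 b409 (Nat.zero_le _) (Nat.le_of_ble_eq_true rfl) rfl

theorem c410 : Block F al 0 52608 35247 :=
  block_comb c409 b410 (Nat.zero_le _) (Nat.le_of_ble_eq_true rfl) rfl

theorem c411 : Block F al 0 52736 35337 :=
  block_comb c410 b411 (Nat.zero_le _) (Nat.le_of_ble_eq_true rfl) rfl

theorem c412 : Block F al 0 52864 35387 :=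
  block_comb c411 b412 (Nat.zero_le _) (Nat.le_of_ble_eq_true rfl) rfl

theorem c413 : Block F al 0 52992 35460 :=
  block_comb c412 b413 (Nat.zero_le _) (Nat.le_of_ble_eq_true rfl) rfl

theorem c414 : Block F al 0 53120 35534 :=
  block_comb c413 b414 (Nat.zero_le _) (Nat.le_of_ble_eq_true rfl) rfl

theorem c415 : Block F al 0 53248 35587 :=
  block_comb c414 b415 (Nat.zero_le _) (Nat.le_of_ble_eq_true rfl) rfl

theorem c416 : Block F al 0 53376 35630 :=
  block_comb c415 b416 (Nat.zero_le _) (Nat.le_of_ble_eq_true rfl) rfl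

theorem c417 : Block F al 0 53504 35658 :=
  block_comb c416 b417 (Nat.zero_le _) (Nat.le_of_ble_eq_true rfl) rfl

theorem c418 : Block F al 0 53632 35664 :=
  block_comb c417 b418 (Nat.zero_le _) (Nat.le_of_ble_eq_true rfl) rfl

theorem c419 : Block F al 0 53760 35701 :=
  block_comb c418 b419 (Nat.zero_le _) (Nat.le_of_ble_eq_true rfl) rfl

theorem c420 : Block F al 0 53888 35794 :=
  block_comb c419 b420 (Nat.zero_le _) (Nat.le_of_ble_eq_true rfl) rfl

theorem c421 : Block F al 0 54016 35884 :=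
  block_comb c420 b421 (Nat.zero_le _) (Nat.le_of_ble_eq_true rfl) rfl

theorem c422 : Block F al 0 54144 35970 :=
  block_comb c421 b422 (Nat.zero_le _) (Nat.le_of_ble_eq_true rfl) rfl

theorem c423 : Block F al 0 54272 36083 :=
  block_comb c422 b423 (Nat.zero_le _) (Nat.le_of_ble_eq_true rfl) rfl

theorem c424 : Block F al 0 54400 36129 :=
  block_comb c423 b424 (Nat.zero_le _) (Nat.le_of_ble_eq_true rfl) rfl

theorem c425 : Block F al 0 54528 36244 :=
  block_comb c424 b425 (Nat.zero_le _) (Nat.le_of_ble_eq_true rfl) rfl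

theorem c426 : Block F al 0 54656 36362 :=
  block_comb c425 b426 (Nat.zero_le _) (Nat.le_of_ble_eq_true rfl) rfl

theorem c427 : Block F al 0 54784 36458 :=
  block_comb c426 b427 (Nat.zero_le _) (Nat.le_of_ble_eq_true rfl) rfl

theorem c428 : Block F al 0 54912 36550 :=
  block_comb c427 b428 (Nat.zero_le _) (Nat.le_of_ble_eq_true rfl) rfl

theorem c429 : Block F al 0 55040 36626 :=
  block_comb c428 b429 (Nat.zero_le _) (Nat.le_of_ble_eq_true rfl) rfl

theorem c430 : Block F al 0 55168 36636 :=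
  block_comb c429 b430 (Nat.zero_le _) (Nat.le_of_ble_eq_true rfl) rfl

theorem c431 : Block F al 0 55296 36639 :=
  block_comb c430 b431 (Nat.zero_le _) (Nat.le_of_ble_eq_true rfl) rfl

theorem c432 : Block F al 0 55424 36645 :=
  block_comb c431 b432 (Nat.zero_le _) (Nat.le_of_ble_eq_true rfl) rfl

theorem c433 : Block F al 0 55552 36686 :=
  block_comb c432 b433 (Nat.zero_le _) (Nat.le_of_ble_eq_true rfl) rfl

theorem c434 : Block F al 0 55680 36706 :=
  block_comb c433 b434 (Nat.zero_le _) (Nat.le_of_ble_eq_true rfl) rfl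

theorem c435 : Block F al 0 55808 36745 :=
  block_comb c434 b435 (Nat.zero_le _) (Nat.le_of_ble_eq_true rfl) rfl

theorem c436 : Block F al 0 55936 36771 :=
  block_comb c435 b436 (Nat.zero_le _) (Nat.le_of_ble_eq_true rfl) rfl

theorem c437 : Block F al 0 56064 36795 :=
  block_comb c436 b437 (Nat.zero_le _) (Nat.le_of_ble_eq_true rfl) rfl

theorem c438 : Block F al 0 56192 36795 :=
  block_comb c437 b438 (Nat.zero_le _) (Nat.le_of_ble_eq_true rfl) rfl

theorem c439 : Block F al 0 56320 36812 :=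
  block_comb c438 b439 (Nat.zero_le _) (Nat.le_of_ble_eq_true rfl) rfl

theorem c440 : Block F al 0 56448 36822 :=
  block_comb c439 b440 (Nat.zero_le _) (Nat.le_of_ble_eq_true rfl) rfl

theorem c441 : Block F al 0 56576 36822 :=
  block_comb c440 b441 (Nat.zero_le _) (Nat.le_of_ble_eq_true rfl) rfl

theorem c442 : Block F al 0 56704 36826 :=
  block_comb c441 b442 (Nat.zero_le _) (Nat.le_of_ble_eq_true rfl) rfl

theorem c443 : Block F al 0 56832 36827 :=
  block_comb c442 b443 (Nat.zero_le _) (Nat.le_of_ble_eq_true rfl) rfl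

theorem c444 : Block F al 0 56960 36827 :=
  block_comb c443 b444 (Nat.zero_le _) (Nat.le_of_ble_eq_true rfl) rfl

theorem c445 : Block F al 0 57088 36827 :=
  block_comb c444 b445 (Nat.zero_le _) (Nat.le_of_ble_eq_true rfl) rfl

theorem c446 : Block F al 0 57216 36827 :=
  block_comb c445 b446 (Nat.zero_le _) (Nat.le_of_ble_eq_true rfl) rfl

theorem c447 : Block F al 0 57344 36879 :=
  block_comb c446 b447 (Nat.zero_le _) (Nat.le_of_ble_eq_true rfl) rfl

theorem c448 : Block F al 0 57472 36980 :=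
  block_comb c447 b448 (Nat.zero_le _) (Nat.le_of_ble_eq_true rfl) rfl

theorem c449 : Block F al 0 57600 37094 :=
  block_comb c448 b449 (Nat.zero_le _) (Nat.le_of_ble_eq_true rfl) rfl

theorem c450 : Block F al 0 57728 37151 :=
  block_comb c449 b450 (Nat.zero_le _) (Nat.le_of_ble_eq_true rfl) rfl

theorem c451 : Block F al 0 57856 37213 :=
  block_comb c450 b451 (Nat.zero_le _) (Nat.le_of_ble_eq_true rfl) rfl

theorem c452 : Block F al 0 57984 37317 :=
  block_comb c451 b452 (Nat.zero_le _) (Nat.le_of_ble_eq_true rfl) rfl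

theorem c453 : Block F al 0 58112 37413 :=
  block_comb c452 b453 (Nat.zero_le _) (Nat.le_of_ble_eq_true rfl) rfl

theorem c454 : Block F al 0 58240 37511 :=
  block_comb c453 b454 (Nat.zero_le _) (Nat.le_of_ble_eq_true rfl) rfl

theorem c455 : Block F al 0 58368 37586 :=
  block_comb c454 b455 (Nat.zero_le _) (Nat.le_of_ble_eq_true rfl) rfl

theorem c456 : Block F al 0 58496 37669 :=
  block_comb c455 b456 (Nat.zero_le _) (Nat.le_of_ble_eq_true rfl) rfl

theorem c457 : Block F al 0 58624 37693 :=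
  block_comb c456 b457 (Nat.zero_le _) (Nat.le_of_ble_eq_true rfl) rfl

theorem c458 : Block F al 0 58752 37703 :=
  block_comb c457 b458 (Nat.zero_le _) (Nat.le_of_ble_eq_true rfl) rfl

theorem c459 : Block F al 0 58880 37732 :=
  block_comb c458 b459 (Nat.zero_le _) (Nat.le_of_ble_eq_true rfl) rfl

theorem c460 : Block F al 0 59008 37738 :=
  block_comb c459 b460 (Nat.zero_le _) (Nat.le_of_ble_eq_true rfl) rfl

theorem c461 : Block F al 0 59136 37758 :=
  block_comb c460 b461 (Nat.zero_le _) (Nat.le_of_ble_eq_true rfl) rfl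

theorem c462 : Block F al 0 59264 37787 :=
  block_comb c461 b462 (Nat.zero_le _) (Nat.le_of_ble_eq_true rfl) rfl

theorem c463 : Block F al 0 59392 37808 :=
  block_comb c462 b463 (Nat.zero_le _) (Nat.le_of_ble_eq_true rfl) rfl

theorem c464 : Block F al 0 59520 37829 :=
  block_comb c463 b464 (Nat.zero_le _) (Nat.le_of_ble_eq_true rfl) rfl

theorem c465 : Block F al 0 59648 37833 :=
  block_comb c464 b465 (Nat.zero_le _) (Nat.le_of_ble_eq_true rfl) rfl

theorem c466 : Block F al 0 59776 37871 :=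
  block_comb c465 b466 (Nat.zero_le _) (Nat.le_of_ble_eq_true rfl) rfl

theorem c467 : Block F al 0 59904 37940 :=
  block_comb c466 b467 (Nat.zero_le _) (Nat.le_of_ble_eq_true rfl) rfl

theorem c468 : Block F al 0 60032 37968 :=
  block_comb c467 b468 (Nat.zero_le _) (Nat.le_of_ble_eq_true rfl) rfl

theorem c469 : Block F al 0 60160 38025 :=
  block_comb c468 b469 (Nat.zero_le _) (Nat.le_of_ble_eq_true rfl) rfl

theorem c470 : Block F al 0 60288 38061 :=
  block_comb c469 b470 (Nat.zero_le _) (Nat.le_of_ble_eq_true rfl) rfl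

theorem c471 : Block F al 0 60416 38073 :=
  block_comb c470 b471 (Nat.zero_le _) (Nat.le_of_ble_eq_true rfl) rfl

theorem c472 : Block F al 0 60544 38073 :=
  block_comb c471 b472 (Nat.zero_le _) (Nat.le_of_ble_eq_true rfl) rfl

theorem c473 : Block F al 0 60672 38073 :=
  block_comb c472 b473 (Nat.zero_le _) (Nat.le_of_ble_eq_true rfl) rfl

theorem c474 : Block F al 0 60800 38077 :=
  block_comb c473 b474 (Nat.zero_le _) (Nat.le_of_ble_eq_true rfl) rfl

theorem c475 : Block F al 0 60928 38118 :=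
  block_comb c474 b475 (Nat.zero_le _) (Nat.le_of_ble_eq_true rfl) rfl

theorem c476 : Block F al 0 61056 38239 :=
  block_comb c475 b476 (Nat.zero_le _) (Nat.le_of_ble_eq_true rfl) rfl

theorem c477 : Block F al 0 61184 38363 :=
  block_comb c476 b477 (Nat.zero_le _) (Nat.le_of_ble_eq_true rfl) rfl

theorem c478 : Block F al 0 61312 38468 :=
  block_comb c477 b478 (Nat.zero_le _) (Nat.le_of_ble_eq_true rfl) rfl

theorem c479 : Block F al 0 61440 38549 :=
  block_comb c478 b479 (Nat.zero_le _) (Nat.le_of_ble_eq_true rfl) rfl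

theorem c480 : Block F al 0 61568 38669 :=
  block_comb c479 b480 (Nat.zero_le _) (Nat.le_of_ble_eq_true rfl) rfl

theorem c481 : Block F al 0 61696 38794 :=
  block_comb c480 b481 (Nat.zero_le _) (Nat.le_of_ble_eq_true rfl) rfl

theorem c482 : Block F al 0 61824 38905 :=
  block_comb c481 b482 (Nat.zero_le _) (Nat.le_of_ble_eq_true rfl) rfl

theorem c483 : Block F al 0 61952 38969 :=
  block_comb c482 b483 (Nat.zero_le _) (Nat.le_of_ble_eq_true rfl) rfl

theorem c484 : Block F al 0 62080 39069 :=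
  block_comb c483 b484 (Nat.zero_le _) (Nat.le_of_ble_eq_true rfl) rfl

theorem c485 : Block F al 0 62208 39123 :=
  block_comb c484 b485 (Nat.zero_le _) (Nat.le_of_ble_eq_true rfl) rfl

theorem c486 : Block F al 0 62336 39251 :=
  block_comb c485 b486 (Nat.zero_le _) (Nat.le_of_ble_eq_true rfl) rfl

theorem c487 : Block F al 0 62464 39371 :=
  block_comb c486 b487 (Nat.zero_le _) (Nat.le_of_ble_eq_true rfl) rfl

theorem c488 : Block F al 0 62592 39489 :=
  block_comb c487 b488 (Nat.zero_le _) (Nat.le_of_ble_eq_true rfl) rfl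

theorem c489 : Block F al 0 62720 39595 :=
  block_comb c488 b489 (Nat.zero_le _) (Nat.le_of_ble_eq_true rfl) rfl

theorem c490 : Block F al 0 62848 39714 :=
  block_comb c489 b490 (Nat.zero_le _) (Nat.le_of_ble_eq_true rfl) rfl

theorem c491 : Block F al 0 62976 39819 :=
  block_comb c490 b491 (Nat.zero_le _) (Nat.le_of_ble_eq_true rfl) rfl

theorem c492 : Block F al 0 63104 39893 :=
  block_comb c491 b492 (Nat.zero_le _) (Nat.le_of_ble_eq_true rfl) rfl

theorem c493 : Block F al 0 63232 40006 :=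
  block_comb c492 b493 (Nat.zero_le _) (Nat.le_of_ble_eq_true rfl) rfl

theorem c494 : Block F al 0 63360 40019 :=
  block_comb c493 b494 (Nat.zero_le _) (Nat.le_of_ble_eq_true rfl) rfl

theorem c495 : Block F al 0 63488 40058 :=
  block_comb c494 b495 (Nat.zero_le _) (Nat.le_of_ble_eq_true rfl) rfl

theorem c496 : Block F al 0 63616 40069 :=
  block_comb c495 b496 (Nat.zero_le _) (Nat.le_of_ble_eq_true rfl) rfl

theorem c497 : Block F al 0 63744 40144 :=
  block_comb c496 b497 (Nat.zero_le _) (Nat.le_of_ble_eq_true rfl) rfl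

theorem c498 : Block F al 0 63872 40144 :=
  block_comb c497 b498 (Nat.zero_le _) (Nat.le_of_ble_eq_true rfl) rfl

theorem c499 : Block F al 0 64000 40159 :=
  block_comb c498 b499 (Nat.zero_le _) (Nat.le_of_ble_eq_true rfl) rfl

theorem c500 : Block F al 0 64128 40205 :=
  block_comb c499 b500 (Nat.zero_le _) (Nat.le_of_ble_eq_true rfl) rfl

theorem c501 : Block F al 0 64256 40251 :=
  block_comb c500 b501 (Nat.zero_le _) (Nat.le_of_ble_eq_true rfl) rfl

theorem c502 : Block F al 0 64384 40322 :=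
  block_comb c501 b502 (Nat.zero_le _) (Nat.le_of_ble_eq_true rfl) rfl

theorem c503 : Block F al 0 64512 40348 :=
  block_comb c502 b503 (Nat.zero_le _) (Nat.le_of_ble_eq_true rfl) rfl

theorem c504 : Block F al 0 64640 40417 :=
  block_comb c503 b504 (Nat.zero_le _) (Nat.le_of_ble_eq_true rfl) rfl

theorem c505 : Block F al 0 64768 40442 :=
  block_comb c504 b505 (Nat.zero_le _) (Nat.le_of_ble_eq_true rfl) rfl

theorem c506 : Block F al 0 64896 40493 :=
  block_comb c505 b506 (Nat.zero_le _) (Nat.le_of_ble_eq_true rfl) rfl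

theorem c507 : Block F al 0 65024 40513 :=
  block_comb c506 b507 (Nat.zero_le _) (Nat.le_of_ble_eq_true rfl) rfl

theorem c508 : Block F al 0 65152 40516 :=
  block_comb c507 b508 (Nat.zero_le _) (Nat.le_of_ble_eq_true rfl) rfl

theorem c509 : Block F al 0 65280 40544 :=
  block_comb c508 b509 (Nat.zero_le _) (Nat.le_of_ble_eq_true rfl) rfl

theorem c510 : Block F al 0 65408 40653 :=
  block_comb c509 b510 (Nat.zero_le _) (Nat.le_of_ble_eq_true rfl) rfl

theorem c511 : Block F al 0 65536 40749 :=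
  block_comb c510 b511 (Nat.zero_le _) (Nat.le_of_ble_eq_true rfl) rfl

theorem c512 : Block F al 0 65664 40866 :=
  block_comb c511 b512 (Nat.zero_le _) (Nat.le_of_ble_eq_true rfl) rfl

theorem c513 : Block F al 0 65792 40889 :=
  block_comb c512 b513 (Nat.zero_le _) (Nat.le_of_ble_eq_true rfl) rfl

theorem c514 : Block F al 0 65920 40958 :=
  block_comb c513 b514 (Nat.zero_le _) (Nat.le_of_ble_eq_true rfl) rfl

theorem c515 : Block F al 0 66048 41054 :=
  block_comb c514 b515 (Nat.zero_le _) (Nat.le_of_ble_eq_true rfl) rfl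

theorem c516 : Block F al 0 66176 41125 :=
  block_comb c515 b516 (Nat.zero_le _) (Nat.le_of_ble_eq_true rfl) rfl

theorem c517 : Block F al 0 66304 41192 :=
  block_comb c516 b517 (Nat.zero_le _) (Nat.le_of_ble_eq_true rfl) rfl

theorem c518 : Block F al 0 66432 41249 :=
  block_comb c517 b518 (Nat.zero_le _) (Nat.le_of_ble_eq_true rfl) rfl

theorem c519 : Block F al 0 66560 41249 :=
  block_comb c518 b519 (Nat.zero_le _) (Nat.le_of_ble_eq_true rfl) rfl

theorem c520 : Block F al 0 66688 41249 :=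
  block_comb c519 b520 (Nat.zero_le _) (Nat.le_of_ble_eq_true rfl) rfl

theorem c521 : Block F al 0 66816 41252 :=
  block_comb c520 b521 (Nat.zero_le _) (Nat.le_of_ble_eq_true rfl) rfl

theorem c522 : Block F al 0 66944 41267 :=
  block_comb c521 b522 (Nat.zero_le _) (Nat.le_of_ble_eq_true rfl) rfl

theorem c523 : Block F al 0 67072 41285 :=
  block_comb c522 b523 (Nat.zero_le _) (Nat.le_of_ble_eq_true rfl) rfl

theorem c524 : Block F al 0 67200 41297 :=
  block_comb c523 b524 (Nat.zero_le _) (Nat.le_of_ble_eq_true rfl) rfl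

theorem c525 : Block F al 0 67328 41312 :=
  block_comb c524 b525 (Nat.zero_le _) (Nat.le_of_ble_eq_true rfl) rfl

theorem c526 : Block F al 0 67456 41341 :=
  block_comb c525 b526 (Nat.zero_le _) (Nat.le_of_ble_eq_true rfl) rfl

theorem c527 : Block F al 0 67584 41452 :=
  block_comb c526 b527 (Nat.zero_le _) (Nat.le_of_ble_eq_true rfl) rfl

theorem c528 : Block F al 0 67712 41567 :=
  block_comb c527 b528 (Nat.zero_le _) (Nat.le_of_ble_eq_true rfl) rfl

theorem c529 : Block F al 0 67840 41651 :=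
  block_comb c528 b529 (Nat.zero_le _) (Nat.le_of_ble_eq_true rfl) rfl

theorem c530 : Block F al 0 67968 41744 :=
  block_comb c529 b530 (Nat.zero_le _) (Nat.le_of_ble_eq_true rfl) rfl

theorem c531 : Block F al 0 68096 41872 :=
  block_comb c530 b531 (Nat.zero_le _) (Nat.le_of_ble_eq_true rfl) rfl

theorem c532 : Block F al 0 68224 41997 :=
  block_comb c531 b532 (Nat.zero_le _) (Nat.le_of_ble_eq_true rfl) rfl

theorem c533 : Block F al 0 68352 42104 :=
  block_comb c532 b533 (Nat.zero_le _) (Nat.le_of_ble_eq_true rfl) rfl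

theorem c534 : Block F al 0 68480 42138 :=
  block_comb c533 b534 (Nat.zero_le _) (Nat.le_of_ble_eq_true rfl) rfl

theorem c535 : Block F al 0 68608 42217 :=
  block_comb c534 b535 (Nat.zero_le _) (Nat.le_of_ble_eq_true rfl) rfl

theorem c536 : Block F al 0 68736 42308 :=
  block_comb c535 b536 (Nat.zero_le _) (Nat.le_of_ble_eq_true rfl) rfl

theorem c537 : Block F al 0 68864 42436 :=
  block_comb c536 b537 (Nat.zero_le _) (Nat.le_of_ble_eq_true rfl) rfl

theorem c538 : Block F al 0 68992 42563 :=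
  block_comb c537 b538 (Nat.zero_le _) (Nat.le_of_ble_eq_true rfl) rfl

theorem c539 : Block F al 0 69120 42684 :=
  block_comb c538 b539 (Nat.zero_le _) (Nat.le_of_ble_eq_true rfl) rfl

theorem c540 : Block F al 0 69248 42745 :=
  block_comb c539 b540 (Nat.zero_le _) (Nat.le_of_ble_eq_true rfl) rfl

theorem c541 : Block F al 0 69376 42819 :=
  block_comb c540 b541 (Nat.zero_le _) (Nat.le_of_ble_eq_true rfl) rfl

theorem c542 : Block F al 0 69504 42947 :=
  block_comb c541 b542 (Nat.zero_le _) (Nat.le_of_ble_eq_true rfl) rfl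

theorem c543 : Block F al 0 69632 42998 :=
  block_comb c542 b543 (Nat.zero_le _) (Nat.le_of_ble_eq_true rfl) rfl

theorem c544 : Block F al 0 69760 43111 :=
  block_comb c543 b544 (Nat.zero_le _) (Nat.le_of_ble_eq_true rfl) rfl

theorem c545 : Block F al 0 69888 43238 :=
  block_comb c544 b545 (Nat.zero_le _) (Nat.le_of_ble_eq_true rfl) rfl

theorem c546 : Block F al 0 70016 43366 :=
  block_comb c545 b546 (Nat.zero_le _) (Nat.le_of_ble_eq_true rfl) rfl

theorem c547 : Block F al 0 70144 43488 :=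
  block_comb c546 b547 (Nat.zero_le _) (Nat.le_of_ble_eq_true rfl) rfl

theorem c548 : Block F al 0 70272 43613 :=
  block_comb c547 b548 (Nat.zero_le _) (Nat.le_of_ble_eq_true rfl) rfl

theorem c549 : Block F al 0 70400 43727 :=
  block_comb c548 b549 (Nat.zero_le _) (Nat.le_of_ble_eq_true rfl) rfl

theorem c550 : Block F al 0 70528 43845 :=
  block_comb c549 b550 (Nat.zero_le _) (Nat.le_of_ble_eq_true rfl) rfl

theorem c551 : Block F al 0 70656 43970 :=
  block_comb c550 b551 (Nat.zero_le _) (Nat.le_of_ble_eq_true rfl) rfl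

theorem c552 : Block F al 0 70784 44061 :=
  block_comb c551 b552 (Nat.zero_le _) (Nat.le_of_ble_eq_true rfl) rfl

theorem c553 : Block F al 0 70912 44174 :=
  block_comb c552 b553 (Nat.zero_le _) (Nat.le_of_ble_eq_true rfl) rfl

theorem c554 : Block F al 0 71040 44254 :=
  block_comb c553 b554 (Nat.zero_le _) (Nat.le_of_ble_eq_true rfl) rfl

theorem c555 : Block F al 0 71168 44346 :=
  block_comb c554 b555 (Nat.zero_le _) (Nat.le_of_ble_eq_true rfl) rfl

theorem c556 : Block F al 0 71296 44445 :=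
  block_comb c555 b556 (Nat.zero_le _) (Nat.le_of_ble_eq_true rfl) rfl

theorem c557 : Block F al 0 71424 44445 :=
  block_comb c556 b557 (Nat.zero_le _) (Nat.le_of_ble_eq_true rfl) rfl

theorem c558 : Block F al 0 71552 44465 :=
  block_comb c557 b558 (Nat.zero_le _) (Nat.le_of_ble_eq_true rfl) rfl

theorem c559 : Block F al 0 71680 44490 :=
  block_comb c558 b559 (Nat.zero_le _) (Nat.le_of_ble_eq_true rfl) rfl

theorem c560 : Block F al 0 71808 44505 :=
  block_comb c559 b560 (Nat.zero_le _) (Nat.le_of_ble_eq_true rfl) rfl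

theorem c561 : Block F al 0 71936 44573 :=
  block_comb c560 b561 (Nat.zero_le _) (Nat.le_of_ble_eq_true rfl) rfl

theorem c562 : Block F al 0 72064 44654 :=
  block_comb c561 b562 (Nat.zero_le _) (Nat.le_of_ble_eq_true rfl) rfl

theorem c563 : Block F al 0 72192 44654 :=
  block_comb c562 b563 (Nat.zero_le _) (Nat.le_of_ble_eq_true rfl) rfl

theorem c564 : Block F al 0 72320 44665 :=
  block_comb c563 b564 (Nat.zero_le _) (Nat.le_of_ble_eq_true rfl) rfl

theorem c565 : Block F al 0 72448 44679 :=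
  block_comb c564 b565 (Nat.zero_le _) (Nat.le_of_ble_eq_true rfl) rfl

theorem c566 : Block F al 0 72576 44747 :=
  block_comb c565 b566 (Nat.zero_le _) (Nat.le_of_ble_eq_true rfl) rfl

theorem c567 : Block F al 0 72704 44799 :=
  block_comb c566 b567 (Nat.zero_le _) (Nat.le_of_ble_eq_true rfl) rfl

theorem c568 : Block F al 0 72832 44861 :=
  block_comb c567 b568 (Nat.zero_le _) (Nat.le_of_ble_eq_true rfl) rfl

theorem c569 : Block F al 0 72960 44926 :=
  block_comb c568 b569 (Nat.zero_le _) (Nat.le_of_ble_eq_true rfl) rfl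

theorem c570 : Block F al 0 73088 45005 :=
  block_comb c569 b570 (Nat.zero_le _) (Nat.le_of_ble_eq_true rfl) rfl

theorem c571 : Block F al 0 73216 45053 :=
  block_comb c570 b571 (Nat.zero_le _) (Nat.le_of_ble_eq_true rfl) rfl

theorem c572 : Block F al 0 73344 45081 :=
  block_comb c571 b572 (Nat.zero_le _) (Nat.le_of_ble_eq_true rfl) rfl

theorem c573 : Block F al 0 73472 45154 :=
  block_comb c572 b573 (Nat.zero_le _) (Nat.le_of_ble_eq_true rfl) rfl

theorem c574 : Block F al 0 73600 45218 :=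
  block_comb c573 b574 (Nat.zero_le _) (Nat.le_of_ble_eq_true rfl) rfl

theorem c575 : Block F al 0 73728 45231 :=
  block_comb c574 b575 (Nat.zero_le _) (Nat.le_of_ble_eq_true rfl) rfl

theorem c576 : Block F al 0 73856 45280 :=
  block_comb c575 b576 (Nat.zero_le _) (Nat.le_of_ble_eq_true rfl) rfl

theorem c577 : Block F al 0 73984 45298 :=
  block_comb c576 b577 (Nat.zero_le _) (Nat.le_of_ble_eq_true rfl) rfl

theorem c578 : Block F al 0 74112 45322 :=
  block_comb c577 b578 (Nat.zero_le _) (Nat.le_of_ble_eq_true rfl) rfl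

theorem c579 : Block F al 0 74240 45322 :=
  block_comb c578 b579 (Nat.zero_le _) (Nat.le_of_ble_eq_true rfl) rfl

theorem c580 : Block F al 0 74368 45325 :=
  block_comb c579 b580 (Nat.zero_le _) (Nat.le_of_ble_eq_true rfl) rfl

theorem c581 : Block F al 0 74496 45361 :=
  block_comb c580 b581 (Nat.zero_le _) (Nat.le_of_ble_eq_true rfl) rfl

theorem c582 : Block F al 0 74624 45422 :=
  block_comb c581 b582 (Nat.zero_le _) (Nat.le_of_ble_eq_true rfl) rfl

theorem c583 : Block F al 0 74752 45537 :=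
  block_comb c582 b583 (Nat.zero_le _) (Nat.le_of_ble_eq_true rfl) rfl

theorem c584 : Block F al 0 74880 45596 :=
  block_comb c583 b584 (Nat.zero_le _) (Nat.le_of_ble_eq_true rfl) rfl

theorem c585 : Block F al 0 75008 45678 :=
  block_comb c584 b585 (Nat.zero_le _) (Nat.le_of_ble_eq_true rfl) rfl

theorem c586 : Block F al 0 75136 45801 :=
  block_comb c585 b586 (Nat.zero_le _) (Nat.le_of_ble_eq_true rfl) rfl

theorem c587 : Block F al 0 75264 45833 :=
  block_comb c586 b587 (Nat.zero_le _) (Nat.le_of_ble_eq_true rfl) rfl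

theorem c588 : Block F al 0 75392 45887 :=
  block_comb c587 b588 (Nat.zero_le _) (Nat.le_of_ble_eq_true rfl) rfl

theorem c589 : Block F al 0 75520 45994 :=
  block_comb c588 b589 (Nat.zero_le _) (Nat.le_of_ble_eq_true rfl) rfl

theorem c590 : Block F al 0 75648 46104 :=
  block_comb c589 b590 (Nat.zero_le _) (Nat.le_of_ble_eq_true rfl) rfl

theorem c591 : Block F al 0 75776 46174 :=
  block_comb c590 b591 (Nat.zero_le _) (Nat.le_of_ble_eq_true rfl) rfl

theorem c592 : Block F al 0 75904 46275 :=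
  block_comb c591 b592 (Nat.zero_le _) (Nat.le_of_ble_eq_true rfl) rfl

theorem c593 : Block F al 0 76032 46355 :=
  block_comb c592 b593 (Nat.zero_le _) (Nat.le_of_ble_eq_true rfl) rfl

theorem c594 : Block F al 0 76160 46394 :=
  block_comb c593 b594 (Nat.zero_le _) (Nat.le_of_ble_eq_true rfl) rfl

theorem c595 : Block F al 0 76288 46443 :=
  block_comb c594 b595 (Nat.zero_le _) (Nat.le_of_ble_eq_true rfl) rfl

theorem c596 : Block F al 0 76416 46443 :=
  block_comb c595 b596 (Nat.zero_le _) (Nat.le_of_ble_eq_true rfl) rfl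

theorem c597 : Block F al 0 76544 46443 :=
  block_comb c596 b597 (Nat.zero_le _) (Nat.le_of_ble_eq_true rfl) rfl

theorem c598 : Block F al 0 76672 46443 :=
  block_comb c597 b598 (Nat.zero_le _) (Nat.le_of_ble_eq_true rfl) rfl

theorem c599 : Block F al 0 76800 46458 :=
  block_comb c598 b599 (Nat.zero_le _) (Nat.le_of_ble_eq_true rfl) rfl

theorem c600 : Block F al 0 76928 46488 :=
  block_comb c599 b600 (Nat.zero_le _) (Nat.le_of_ble_eq_true rfl) rfl

theorem c601 : Block F al 0 77056 46493 :=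
  block_comb c600 b601 (Nat.zero_le _) (Nat.le_of_ble_eq_true rfl) rfl

theorem c602 : Block F al 0 77184 46528 :=
  block_comb c601 b602 (Nat.zero_le _) (Nat.le_of_ble_eq_true rfl) rfl

theorem c603 : Block F al 0 77312 46548 :=
  block_comb c602 b603 (Nat.zero_le _) (Nat.le_of_ble_eq_true rfl) rfl

theorem c604 : Block F al 0 77440 46566 :=
  block_comb c603 b604 (Nat.zero_le _) (Nat.le_of_ble_eq_true rfl) rfl

theorem c605 : Block F al 0 77568 46567 :=
  block_comb c604 b605 (Nat.zero_le _) (Nat.le_of_ble_eq_true rfl) rfl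

theorem c606 : Block F al 0 77696 46568 :=
  block_comb c605 b606 (Nat.zero_le _) (Nat.le_of_ble_eq_true rfl) rfl

theorem c607 : Block F al 0 77824 46576 :=
  block_comb c606 b607 (Nat.zero_le _) (Nat.le_of_ble_eq_true rfl) rfl

theorem c608 : Block F al 0 77952 46586 :=
  block_comb c607 b608 (Nat.zero_le _) (Nat.le_of_ble_eq_true rfl) rfl

theorem c609 : Block F al 0 78080 46588 :=
  block_comb c608 b609 (Nat.zero_le _) (Nat.le_of_ble_eq_true rfl) rfl

theorem c610 : Block F al 0 78208 46588 :=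
  block_comb c609 b610 (Nat.zero_le _) (Nat.le_of_ble_eq_true rfl) rfl

theorem c611 : Block F al 0 78336 46590 :=
  block_comb c610 b611 (Nat.zero_le _) (Nat.le_of_ble_eq_true rfl) rfl

theorem c612 : Block F al 0 78464 46590 :=
  block_comb c611 b612 (Nat.zero_le _) (Nat.le_of_ble_eq_true rfl) rfl

theorem c613 : Block F al 0 78592 46590 :=
  block_comb c612 b613 (Nat.zero_le _) (Nat.le_of_ble_eq_true rfl) rfl

theorem c614 : Block F al 0 78720 46590 :=
  block_comb c613 b614 (Nat.zero_le _) (Nat.le_of_ble_eq_true rfl) rfl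

theorem c615 : Block F al 0 78848 46590 :=
  block_comb c614 b615 (Nat.zero_le _) (Nat.le_of_ble_eq_true rfl) rfl

theorem c616 : Block F al 0 78976 46590 :=
  block_comb c615 b616 (Nat.zero_le _) (Nat.le_of_ble_eq_true rfl) rfl

theorem c617 : Block F al 0 79104 46590 :=
  block_comb c616 b617 (Nat.zero_le _) (Nat.le_of_ble_eq_true rfl) rfl

theorem c618 : Block F al 0 79232 46632 :=
  block_comb c617 b618 (Nat.zero_le _) (Nat.le_of_ble_eq_true rfl) rfl

theorem c619 : Block F al 0 79360 46712 :=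
  block_comb c618 b619 (Nat.zero_le _) (Nat.le_of_ble_eq_true rfl) rfl

theorem c620 : Block F al 0 79488 46828 :=
  block_comb c619 b620 (Nat.zero_le _) (Nat.le_of_ble_eq_true rfl) rfl

theorem c621 : Block F al 0 79616 46934 :=
  block_comb c620 b621 (Nat.zero_le _) (Nat.le_of_ble_eq_true rfl) rfl

theorem c622 : Block F al 0 79744 46986 :=
  block_comb c621 b622 (Nat.zero_le _) (Nat.le_of_ble_eq_true rfl) rfl

theorem c623 : Block F al 0 79872 47047 :=
  block_comb c622 b623 (Nat.zero_le _) (Nat.le_of_ble_eq_true rfl) rfl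

theorem c624 : Block F al 0 80000 47084 :=
  block_comb c623 b624 (Nat.zero_le _) (Nat.le_of_ble_eq_true rfl) rfl

theorem c625 : Block F al 0 80128 47165 :=
  block_comb c624 b625 (Nat.zero_le _) (Nat.le_of_ble_eq_true rfl) rfl

theorem c626 : Block F al 0 80256 47250 :=
  block_comb c625 b626 (Nat.zero_le _) (Nat.le_of_ble_eq_true rfl) rfl

theorem c627 : Block F al 0 80384 47334 :=
  block_comb c626 b627 (Nat.zero_le _) (Nat.le_of_ble_eq_true rfl) rfl

theorem c628 : Block F al 0 80512 47425 :=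
  block_comb c627 b628 (Nat.zero_le _) (Nat.le_of_ble_eq_true rfl) rfl

theorem c629 : Block F al 0 80640 47483 :=
  block_comb c628 b629 (Nat.zero_le _) (Nat.le_of_ble_eq_true rfl) rfl

theorem c630 : Block F al 0 80768 47550 :=
  block_comb c629 b630 (Nat.zero_le _) (Nat.le_of_ble_eq_true rfl) rfl

theorem c631 : Block F al 0 80896 47619 :=
  block_comb c630 b631 (Nat.zero_le _) (Nat.le_of_ble_eq_true rfl) rfl

theorem c632 : Block F al 0 81024 47637 :=
  block_comb c631 b632 (Nat.zero_le _) (Nat.le_of_ble_eq_true rfl) rfl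

theorem c633 : Block F al 0 81152 47666 :=
  block_comb c632 b633 (Nat.zero_le _) (Nat.le_of_ble_eq_true rfl) rfl

theorem c634 : Block F al 0 81280 47670 :=
  block_comb c633 b634 (Nat.zero_le _) (Nat.le_of_ble_eq_true rfl) rfl

theorem c635 : Block F al 0 81408 47700 :=
  block_comb c634 b635 (Nat.zero_le _) (Nat.le_of_ble_eq_true rfl) rfl

theorem c636 : Block F al 0 81536 47700 :=
  block_comb c635 b636 (Nat.zero_le _) (Nat.le_of_ble_eq_true rfl) rfl

theorem c637 : Block F al 0 81664 47701 :=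
  block_comb c636 b637 (Nat.zero_le _) (Nat.le_of_ble_eq_true rfl) rfl

theorem c638 : Block F al 0 81792 47716 :=
  block_comb c637 b638 (Nat.zero_le _) (Nat.le_of_ble_eq_true rfl) rfl

theorem c639 : Block F al 0 81920 47731 :=
  block_comb c638 b639 (Nat.zero_le _) (Nat.le_of_ble_eq_true rfl) rfl

theorem c640 : Block F al 0 82048 47750 :=
  block_comb c639 b640 (Nat.zero_le _) (Nat.le_of_ble_eq_true rfl) rfl

theorem c641 : Block F al 0 82176 47766 :=
  block_comb c640 b641 (Nat.zero_le _) (Nat.le_of_ble_eq_true rfl) rfl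

theorem c642 : Block F al 0 82304 47783 :=
  block_comb c641 b642 (Nat.zero_le _) (Nat.le_of_ble_eq_true rfl) rfl

theorem c643 : Block F al 0 82432 47786 :=
  block_comb c642 b643 (Nat.zero_le _) (Nat.le_of_ble_eq_true rfl) rfl

theorem c644 : Block F al 0 82560 47787 :=
  block_comb c643 b644 (Nat.zero_le _) (Nat.le_of_ble_eq_true rfl) rfl

theorem c645 : Block F al 0 82688 47788 :=
  block_comb c644 b645 (Nat.zero_le _) (Nat.le_of_ble_eq_true rfl) rfl

theorem c646 : Block F al 0 82816 47850 :=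
  block_comb c645 b646 (Nat.zero_le _) (Nat.le_of_ble_eq_true rfl) rfl

theorem c647 : Block F al 0 82944 47894 :=
  block_comb c646 b647 (Nat.zero_le _) (Nat.le_of_ble_eq_true rfl) rfl

theorem c648 : Block F al 0 83072 47912 :=
  block_comb c647 b648 (Nat.zero_le _) (Nat.le_of_ble_eq_true rfl) rfl

theorem c649 : Block F al 0 83200 47957 :=
  block_comb c648 b649 (Nat.zero_le _) (Nat.le_of_ble_eq_true rfl) rfl

theorem c650 : Block F al 0 83328 47993 :=
  block_comb c649 b650 (Nat.zero_le _) (Nat.le_of_ble_eq_true rfl) rfl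

theorem c651 : Block F al 0 83456 48004 :=
  block_comb c650 b651 (Nat.zero_le _) (Nat.le_of_ble_eq_true rfl) rfl

theorem c652 : Block F al 0 83584 48014 :=
  block_comb c651 b652 (Nat.zero_le _) (Nat.le_of_ble_eq_true rfl) rfl

theorem c653 : Block F al 0 83712 48014 :=
  block_comb c652 b653 (Nat.zero_le _) (Nat.le_of_ble_eq_true rfl) rfl

theorem c654 : Block F al 0 83840 48014 :=
  block_comb c653 b654 (Nat.zero_le _) (Nat.le_of_ble_eq_true rfl) rfl

theorem c655 : Block F al 0 83968 48014 :=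
  block_comb c654 b655 (Nat.zero_le _) (Nat.le_of_ble_eq_true rfl) rfl

theorem c656 : Block F al 0 84096 48016 :=
  block_comb c655 b656 (Nat.zero_le _) (Nat.le_of_ble_eq_true rfl) rfl

theorem c657 : Block F al 0 84224 48016 :=
  block_comb c656 b657 (Nat.zero_le _) (Nat.le_of_ble_eq_true rfl) rfl

theorem c658 : Block F al 0 84352 48102 :=
  block_comb c657 b658 (Nat.zero_le _) (Nat.le_of_ble_eq_true rfl) rfl

theorem c659 : Block F al 0 84480 48228 :=
  block_comb c658 b659 (Nat.zero_le _) (Nat.le_of_ble_eq_true rfl) rfl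

theorem c660 : Block F al 0 84608 48351 :=
  block_comb c659 b660 (Nat.zero_le _) (Nat.le_of_ble_eq_true rfl) rfl

theorem c661 : Block F al 0 84736 48470 :=
  block_comb c660 b661 (Nat.zero_le _) (Nat.le_of_ble_eq_true rfl) rfl

theorem c662 : Block F al 0 84864 48552 :=
  block_comb c661 b662 (Nat.zero_le _) (Nat.le_of_ble_eq_true rfl) rfl

theorem c663 : Block F al 0 84992 48624 :=
  block_comb c662 b663 (Nat.zero_le _) (Nat.le_of_ble_eq_true rfl) rfl

theorem c664 : Block F al 0 85120 48717 :=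
  block_comb c663 b664 (Nat.zero_le _) (Nat.le_of_ble_eq_true rfl) rfl

theorem c665 : Block F al 0 85248 48836 :=
  block_comb c664 b665 (Nat.zero_le _) (Nat.le_of_ble_eq_true rfl) rfl

theorem c666 : Block F al 0 85376 48955 :=
  block_comb c665 b666 (Nat.zero_le _) (Nat.le_of_ble_eq_true rfl) rfl

theorem c667 : Block F al 0 85504 49080 :=
  block_comb c666 b667 (Nat.zero_le _) (Nat.le_of_ble_eq_true rfl) rfl

theorem c668 : Block F al 0 85632 49166 :=
  block_comb c667 b668 (Nat.zero_le _) (Nat.le_of_ble_eq_true rfl) rfl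

theorem c669 : Block F al 0 85760 49235 :=
  block_comb c668 b669 (Nat.zero_le _) (Nat.le_of_ble_eq_true rfl) rfl

theorem c670 : Block F al 0 85888 49288 :=
  block_comb c669 b670 (Nat.zero_le _) (Nat.le_of_ble_eq_true rfl) rfl

theorem c671 : Block F al 0 86016 49392 :=
  block_comb c670 b671 (Nat.zero_le _) (Nat.le_of_ble_eq_true rfl) rfl

theorem c672 : Block F al 0 86144 49423 :=
  block_comb c671 b672 (Nat.zero_le _) (Nat.le_of_ble_eq_true rfl) rfl

theorem c673 : Block F al 0 86272 49511 :=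
  block_comb c672 b673 (Nat.zero_le _) (Nat.le_of_ble_eq_true rfl) rfl

theorem c674 : Block F al 0 86400 49634 :=
  block_comb c673 b674 (Nat.zero_le _) (Nat.le_of_ble_eq_true rfl) rfl

theorem c675 : Block F al 0 86528 49741 :=
  block_comb c674 b675 (Nat.zero_le _) (Nat.le_of_ble_eq_true rfl) rfl

theorem c676 : Block F al 0 86656 49863 :=
  block_comb c675 b676 (Nat.zero_le _) (Nat.le_of_ble_eq_true rfl) rfl

theorem c677 : Block F al 0 86784 49967 :=
  block_comb c676 b677 (Nat.zero_le _) (Nat.le_of_ble_eq_true rfl) rfl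

theorem c678 : Block F al 0 86912 50046 :=
  block_comb c677 b678 (Nat.zero_le _) (Nat.le_of_ble_eq_true rfl) rfl

theorem c679 : Block F al 0 87040 50167 :=
  block_comb c678 b679 (Nat.zero_le _) (Nat.le_of_ble_eq_true rfl) rfl

theorem c680 : Block F al 0 87168 50258 :=
  block_comb c679 b680 (Nat.zero_le _) (Nat.le_of_ble_eq_true rfl) rfl

theorem c681 : Block F al 0 87296 50350 :=
  block_comb c680 b681 (Nat.zero_le _) (Nat.le_of_ble_eq_true rfl) rfl

theorem c682 : Block F al 0 87424 50439 :=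
  block_comb c681 b682 (Nat.zero_le _) (Nat.le_of_ble_eq_true rfl) rfl

theorem c683 : Block F al 0 87552 50499 :=
  block_comb c682 b683 (Nat.zero_le _) (Nat.le_of_ble_eq_true rfl) rfl

theorem c684 : Block F al 0 87680 50607 :=
  block_comb c683 b684 (Nat.zero_le _) (Nat.le_of_ble_eq_true rfl) rfl

theorem c685 : Block F al 0 87808 50615 :=
  block_comb c684 b685 (Nat.zero_le _) (Nat.le_of_ble_eq_true rfl) rfl

theorem c686 : Block F al 0 87936 50629 :=
  block_comb c685 b686 (Nat.zero_le _) (Nat.le_of_ble_eq_true rfl) rfl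

theorem c687 : Block F al 0 88064 50669 :=
  block_comb c686 b687 (Nat.zero_le _) (Nat.le_of_ble_eq_true rfl) rfl

theorem c688 : Block F al 0 88192 50671 :=
  block_comb c687 b688 (Nat.zero_le _) (Nat.le_of_ble_eq_true rfl) rfl

theorem c689 : Block F al 0 88320 50696 :=
  block_comb c688 b689 (Nat.zero_le _) (Nat.le_of_ble_eq_true rfl) rfl

theorem c690 : Block F al 0 88448 50772 :=
  block_comb c689 b690 (Nat.zero_le _) (Nat.le_of_ble_eq_true rfl) rfl

theorem c691 : Block F al 0 88576 50772 :=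
  block_comb c690 b691 (Nat.zero_le _) (Nat.le_of_ble_eq_true rfl) rfl

theorem c692 : Block F al 0 88704 50774 :=
  block_comb c691 b692 (Nat.zero_le _) (Nat.le_of_ble_eq_true rfl) rfl

theorem c693 : Block F al 0 88832 50777 :=
  block_comb c692 b693 (Nat.zero_le _) (Nat.le_of_ble_eq_true rfl) rfl

theorem c694 : Block F al 0 88960 50804 :=
  block_comb c693 b694 (Nat.zero_le _) (Nat.le_of_ble_eq_true rfl) rfl

theorem c695 : Block F al 0 89088 50838 :=
  block_comb c694 b695 (Nat.zero_le _) (Nat.le_of_ble_eq_true rfl) rfl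

theorem c696 : Block F al 0 89216 50880 :=
  block_comb c695 b696 (Nat.zero_le _) (Nat.le_of_ble_eq_true rfl) rfl

theorem c697 : Block F al 0 89344 50924 :=
  block_comb c696 b697 (Nat.zero_le _) (Nat.le_of_ble_eq_true rfl) rfl

theorem c698 : Block F al 0 89472 50973 :=
  block_comb c697 b698 (Nat.zero_le _) (Nat.le_of_ble_eq_true rfl) rfl

theorem c699 : Block F al 0 89600 50987 :=
  block_comb c698 b699 (Nat.zero_le _) (Nat.le_of_ble_eq_true rfl) rfl

theorem c700 : Block F al 0 89728 51049 :=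
  block_comb c699 b700 (Nat.zero_le _) (Nat.le_of_ble_eq_true rfl) rfl

theorem c701 : Block F al 0 89856 51067 :=
  block_comb c700 b701 (Nat.zero_le _) (Nat.le_of_ble_eq_true rfl) rfl

theorem c702 : Block F al 0 89984 51098 :=
  block_comb c701 b702 (Nat.zero_le _) (Nat.le_of_ble_eq_true rfl) rfl

theorem c703 : Block F al 0 90112 51127 :=
  block_comb c702 b703 (Nat.zero_le _) (Nat.le_of_ble_eq_true rfl) rfl

theorem c704 : Block F al 0 90240 51136 :=
  block_comb c703 b704 (Nat.zero_le _) (Nat.le_of_ble_eq_true rfl) rfl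

theorem c705 : Block F al 0 90368 51143 :=
  block_comb c704 b705 (Nat.zero_le _) (Nat.le_of_ble_eq_true rfl) rfl

theorem c706 : Block F al 0 90496 51145 :=
  block_comb c705 b706 (Nat.zero_le _) (Nat.le_of_ble_eq_true rfl) rfl

theorem c707 : Block F al 0 90624 51148 :=
  block_comb c706 b707 (Nat.zero_le _) (Nat.le_of_ble_eq_true rfl) rfl

theorem c708 : Block F al 0 90752 51256 :=
  block_comb c707 b708 (Nat.zero_le _) (Nat.le_of_ble_eq_true rfl) rfl

theorem c709 : Block F al 0 90880 51335 :=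
  block_comb c708 b709 (Nat.zero_le _) (Nat.le_of_ble_eq_true rfl) rfl

theorem c710 : Block F al 0 91008 51428 :=
  block_comb c709 b710 (Nat.zero_le _) (Nat.le_of_ble_eq_true rfl) rfl

theorem c711 : Block F al 0 91136 51527 :=
  block_comb c710 b711 (Nat.zero_le _) (Nat.le_of_ble_eq_true rfl) rfl

theorem c712 : Block F al 0 91264 51582 :=
  block_comb c711 b712 (Nat.zero_le _) (Nat.le_of_ble_eq_true rfl) rfl

theorem c713 : Block F al 0 91392 51602 :=
  block_comb c712 b713 (Nat.zero_le _) (Nat.le_of_ble_eq_true rfl) rfl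

theorem c714 : Block F al 0 91520 51646 :=
  block_comb c713 b714 (Nat.zero_le _) (Nat.le_of_ble_eq_true rfl) rfl

theorem c715 : Block F al 0 91648 51742 :=
  block_comb c714 b715 (Nat.zero_le _) (Nat.le_of_ble_eq_true rfl) rfl

theorem c716 : Block F al 0 91776 51787 :=
  block_comb c715 b716 (Nat.zero_le _) (Nat.le_of_ble_eq_true rfl) rfl

theorem c717 : Block F al 0 91904 51855 :=
  block_comb c716 b717 (Nat.zero_le _) (Nat.le_of_ble_eq_true rfl) rfl

theorem c718 : Block F al 0 92032 51905 :=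
  block_comb c717 b718 (Nat.zero_le _) (Nat.le_of_ble_eq_true rfl) rfl

theorem c719 : Block F al 0 92160 51939 :=
  block_comb c718 b719 (Nat.zero_le _) (Nat.le_of_ble_eq_true rfl) rfl

theorem c720 : Block F al 0 92288 51963 :=
  block_comb c719 b720 (Nat.zero_le _) (Nat.le_of_ble_eq_true rfl) rfl

theorem c721 : Block F al 0 92416 51963 :=
  block_comb c720 b721 (Nat.zero_le _) (Nat.le_of_ble_eq_true rfl) rfl

theorem c722 : Block F al 0 92544 51963 :=
  block_comb c721 b722 (Nat.zero_le _) (Nat.le_of_ble_eq_true rfl) rfl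

theorem c723 : Block F al 0 92672 51963 :=
  block_comb c722 b723 (Nat.zero_le _) (Nat.le_of_ble_eq_true rfl) rfl

theorem c724 : Block F al 0 92800 51969 :=
  block_comb c723 b724 (Nat.zero_le _) (Nat.le_of_ble_eq_true rfl) rfl

theorem c725 : Block F al 0 92928 51974 :=
  block_comb c724 b725 (Nat.zero_le _) (Nat.le_of_ble_eq_true rfl) rfl

theorem c726 : Block F al 0 93056 51992 :=
  block_comb c725 b726 (Nat.zero_le _) (Nat.le_of_ble_eq_true rfl) rfl

theorem c727 : Block F al 0 93184 51997 :=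
  block_comb c726 b727 (Nat.zero_le _) (Nat.le_of_ble_eq_true rfl) rfl

theorem c728 : Block F al 0 93312 52008 :=
  block_comb c727 b728 (Nat.zero_le _) (Nat.le_of_ble_eq_true rfl) rfl

theorem c729 : Block F al 0 93440 52022 :=
  block_comb c728 b729 (Nat.zero_le _) (Nat.le_of_ble_eq_true rfl) rfl

theorem c730 : Block F al 0 93568 52076 :=
  block_comb c729 b730 (Nat.zero_le _) (Nat.le_of_ble_eq_true rfl) rfl

theorem c731 : Block F al 0 93696 52178 :=
  block_comb c730 b731 (Nat.zero_le _) (Nat.le_of_ble_eq_true rfl) rfl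

theorem c732 : Block F al 0 93824 52298 :=
  block_comb c731 b732 (Nat.zero_le _) (Nat.le_of_ble_eq_true rfl) rfl

theorem c733 : Block F al 0 93952 52371 :=
  block_comb c732 b733 (Nat.zero_le _) (Nat.le_of_ble_eq_true rfl) rfl

theorem c734 : Block F al 0 94080 52444 :=
  block_comb c733 b734 (Nat.zero_le _) (Nat.le_of_ble_eq_true rfl) rfl

theorem c735 : Block F al 0 94208 52517 :=
  block_comb c734 b735 (Nat.zero_le _) (Nat.le_of_ble_eq_true rfl) rfl

theorem c736 : Block F al 0 94336 52645 :=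
  block_comb c735 b736 (Nat.zero_le _) (Nat.le_of_ble_eq_true rfl) rfl

theorem c737 : Block F al 0 94464 52772 :=
  block_comb c736 b737 (Nat.zero_le _) (Nat.le_of_ble_eq_true rfl) rfl

theorem c738 : Block F al 0 94592 52885 :=
  block_comb c737 b738 (Nat.zero_le _) (Nat.le_of_ble_eq_true rfl) rfl

theorem c739 : Block F al 0 94720 53000 :=
  block_comb c738 b739 (Nat.zero_le _) (Nat.le_of_ble_eq_true rfl) rfl

theorem c740 : Block F al 0 94848 53064 :=
  block_comb c739 b740 (Nat.zero_le _) (Nat.le_of_ble_eq_true rfl) rfl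

theorem c741 : Block F al 0 94976 53099 :=
  block_comb c740 b741 (Nat.zero_le _) (Nat.le_of_ble_eq_true rfl) rfl

theorem c742 : Block F al 0 95104 53153 :=
  block_comb c741 b742 (Nat.zero_le _) (Nat.le_of_ble_eq_true rfl) rfl

theorem c743 : Block F al 0 95232 53239 :=
  block_comb c742 b743 (Nat.zero_le _) (Nat.le_of_ble_eq_true rfl) rfl

theorem c744 : Block F al 0 95360 53306 :=
  block_comb c743 b744 (Nat.zero_le _) (Nat.le_of_ble_eq_true rfl) rfl

theorem c745 : Block F al 0 95488 53433 :=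
  block_comb c744 b745 (Nat.zero_le _) (Nat.le_of_ble_eq_true rfl) rfl

theorem c746 : Block F al 0 95616 53558 :=
  block_comb c745 b746 (Nat.zero_le _) (Nat.le_of_ble_eq_true rfl) rfl

theorem c747 : Block F al 0 95744 53684 :=
  block_comb c746 b747 (Nat.zero_le _) (Nat.le_of_ble_eq_true rfl) rfl

theorem c748 : Block F al 0 95872 53811 :=
  block_comb c747 b748 (Nat.zero_le _) (Nat.le_of_ble_eq_true rfl) rfl

theorem c749 : Block F al 0 96000 53868 :=
  block_comb c748 b749 (Nat.zero_le _) (Nat.le_of_ble_eq_true rfl) rfl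

theorem c750 : Block F al 0 96128 53930 :=
  block_comb c749 b750 (Nat.zero_le _) (Nat.le_of_ble_eq_true rfl) rfl

theorem c751 : Block F al 0 96256 53979 :=
  block_comb c750 b751 (Nat.zero_le _) (Nat.le_of_ble_eq_true rfl) rfl

theorem c752 : Block F al 0 96384 54066 :=
  block_comb c751 b752 (Nat.zero_le _) (Nat.le_of_ble_eq_true rfl) rfl

theorem c753 : Block F al 0 96512 54192 :=
  block_comb c752 b753 (Nat.zero_le _) (Nat.le_of_ble_eq_true rfl) rfl

theorem c754 : Block F al 0 96640 54265 :=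
  block_comb c753 b754 (Nat.zero_le _) (Nat.le_of_ble_eq_true rfl) rfl

theorem c755 : Block F al 0 96768 54321 :=
  block_comb c754 b755 (Nat.zero_le _) (Nat.le_of_ble_eq_true rfl) rfl

theorem c756 : Block F al 0 96896 54419 :=
  block_comb c755 b756 (Nat.zero_le _) (Nat.le_of_ble_eq_true rfl) rfl

theorem c757 : Block F al 0 97024 54543 :=
  block_comb c756 b757 (Nat.zero_le _) (Nat.le_of_ble_eq_true rfl) rfl

theorem c758 : Block F al 0 97152 54668 :=
  block_comb c757 b758 (Nat.zero_le _) (Nat.le_of_ble_eq_true rfl) rfl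

theorem c759 : Block F al 0 97280 54793 :=
  block_comb c758 b759 (Nat.zero_le _) (Nat.le_of_ble_eq_true rfl) rfl

theorem c760 : Block F al 0 97408 54905 :=
  block_comb c759 b760 (Nat.zero_le _) (Nat.le_of_ble_eq_true rfl) rfl

theorem c761 : Block F al 0 97536 55027 :=
  block_comb c760 b761 (Nat.zero_le _) (Nat.le_of_ble_eq_true rfl) rfl

theorem c762 : Block F al 0 97664 55148 :=
  block_comb c761 b762 (Nat.zero_le _) (Nat.le_of_ble_eq_true rfl) rfl

theorem c763 : Block F al 0 97792 55259 :=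
  block_comb c762 b763 (Nat.zero_le _) (Nat.le_of_ble_eq_true rfl) rfl

theorem c764 : Block F al 0 97920 55356 :=
  block_comb c763 b764 (Nat.zero_le _) (Nat.le_of_ble_eq_true rfl) rfl

theorem c765 : Block F al 0 98048 55470 :=
  block_comb c764 b765 (Nat.zero_le _) (Nat.le_of_ble_eq_true rfl) rfl

theorem c766 : Block F al 0 98176 55589 :=
  block_comb c765 b766 (Nat.zero_le _) (Nat.le_of_ble_eq_true rfl) rfl

theorem c767 : Block F al 0 98304 55688 :=
  block_comb c766 b767 (Nat.zero_le _) (Nat.le_of_ble_eq_true rfl) rfl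

theorem c768 : Block F al 0 98432 55747 :=
  block_comb c767 b768 (Nat.zero_le _) (Nat.le_of_ble_eq_true rfl) rfl

theorem c769 : Block F al 0 98560 55843 :=
  block_comb c768 b769 (Nat.zero_le _) (Nat.le_of_ble_eq_true rfl) rfl

theorem c770 : Block F al 0 98688 55963 :=
  block_comb c769 b770 (Nat.zero_le _) (Nat.le_of_ble_eq_true rfl) rfl

theorem c771 : Block F al 0 98816 55999 :=
  block_comb c770 b771 (Nat.zero_le _) (Nat.le_of_ble_eq_true rfl) rfl

theorem c772 : Block F al 0 98944 56089 :=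
  block_comb c771 b772 (Nat.zero_le _) (Nat.le_of_ble_eq_true rfl) rfl

theorem c773 : Block F al 0 99072 56186 :=
  block_comb c772 b773 (Nat.zero_le _) (Nat.le_of_ble_eq_true rfl) rfl

theorem c774 : Block F al 0 99200 56211 :=
  block_comb c773 b774 (Nat.zero_le _) (Nat.le_of_ble_eq_true rfl) rfl

theorem c775 : Block F al 0 99328 56211 :=
  block_comb c774 b775 (Nat.zero_le _) (Nat.le_of_ble_eq_true rfl) rfl

theorem c776 : Block F al 0 99456 56223 :=
  block_comb c775 b776 (Nat.zero_le _) (Nat.le_of_ble_eq_true rfl) rfl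

theorem c777 : Block F al 0 99584 56237 :=
  block_comb c776 b777 (Nat.zero_le _) (Nat.le_of_ble_eq_true rfl) rfl

theorem c778 : Block F al 0 99712 56238 :=
  block_comb c777 b778 (Nat.zero_le _) (Nat.le_of_ble_eq_true rfl) rfl

theorem c779 : Block F al 0 99840 56238 :=
  block_comb c778 b779 (Nat.zero_le _) (Nat.le_of_ble_eq_true rfl) rfl

theorem c780 : Block F al 0 99968 56268 :=
  block_comb c779 b780 (Nat.zero_le _) (Nat.le_of_ble_eq_true rfl) rfl

theorem c781 : Block F al 0 100096 56319 :=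
  block_comb c780 b781 (Nat.zero_le _) (Nat.le_of_ble_eq_true rfl) rfl

theorem c782 : Block F al 0 100224 56404 :=
  block_comb c781 b782 (Nat.zero_le _) (Nat.le_of_ble_eq_true rfl) rfl

theorem c783 : Block F al 0 100352 56425 :=
  block_comb c782 b783 (Nat.zero_le _) (Nat.le_of_ble_eq_true rfl) rfl

theorem c784 : Block F al 0 100480 56425 :=
  block_comb c783 b784 (Nat.zero_le _) (Nat.le_of_ble_eq_true rfl) rfl

theorem c785 : Block F al 0 100608 56425 :=
  block_comb c784 b785 (Nat.zero_le _) (Nat.le_of_ble_eq_true rfl) rfl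

theorem c786 : Block F al 0 100736 56436 :=
  block_comb c785 b786 (Nat.zero_le _) (Nat.le_of_ble_eq_true rfl) rfl

theorem c787 : Block F al 0 100864 56444 :=
  block_comb c786 b787 (Nat.zero_le _) (Nat.le_of_ble_eq_true rfl) rfl

theorem c788 : Block F al 0 100992 56495 :=
  block_comb c787 b788 (Nat.zero_le _) (Nat.le_of_ble_eq_true rfl) rfl

theorem c789 : Block F al 0 101120 56540 :=
  block_comb c788 b789 (Nat.zero_le _) (Nat.le_of_ble_eq_true rfl) rfl

theorem c790 : Block F al 0 101248 56584 :=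
  block_comb c789 b790 (Nat.zero_le _) (Nat.le_of_ble_eq_true rfl) rfl

theorem c791 : Block F al 0 101376 56651 :=
  block_comb c790 b791 (Nat.zero_le _) (Nat.le_of_ble_eq_true rfl) rfl

theorem c792 : Block F al 0 101504 56683 :=
  block_comb c791 b792 (Nat.zero_le _) (Nat.le_of_ble_eq_true rfl) rfl

theorem c793 : Block F al 0 101632 56757 :=
  block_comb c792 b793 (Nat.zero_le _) (Nat.le_of_ble_eq_true rfl) rfl

theorem c794 : Block F al 0 101760 56817 :=
  block_comb c793 b794 (Nat.zero_le _) (Nat.le_of_ble_eq_true rfl) rfl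

theorem c795 : Block F al 0 101888 56849 :=
  block_comb c794 b795 (Nat.zero_le _) (Nat.le_of_ble_eq_true rfl) rfl

theorem c796 : Block F al 0 102016 56863 :=
  block_comb c795 b796 (Nat.zero_le _) (Nat.le_of_ble_eq_true rfl) rfl

theorem c797 : Block F al 0 102144 56899 :=
  block_comb c796 b797 (Nat.zero_le _) (Nat.le_of_ble_eq_true rfl) rfl

theorem c798 : Block F al 0 102272 56962 :=
  block_comb c797 b798 (Nat.zero_le _) (Nat.le_of_ble_eq_true rfl) rfl

theorem c799 : Block F al 0 102400 57013 :=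
  block_comb c798 b799 (Nat.zero_le _) (Nat.le_of_ble_eq_true rfl) rfl

theorem c800 : Block F al 0 102528 57044 :=
  block_comb c799 b800 (Nat.zero_le _) (Nat.le_of_ble_eq_true rfl) rfl

theorem c801 : Block F al 0 102656 57053 :=
  block_comb c800 b801 (Nat.zero_le _) (Nat.le_of_ble_eq_true rfl) rfl

theorem c802 : Block F al 0 102784 57081 :=
  block_comb c801 b802 (Nat.zero_le _) (Nat.le_of_ble_eq_true rfl) rfl

theorem c803 : Block F al 0 102912 57101 :=
  block_comb c802 b803 (Nat.zero_le _) (Nat.le_of_ble_eq_true rfl) rfl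

theorem c804 : Block F al 0 103040 57108 :=
  block_comb c803 b804 (Nat.zero_le _) (Nat.le_of_ble_eq_true rfl) rfl

theorem c805 : Block F al 0 103168 57124 :=
  block_comb c804 b805 (Nat.zero_le _) (Nat.le_of_ble_eq_true rfl) rfl

theorem c806 : Block F al 0 103296 57124 :=
  block_comb c805 b806 (Nat.zero_le _) (Nat.le_of_ble_eq_true rfl) rfl

theorem c807 : Block F al 0 103424 57125 :=
  block_comb c806 b807 (Nat.zero_le _) (Nat.le_of_ble_eq_true rfl) rfl

theorem c808 : Block F al 0 103552 57125 :=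
  block_comb c807 b808 (Nat.zero_le _) (Nat.le_of_ble_eq_true rfl) rfl

theorem c809 : Block F al 0 103680 57163 :=
  block_comb c808 b809 (Nat.zero_le _) (Nat.le_of_ble_eq_true rfl) rfl

theorem c810 : Block F al 0 103808 57200 :=
  block_comb c809 b810 (Nat.zero_le _) (Nat.le_of_ble_eq_true rfl) rfl

theorem c811 : Block F al 0 103936 57305 :=
  block_comb c810 b811 (Nat.zero_le _) (Nat.le_of_ble_eq_true rfl) rfl

theorem c812 : Block F al 0 104064 57391 :=
  block_comb c811 b812 (Nat.zero_le _) (Nat.le_of_ble_eq_true rfl) rfl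

theorem c813 : Block F al 0 104192 57403 :=
  block_comb c812 b813 (Nat.zero_le _) (Nat.le_of_ble_eq_true rfl) rfl

theorem c814 : Block F al 0 104320 57492 :=
  block_comb c813 b814 (Nat.zero_le _) (Nat.le_of_ble_eq_true rfl) rfl

theorem c815 : Block F al 0 104448 57606 :=
  block_comb c814 b815 (Nat.zero_le _) (Nat.le_of_ble_eq_true rfl) rfl

theorem c816 : Block F al 0 104576 57674 :=
  block_comb c815 b816 (Nat.zero_le _) (Nat.le_of_ble_eq_true rfl) rfl

theorem c817 : Block F al 0 104704 57692 :=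
  block_comb c816 b817 (Nat.zero_le _) (Nat.le_of_ble_eq_true rfl) rfl

theorem c818 : Block F al 0 104832 57723 :=
  block_comb c817 b818 (Nat.zero_le _) (Nat.le_of_ble_eq_true rfl) rfl

theorem c819 : Block F al 0 104960 57813 :=
  block_comb c818 b819 (Nat.zero_le _) (Nat.le_of_ble_eq_true rfl) rfl

theorem c820 : Block F al 0 105088 57910 :=
  block_comb c819 b820 (Nat.zero_le _) (Nat.le_of_ble_eq_true rfl) rfl

theorem c821 : Block F al 0 105216 57994 :=
  block_comb c820 b821 (Nat.zero_le _) (Nat.le_of_ble_eq_true rfl) rfl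

theorem c822 : Block F al 0 105344 58038 :=
  block_comb c821 b822 (Nat.zero_le _) (Nat.le_of_ble_eq_true rfl) rfl

theorem c823 : Block F al 0 105472 58120 :=
  block_comb c822 b823 (Nat.zero_le _) (Nat.le_of_ble_eq_true rfl) rfl

theorem c824 : Block F al 0 105600 58213 :=
  block_comb c823 b824 (Nat.zero_le _) (Nat.le_of_ble_eq_true rfl) rfl

theorem c825 : Block F al 0 105728 58242 :=
  block_comb c824 b825 (Nat.zero_le _) (Nat.le_of_ble_eq_true rfl) rfl

theorem c826 : Block F al 0 105856 58276 :=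
  block_comb c825 b826 (Nat.zero_le _) (Nat.le_of_ble_eq_true rfl) rfl

theorem c827 : Block F al 0 105984 58318 :=
  block_comb c826 b827 (Nat.zero_le _) (Nat.le_of_ble_eq_true rfl) rfl

theorem c828 : Block F al 0 106112 58318 :=
  block_comb c827 b828 (Nat.zero_le _) (Nat.le_of_ble_eq_true rfl) rfl

theorem c829 : Block F al 0 106240 58318 :=
  block_comb c828 b829 (Nat.zero_le _) (Nat.le_of_ble_eq_true rfl) rfl

theorem c830 : Block F al 0 106368 58318 :=
  block_comb c829 b830 (Nat.zero_le _) (Nat.le_of_ble_eq_true rfl) rfl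

theorem c831 : Block F al 0 106496 58318 :=
  block_comb c830 b831 (Nat.zero_le _) (Nat.le_of_ble_eq_true rfl) rfl

theorem c832 : Block F al 0 106624 58324 :=
  block_comb c831 b832 (Nat.zero_le _) (Nat.le_of_ble_eq_true rfl) rfl

theorem c833 : Block F al 0 106752 58346 :=
  block_comb c832 b833 (Nat.zero_le _) (Nat.le_of_ble_eq_true rfl) rfl

theorem c834 : Block F al 0 106880 58348 :=
  block_comb c833 b834 (Nat.zero_le _) (Nat.le_of_ble_eq_true rfl) rfl

theorem c835 : Block F al 0 107008 58361 :=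
  block_comb c834 b835 (Nat.zero_le _) (Nat.le_of_ble_eq_true rfl) rfl

theorem c836 : Block F al 0 107136 58385 :=
  block_comb c835 b836 (Nat.zero_le _) (Nat.le_of_ble_eq_true rfl) rfl

theorem c837 : Block F al 0 107264 58391 :=
  block_comb c836 b837 (Nat.zero_le _) (Nat.le_of_ble_eq_true rfl) rfl

theorem c838 : Block F al 0 107392 58400 :=
  block_comb c837 b838 (Nat.zero_le _) (Nat.le_of_ble_eq_true rfl) rfl

theorem c839 : Block F al 0 107520 58400 :=
  block_comb c838 b839 (Nat.zero_le _) (Nat.le_of_ble_eq_true rfl) rfl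

theorem c840 : Block F al 0 107648 58400 :=
  block_comb c839 b840 (Nat.zero_le _) (Nat.le_of_ble_eq_true rfl) rfl

theorem c841 : Block F al 0 107776 58401 :=
  block_comb c840 b841 (Nat.zero_le _) (Nat.le_of_ble_eq_true rfl) rfl

theorem c842 : Block F al 0 107904 58407 :=
  block_comb c841 b842 (Nat.zero_le _) (Nat.le_of_ble_eq_true rfl) rfl

theorem c843 : Block F al 0 108032 58411 :=
  block_comb c842 b843 (Nat.zero_le _) (Nat.le_of_ble_eq_true rfl) rfl

theorem c844 : Block F al 0 108160 58411 :=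
  block_comb c843 b844 (Nat.zero_le _) (Nat.le_of_ble_eq_true rfl) rfl

theorem c845 : Block F al 0 108288 58411 :=
  block_comb c844 b845 (Nat.zero_le _) (Nat.le_of_ble_eq_true rfl) rfl

theorem c846 : Block F al 0 108416 58411 :=
  block_comb c845 b846 (Nat.zero_le _) (Nat.le_of_ble_eq_true rfl) rfl

theorem c847 : Block F al 0 108544 58411 :=
  block_comb c846 b847 (Nat.zero_le _) (Nat.le_of_ble_eq_true rfl) rfl

theorem c848 : Block F al 0 108672 58411 :=
  block_comb c847 b848 (Nat.zero_le _) (Nat.le_of_ble_eq_true rfl) rfl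

theorem c849 : Block F al 0 108800 58411 :=
  block_comb c848 b849 (Nat.zero_le _) (Nat.le_of_ble_eq_true rfl) rfl

theorem c850 : Block F al 0 108928 58411 :=
  block_comb c849 b850 (Nat.zero_le _) (Nat.le_of_ble_eq_true rfl) rfl

theorem c851 : Block F al 0 109056 58411 :=
  block_comb c850 b851 (Nat.zero_le _) (Nat.le_of_ble_eq_true rfl) rfl

theorem c852 : Block F al 0 109184 58411 :=
  block_comb c851 b852 (Nat.zero_le _) (Nat.le_of_ble_eq_true rfl) rfl

theorem c853 : Block F al 0 109312 58411 :=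
  block_comb c852 b853 (Nat.zero_le _) (Nat.le_of_ble_eq_true rfl) rfl

theorem c854 : Block F al 0 109440 58411 :=
  block_comb c853 b854 (Nat.zero_le _) (Nat.le_of_ble_eq_true rfl) rfl

theorem c855 : Block F al 0 109568 58411 :=
  block_comb c854 b855 (Nat.zero_le _) (Nat.le_of_ble_eq_true rfl) rfl

theorem c856 : Block F al 0 109696 58422 :=
  block_comb c855 b856 (Nat.zero_le _) (Nat.le_of_ble_eq_true rfl) rfl

theorem c857 : Block F al 0 109824 58504 :=
  block_comb c856 b857 (Nat.zero_le _) (Nat.le_of_ble_eq_true rfl) rfl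

theorem c858 : Block F al 0 109952 58568 :=
  block_comb c857 b858 (Nat.zero_le _) (Nat.le_of_ble_eq_true rfl) rfl

theorem c859 : Block F al 0 110080 58670 :=
  block_comb c858 b859 (Nat.zero_le _) (Nat.le_of_ble_eq_true rfl) rfl

theorem c860 : Block F al 0 110208 58756 :=
  block_comb c859 b860 (Nat.zero_le _) (Nat.le_of_ble_eq_true rfl) rfl

theorem c861 : Block F al 0 110336 58861 :=
  block_comb c860 b861 (Nat.zero_le _) (Nat.le_of_ble_eq_true rfl) rfl

theorem c862 : Block F al 0 110464 58890 :=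
  block_comb c861 b862 (Nat.zero_le _) (Nat.le_of_ble_eq_true rfl) rfl

theorem c863 : Block F al 0 110592 58922 :=
  block_comb c862 b863 (Nat.zero_le _) (Nat.le_of_ble_eq_true rfl) rfl

theorem c864 : Block F al 0 110720 58996 :=
  block_comb c863 b864 (Nat.zero_le _) (Nat.le_of_ble_eq_true rfl) rfl

theorem c865 : Block F al 0 110848 59021 :=
  block_comb c864 b865 (Nat.zero_le _) (Nat.le_of_ble_eq_true rfl) rfl

theorem c866 : Block F al 0 110976 59054 :=
  block_comb c865 b866 (Nat.zero_le _) (Nat.le_of_ble_eq_true rfl) rfl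

theorem c867 : Block F al 0 111104 59145 :=
  block_comb c866 b867 (Nat.zero_le _) (Nat.le_of_ble_eq_true rfl) rfl

theorem c868 : Block F al 0 111232 59218 :=
  block_comb c867 b868 (Nat.zero_le _) (Nat.le_of_ble_eq_true rfl) rfl

theorem c869 : Block F al 0 111360 59311 :=
  block_comb c868 b869 (Nat.zero_le _) (Nat.le_of_ble_eq_true rfl) rfl

theorem c870 : Block F al 0 111488 59361 :=
  block_comb c869 b870 (Nat.zero_le _) (Nat.le_of_ble_eq_true rfl) rfl

theorem c871 : Block F al 0 111616 59438 :=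
  block_comb c870 b871 (Nat.zero_le _) (Nat.le_of_ble_eq_true rfl) rfl

theorem c872 : Block F al 0 111744 59488 :=
  block_comb c871 b872 (Nat.zero_le _) (Nat.le_of_ble_eq_true rfl) rfl

theorem c873 : Block F al 0 111872 59561 :=
  block_comb c872 b873 (Nat.zero_le _) (Nat.le_of_ble_eq_true rfl) rfl

theorem c874 : Block F al 0 112000 59602 :=
  block_comb c873 b874 (Nat.zero_le _) (Nat.le_of_ble_eq_true rfl) rfl

theorem c875 : Block F al 0 112128 59654 :=
  block_comb c874 b875 (Nat.zero_le _) (Nat.le_of_ble_eq_true rfl) rfl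

theorem c876 : Block F al 0 112256 59686 :=
  block_comb c875 b876 (Nat.zero_le _) (Nat.le_of_ble_eq_true rfl) rfl

theorem c877 : Block F al 0 112384 59686 :=
  block_comb c876 b877 (Nat.zero_le _) (Nat.le_of_ble_eq_true rfl) rfl

theorem c878 : Block F al 0 112512 59703 :=
  block_comb c877 b878 (Nat.zero_le _) (Nat.le_of_ble_eq_true rfl) rfl

theorem c879 : Block F al 0 112640 59708 :=
  block_comb c878 b879 (Nat.zero_le _) (Nat.le_of_ble_eq_true rfl) rfl

theorem c880 : Block F al 0 112768 59712 :=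
  block_comb c879 b880 (Nat.zero_le _) (Nat.le_of_ble_eq_true rfl) rfl

theorem c881 : Block F al 0 112896 59735 :=
  block_comb c880 b881 (Nat.zero_le _) (Nat.le_of_ble_eq_true rfl) rfl

theorem c882 : Block F al 0 113024 59744 :=
  block_comb c881 b882 (Nat.zero_le _) (Nat.le_of_ble_eq_true rfl) rfl

theorem c883 : Block F al 0 113152 59744 :=
  block_comb c882 b883 (Nat.zero_le _) (Nat.le_of_ble_eq_true rfl) rfl

theorem c884 : Block F al 0 113280 59744 :=
  block_comb c883 b884 (Nat.zero_le _) (Nat.le_of_ble_eq_true rfl) rfl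

theorem c885 : Block F al 0 113408 59748 :=
  block_comb c884 b885 (Nat.zero_le _) (Nat.le_of_ble_eq_true rfl) rfl

theorem c886 : Block F al 0 113536 59758 :=
  block_comb c885 b886 (Nat.zero_le _) (Nat.le_of_ble_eq_true rfl) rfl

theorem c887 : Block F al 0 113664 59770 :=
  block_comb c886 b887 (Nat.zero_le _) (Nat.le_of_ble_eq_true rfl) rfl

theorem c888 : Block F al 0 113792 59786 :=
  block_comb c887 b888 (Nat.zero_le _) (Nat.le_of_ble_eq_true rfl) rfl

theorem c889 : Block F al 0 113920 59799 :=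
  block_comb c888 b889 (Nat.zero_le _) (Nat.le_of_ble_eq_true rfl) rfl

theorem c890 : Block F al 0 114048 59800 :=
  block_comb c889 b890 (Nat.zero_le _) (Nat.le_of_ble_eq_true rfl) rfl

theorem c891 : Block F al 0 114176 59809 :=
  block_comb c890 b891 (Nat.zero_le _) (Nat.le_of_ble_eq_true rfl) rfl

theorem c892 : Block F al 0 114304 59812 :=
  block_comb c891 b892 (Nat.zero_le _) (Nat.le_of_ble_eq_true rfl) rfl

theorem c893 : Block F al 0 114432 59812 :=
  block_comb c892 b893 (Nat.zero_le _) (Nat.le_of_ble_eq_true rfl) rfl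

theorem c894 : Block F al 0 114560 59812 :=
  block_comb c893 b894 (Nat.zero_le _) (Nat.le_of_ble_eq_true rfl) rfl

theorem c895 : Block F al 0 114688 59812 :=
  block_comb c894 b895 (Nat.zero_le _) (Nat.le_of_ble_eq_true rfl) rfl

theorem c896 : Block F al 0 114816 59829 :=
  block_comb c895 b896 (Nat.zero_le _) (Nat.le_of_ble_eq_true rfl) rfl

theorem c897 : Block F al 0 114944 59887 :=
  block_comb c896 b897 (Nat.zero_le _) (Nat.le_of_ble_eq_true rfl) rfl

theorem c898 : Block F al 0 115072 59913 :=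
  block_comb c897 b898 (Nat.zero_le _) (Nat.le_of_ble_eq_true rfl) rfl

theorem c899 : Block F al 0 115200 59925 :=
  block_comb c898 b899 (Nat.zero_le _) (Nat.le_of_ble_eq_true rfl) rfl

theorem c900 : Block F al 0 115328 59948 :=
  block_comb c899 b900 (Nat.zero_le _) (Nat.le_of_ble_eq_true rfl) rfl

theorem c901 : Block F al 0 115456 59975 :=
  block_comb c900 b901 (Nat.zero_le _) (Nat.le_of_ble_eq_true rfl) rfl

theorem c902 : Block F al 0 115584 60002 :=
  block_comb c901 b902 (Nat.zero_le _) (Nat.le_of_ble_eq_true rfl) rfl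

theorem c903 : Block F al 0 115712 60006 :=
  block_comb c902 b903 (Nat.zero_le _) (Nat.le_of_ble_eq_true rfl) rfl

theorem c904 : Block F al 0 115840 60012 :=
  block_comb c903 b904 (Nat.zero_le _) (Nat.le_of_ble_eq_true rfl) rfl

theorem c905 : Block F al 0 115968 60012 :=
  block_comb c904 b905 (Nat.zero_le _) (Nat.le_of_ble_eq_true rfl) rfl

theorem c906 : Block F al 0 116096 60012 :=
  block_comb c905 b906 (Nat.zero_le _) (Nat.le_of_ble_eq_true rfl) rfl

theorem c907 : Block F al 0 116224 60012 :=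
  block_comb c906 b907 (Nat.zero_le _) (Nat.le_of_ble_eq_true rfl) rfl

theorem c908 : Block F al 0 116352 60012 :=
  block_comb c907 b908 (Nat.zero_le _) (Nat.le_of_ble_eq_true rfl) rfl

theorem c909 : Block F al 0 116480 60012 :=
  block_comb c908 b909 (Nat.zero_le _) (Nat.le_of_ble_eq_true rfl) rfl

theorem c910 : Block F al 0 116608 60014 :=
  block_comb c909 b910 (Nat.zero_le _) (Nat.le_of_ble_eq_true rfl) rfl

theorem c911 : Block F al 0 116736 60107 :=
  block_comb c910 b911 (Nat.zero_le _) (Nat.le_of_ble_eq_true rfl) rfl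

theorem c912 : Block F al 0 116864 60209 :=
  block_comb c911 b912 (Nat.zero_le _) (Nat.le_of_ble_eq_true rfl) rfl

theorem c913 : Block F al 0 116992 60332 :=
  block_comb c912 b913 (Nat.zero_le _) (Nat.le_of_ble_eq_true rfl) rfl

theorem c914 : Block F al 0 117120 60444 :=
  block_comb c913 b914 (Nat.zero_le _) (Nat.le_of_ble_eq_true rfl) rfl

theorem c915 : Block F al 0 117248 60549 :=
  block_comb c914 b915 (Nat.zero_le _) (Nat.le_of_ble_eq_true rfl) rfl

theorem c916 : Block F al 0 117376 60665 :=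
  block_comb c915 b916 (Nat.zero_le _) (Nat.le_of_ble_eq_true rfl) rfl

theorem c917 : Block F al 0 117504 60739 :=
  block_comb c916 b917 (Nat.zero_le _) (Nat.le_of_ble_eq_true rfl) rfl

theorem c918 : Block F al 0 117632 60787 :=
  block_comb c917 b918 (Nat.zero_le _) (Nat.le_of_ble_eq_true rfl) rfl

theorem c919 : Block F al 0 117760 60856 :=
  block_comb c918 b919 (Nat.zero_le _) (Nat.le_of_ble_eq_true rfl) rfl

theorem c920 : Block F al 0 117888 60959 :=
  block_comb c919 b920 (Nat.zero_le _) (Nat.le_of_ble_eq_true rfl) rfl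

theorem c921 : Block F al 0 118016 61076 :=
  block_comb c920 b921 (Nat.zero_le _) (Nat.le_of_ble_eq_true rfl) rfl

theorem c922 : Block F al 0 118144 61192 :=
  block_comb c921 b922 (Nat.zero_le _) (Nat.le_of_ble_eq_true rfl) rfl

theorem c923 : Block F al 0 118272 61301 :=
  block_comb c922 b923 (Nat.zero_le _) (Nat.le_of_ble_eq_true rfl) rfl

theorem c924 : Block F al 0 118400 61418 :=
  block_comb c923 b924 (Nat.zero_le _) (Nat.le_of_ble_eq_true rfl) rfl

theorem c925 : Block F al 0 118528 61545 :=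
  block_comb c924 b925 (Nat.zero_le _) (Nat.le_of_ble_eq_true rfl) rfl

theorem c926 : Block F al 0 118656 61587 :=
  block_comb c925 b926 (Nat.zero_le _) (Nat.le_of_ble_eq_true rfl) rfl

theorem c927 : Block F al 0 118784 61644 :=
  block_comb c926 b927 (Nat.zero_le _) (Nat.le_of_ble_eq_true rfl) rfl

theorem c928 : Block F al 0 118912 61678 :=
  block_comb c927 b928 (Nat.zero_le _) (Nat.le_of_ble_eq_true rfl) rfl

theorem c929 : Block F al 0 119040 61756 :=
  block_comb c928 b929 (Nat.zero_le _) (Nat.le_of_ble_eq_true rfl) rfl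

theorem c930 : Block F al 0 119168 61880 :=
  block_comb c929 b930 (Nat.zero_le _) (Nat.le_of_ble_eq_true rfl) rfl

theorem c931 : Block F al 0 119296 61902 :=
  block_comb c930 b931 (Nat.zero_le _) (Nat.le_of_ble_eq_true rfl) rfl

theorem c932 : Block F al 0 119424 61950 :=
  block_comb c931 b932 (Nat.zero_le _) (Nat.le_of_ble_eq_true rfl) rfl

theorem c933 : Block F al 0 119552 62022 :=
  block_comb c932 b933 (Nat.zero_le _) (Nat.le_of_ble_eq_true rfl) rfl

theorem c934 : Block F al 0 119680 62140 :=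
  block_comb c933 b934 (Nat.zero_le _) (Nat.le_of_ble_eq_true rfl) rfl

theorem c935 : Block F al 0 119808 62243 :=
  block_comb c934 b935 (Nat.zero_le _) (Nat.le_of_ble_eq_true rfl) rfl

theorem c936 : Block F al 0 119936 62346 :=
  block_comb c935 b936 (Nat.zero_le _) (Nat.le_of_ble_eq_true rfl) rfl

theorem c937 : Block F al 0 120064 62446 :=
  block_comb c936 b937 (Nat.zero_le _) (Nat.le_of_ble_eq_true rfl) rfl

theorem c938 : Block F al 0 120192 62553 :=
  block_comb c937 b938 (Nat.zero_le _) (Nat.le_of_ble_eq_true rfl) rfl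

theorem c939 : Block F al 0 120320 62655 :=
  block_comb c938 b939 (Nat.zero_le _) (Nat.le_of_ble_eq_true rfl) rfl

theorem c940 : Block F al 0 120448 62721 :=
  block_comb c939 b940 (Nat.zero_le _) (Nat.le_of_ble_eq_true rfl) rfl

theorem c941 : Block F al 0 120576 62830 :=
  block_comb c940 b941 (Nat.zero_le _) (Nat.le_of_ble_eq_true rfl) rfl

theorem c942 : Block F al 0 120704 62939 :=
  block_comb c941 b942 (Nat.zero_le _) (Nat.le_of_ble_eq_true rfl) rfl

theorem c943 : Block F al 0 120832 63006 :=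
  block_comb c942 b943 (Nat.zero_le _) (Nat.le_of_ble_eq_true rfl) rfl

theorem c944 : Block F al 0 120960 63073 :=
  block_comb c943 b944 (Nat.zero_le _) (Nat.le_of_ble_eq_true rfl) rfl

theorem c945 : Block F al 0 121088 63191 :=
  block_comb c944 b945 (Nat.zero_le _) (Nat.le_of_ble_eq_true rfl) rfl

theorem c946 : Block F al 0 121216 63250 :=
  block_comb c945 b946 (Nat.zero_le _) (Nat.le_of_ble_eq_true rfl) rfl

theorem c947 : Block F al 0 121344 63308 :=
  block_comb c946 b947 (Nat.zero_le _) (Nat.le_of_ble_eq_true rfl) rfl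

theorem c948 : Block F al 0 121472 63402 :=
  block_comb c947 b948 (Nat.zero_le _) (Nat.le_of_ble_eq_true rfl) rfl

theorem c949 : Block F al 0 121600 63445 :=
  block_comb c948 b949 (Nat.zero_le _) (Nat.le_of_ble_eq_true rfl) rfl

theorem c950 : Block F al 0 121728 63455 :=
  block_comb c949 b950 (Nat.zero_le _) (Nat.le_of_ble_eq_true rfl) rfl

theorem c951 : Block F al 0 121856 63482 :=
  block_comb c950 b951 (Nat.zero_le _) (Nat.le_of_ble_eq_true rfl) rfl

theorem c952 : Block F al 0 121984 63484 :=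
  block_comb c951 b952 (Nat.zero_le _) (Nat.le_of_ble_eq_true rfl) rfl

theorem c953 : Block F al 0 122112 63493 :=
  block_comb c952 b953 (Nat.zero_le _) (Nat.le_of_ble_eq_true rfl) rfl

theorem c954 : Block F al 0 122240 63514 :=
  block_comb c953 b954 (Nat.zero_le _) (Nat.le_of_ble_eq_true rfl) rfl

theorem c955 : Block F al 0 122368 63587 :=
  block_comb c954 b955 (Nat.zero_le _) (Nat.le_of_ble_eq_true rfl) rfl

theorem c956 : Block F al 0 122496 63606 :=
  block_comb c955 b956 (Nat.zero_le _) (Nat.le_of_ble_eq_true rfl) rfl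

theorem c957 : Block F al 0 122624 63606 :=
  block_comb c956 b957 (Nat.zero_le _) (Nat.le_of_ble_eq_true rfl) rfl

theorem c958 : Block F al 0 122752 63608 :=
  block_comb c957 b958 (Nat.zero_le _) (Nat.le_of_ble_eq_true rfl) rfl

theorem c959 : Block F al 0 122880 63611 :=
  block_comb c958 b959 (Nat.zero_le _) (Nat.le_of_ble_eq_true rfl) rfl

theorem c960 : Block F al 0 123008 63636 :=
  block_comb c959 b960 (Nat.zero_le _) (Nat.le_of_ble_eq_true rfl) rfl

theorem c961 : Block F al 0 123136 63661 :=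
  block_comb c960 b961 (Nat.zero_le _) (Nat.le_of_ble_eq_true rfl) rfl

theorem c962 : Block F al 0 123264 63709 :=
  block_comb c961 b962 (Nat.zero_le _) (Nat.le_of_ble_eq_true rfl) rfl

theorem c963 : Block F al 0 123392 63734 :=
  block_comb c962 b963 (Nat.zero_le _) (Nat.le_of_ble_eq_true rfl) rfl

theorem c964 : Block F al 0 123520 63795 :=
  block_comb c963 b964 (Nat.zero_le _) (Nat.le_of_ble_eq_true rfl) rfl

theorem c965 : Block F al 0 123648 63817 :=
  block_comb c964 b965 (Nat.zero_le _) (Nat.le_of_ble_eq_true rfl) rfl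

theorem c966 : Block F al 0 123776 63823 :=
  block_comb c965 b966 (Nat.zero_le _) (Nat.le_of_ble_eq_true rfl) rfl

theorem c967 : Block F al 0 123904 63878 :=
  block_comb c966 b967 (Nat.zero_le _) (Nat.le_of_ble_eq_true rfl) rfl

theorem c968 : Block F al 0 124032 63910 :=
  block_comb c967 b968 (Nat.zero_le _) (Nat.le_of_ble_eq_true rfl) rfl

theorem c969 : Block F al 0 124160 63921 :=
  block_comb c968 b969 (Nat.zero_le _) (Nat.le_of_ble_eq_true rfl) rfl

theorem c970 : Block F al 0 124288 63945 :=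
  block_comb c969 b970 (Nat.zero_le _) (Nat.le_of_ble_eq_true rfl) rfl

theorem c971 : Block F al 0 124416 63954 :=
  block_comb c970 b971 (Nat.zero_le _) (Nat.le_of_ble_eq_true rfl) rfl

theorem c972 : Block F al 0 124544 63968 :=
  block_comb c971 b972 (Nat.zero_le _) (Nat.le_of_ble_eq_true rfl) rfl

theorem c973 : Block F al 0 124672 63968 :=
  block_comb c972 b973 (Nat.zero_le _) (Nat.le_of_ble_eq_true rfl) rfl

theorem c974 : Block F al 0 124800 63968 :=
  block_comb c973 b974 (Nat.zero_le _) (Nat.le_of_ble_eq_true rfl) rfl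

theorem c975 : Block F al 0 124928 64021 :=
  block_comb c974 b975 (Nat.zero_le _) (Nat.le_of_ble_eq_true rfl) rfl

theorem c976 : Block F al 0 125056 64120 :=
  block_comb c975 b976 (Nat.zero_le _) (Nat.le_of_ble_eq_true rfl) rfl

theorem c977 : Block F al 0 125184 64187 :=
  block_comb c976 b977 (Nat.zero_le _) (Nat.le_of_ble_eq_true rfl) rfl

theorem c978 : Block F al 0 125312 64258 :=
  block_comb c977 b978 (Nat.zero_le _) (Nat.le_of_ble_eq_true rfl) rfl

theorem c979 : Block F al 0 125440 64345 :=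
  block_comb c978 b979 (Nat.zero_le _) (Nat.le_of_ble_eq_true rfl) rfl

theorem c980 : Block F al 0 125568 64453 :=
  block_comb c979 b980 (Nat.zero_le _) (Nat.le_of_ble_eq_true rfl) rfl

theorem c981 : Block F al 0 125696 64470 :=
  block_comb c980 b981 (Nat.zero_le _) (Nat.le_of_ble_eq_true rfl) rfl

theorem c982 : Block F al 0 125824 64490 :=
  block_comb c981 b982 (Nat.zero_le _) (Nat.le_of_ble_eq_true rfl) rfl

theorem c983 : Block F al 0 125952 64522 :=
  block_comb c982 b983 (Nat.zero_le _) (Nat.le_of_ble_eq_true rfl) rfl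

theorem c984 : Block F al 0 126080 64591 :=
  block_comb c983 b984 (Nat.zero_le _) (Nat.le_of_ble_eq_true rfl) rfl

theorem c985 : Block F al 0 126208 64650 :=
  block_comb c984 b985 (Nat.zero_le _) (Nat.le_of_ble_eq_true rfl) rfl

theorem c986 : Block F al 0 126336 64671 :=
  block_comb c985 b986 (Nat.zero_le _) (Nat.le_of_ble_eq_true rfl) rfl

theorem c987 : Block F al 0 126464 64746 :=
  block_comb c986 b987 (Nat.zero_le _) (Nat.le_of_ble_eq_true rfl) rfl

theorem c988 : Block F al 0 126592 64785 :=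
  block_comb c987 b988 (Nat.zero_le _) (Nat.le_of_ble_eq_true rfl) rfl

theorem c989 : Block F al 0 126720 64810 :=
  block_comb c988 b989 (Nat.zero_le _) (Nat.le_of_ble_eq_true rfl) rfl

theorem c990 : Block F al 0 126848 64834 :=
  block_comb c989 b990 (Nat.zero_le _) (Nat.le_of_ble_eq_true rfl) rfl

theorem c991 : Block F al 0 126976 64834 :=
  block_comb c990 b991 (Nat.zero_le _) (Nat.le_of_ble_eq_true rfl) rfl

theorem c992 : Block F al 0 127104 64834 :=
  block_comb c991 b992 (Nat.zero_le _) (Nat.le_of_ble_eq_true rfl) rfl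

theorem c993 : Block F al 0 127232 64836 :=
  block_comb c992 b993 (Nat.zero_le _) (Nat.le_of_ble_eq_true rfl) rfl

theorem c994 : Block F al 0 127360 64839 :=
  block_comb c993 b994 (Nat.zero_le _) (Nat.le_of_ble_eq_true rfl) rfl

theorem c995 : Block F al 0 127488 64854 :=
  block_comb c994 b995 (Nat.zero_le _) (Nat.le_of_ble_eq_true rfl) rfl

theorem c996 : Block F al 0 127616 64858 :=
  block_comb c995 b996 (Nat.zero_le _) (Nat.le_of_ble_eq_true rfl) rfl

theorem c997 : Block F al 0 127744 64865 :=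
  block_comb c996 b997 (Nat.zero_le _) (Nat.le_of_ble_eq_true rfl) rfl

theorem c998 : Block F al 0 127872 64887 :=
  block_comb c997 b998 (Nat.zero_le _) (Nat.le_of_ble_eq_true rfl) rfl

theorem c999 : Block F al 0 128000 64928 :=
  block_comb c998 b999 (Nat.zero_le _) (Nat.le_of_ble_eq_true rfl) rfl

theorem c1000 : Block F al 0 128128 65027 :=
  block_comb c999 b1000 (Nat.zero_le _) (Nat.le_of_ble_eq_true rfl) rfl

theorem c1001 : Block F al 0 128256 65106 :=
  block_comb c1000 b1001 (Nat.zero_le _) (Nat.le_of_ble_eq_true rfl) rfl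

theorem c1002 : Block F al 0 128384 65222 :=
  block_comb c1001 b1002 (Nat.zero_le _) (Nat.le_of_ble_eq_true rfl) rfl

theorem c1003 : Block F al 0 128512 65303 :=
  block_comb c1002 b1003 (Nat.zero_le _) (Nat.le_of_ble_eq_true rfl) rfl

theorem c1004 : Block F al 0 128640 65337 :=
  block_comb c1003 b1004 (Nat.zero_le _) (Nat.le_of_ble_eq_true rfl) rfl

theorem c1005 : Block F al 0 128768 65414 :=
  block_comb c1004 b1005 (Nat.zero_le _) (Nat.le_of_ble_eq_true rfl) rfl

theorem c1006 : Block F al 0 128896 65496 :=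
  block_comb c1005 b1006 (Nat.zero_le _) (Nat.le_of_ble_eq_true rfl) rfl

theorem c1007 : Block F al 0 129024 65623 :=
  block_comb c1006 b1007 (Nat.zero_le _) (Nat.le_of_ble_eq_true rfl) rfl

theorem c1008 : Block F al 0 129152 65749 :=
  block_comb c1007 b1008 (Nat.zero_le _) (Nat.le_of_ble_eq_true rfl) rfl

theorem c1009 : Block F al 0 129280 65875 :=
  block_comb c1008 b1009 (Nat.zero_le _) (Nat.le_of_ble_eq_true rfl) rfl

theorem c1010 : Block F al 0 129408 65972 :=
  block_comb c1009 b1010 (Nat.zero_le _) (Nat.le_of_ble_eq_true rfl) rfl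

theorem c1011 : Block F al 0 129536 66096 :=
  block_comb c1010 b1011 (Nat.zero_le _) (Nat.le_of_ble_eq_true rfl) rfl

theorem c1012 : Block F al 0 129664 66193 :=
  block_comb c1011 b1012 (Nat.zero_le _) (Nat.le_of_ble_eq_true rfl) rfl

theorem c1013 : Block F al 0 129792 66227 :=
  block_comb c1012 b1013 (Nat.zero_le _) (Nat.le_of_ble_eq_true rfl) rfl

theorem c1014 : Block F al 0 129920 66261 :=
  block_comb c1013 b1014 (Nat.zero_le _) (Nat.le_of_ble_eq_true rfl) rfl

theorem c1015 : Block F al 0 130048 66307 :=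
  block_comb c1014 b1015 (Nat.zero_le _) (Nat.le_of_ble_eq_true rfl) rfl

theorem c1016 : Block F al 0 130176 66352 :=
  block_comb c1015 b1016 (Nat.zero_le _) (Nat.le_of_ble_eq_true rfl) rfl

theorem c1017 : Block F al 0 130304 66445 :=
  block_comb c1016 b1017 (Nat.zero_le _) (Nat.le_of_ble_eq_true rfl) rfl

theorem c1018 : Block F al 0 130432 66510 :=
  block_comb c1017 b1018 (Nat.zero_le _) (Nat.le_of_ble_eq_true rfl) rfl

theorem c1019 : Block F al 0 130560 66633 :=
  block_comb c1018 b1019 (Nat.zero_le _) (Nat.le_of_ble_eq_true rfl) rfl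

theorem c1020 : Block F al 0 130688 66758 :=
  block_comb c1019 b1020 (Nat.zero_le _) (Nat.le_of_ble_eq_true rfl) rfl

theorem c1021 : Block F al 0 130816 66884 :=
  block_comb c1020 b1021 (Nat.zero_le _) (Nat.le_of_ble_eq_true rfl) rfl

theorem c1022 : Block F al 0 130944 67003 :=
  block_comb c1021 b1022 (Nat.zero_le _) (Nat.le_of_ble_eq_true rfl) rfl

theorem c1023 : Block F al 0 131072 67126 :=
  block_comb c1022 b1023 (Nat.zero_le _) (Nat.le_of_ble_eq_true rfl) rfl

theorem c1024 : Block F al 0 131200 67248 :=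
  block_comb c1023 b1024 (Nat.zero_le _) (Nat.le_of_ble_eq_true rfl) rfl

theorem c1025 : Block F al 0 131328 67300 :=
  block_comb c1024 b1025 (Nat.zero_le _) (Nat.le_of_ble_eq_true rfl) rfl

theorem c1026 : Block F al 0 131456 67346 :=
  block_comb c1025 b1026 (Nat.zero_le _) (Nat.le_of_ble_eq_true rfl) rfl

theorem c1027 : Block F al 0 131584 67401 :=
  block_comb c1026 b1027 (Nat.zero_le _) (Nat.le_of_ble_eq_true rfl) rfl

theorem c1028 : Block F al 0 131712 67445 :=
  block_comb c1027 b1028 (Nat.zero_le _) (Nat.le_of_ble_eq_true rfl) rfl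

theorem c1029 : Block F al 0 131840 67521 :=
  block_comb c1028 b1029 (Nat.zero_le _) (Nat.le_of_ble_eq_true rfl) rfl

theorem c1030 : Block F al 0 131968 67635 :=
  block_comb c1029 b1030 (Nat.zero_le _) (Nat.le_of_ble_eq_true rfl) rfl

theorem c1031 : Block F al 0 132096 67759 :=
  block_comb c1030 b1031 (Nat.zero_le _) (Nat.le_of_ble_eq_true rfl) rfl

theorem c1032 : Block F al 0 132224 67847 :=
  block_comb c1031 b1032 (Nat.zero_le _) (Nat.le_of_ble_eq_true rfl) rfl

theorem c1033 : Block F al 0 132352 67876 :=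
  block_comb c1032 b1033 (Nat.zero_le _) (Nat.le_of_ble_eq_true rfl) rfl

theorem c1034 : Block F al 0 132480 67947 :=
  block_comb c1033 b1034 (Nat.zero_le _) (Nat.le_of_ble_eq_true rfl) rfl

theorem c1035 : Block F al 0 132608 68038 :=
  block_comb c1034 b1035 (Nat.zero_le _) (Nat.le_of_ble_eq_true rfl) rfl

theorem c1036 : Block F al 0 132736 68153 :=
  block_comb c1035 b1036 (Nat.zero_le _) (Nat.le_of_ble_eq_true rfl) rfl

theorem c1037 : Block F al 0 132864 68270 :=
  block_comb c1036 b1037 (Nat.zero_le _) (Nat.le_of_ble_eq_true rfl) rfl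

theorem c1038 : Block F al 0 132992 68387 :=
  block_comb c1037 b1038 (Nat.zero_le _) (Nat.le_of_ble_eq_true rfl) rfl

theorem c1039 : Block F al 0 133120 68505 :=
  block_comb c1038 b1039 (Nat.zero_le _) (Nat.le_of_ble_eq_true rfl) rfl

theorem c1040 : Block F al 0 133248 68625 :=
  block_comb c1039 b1040 (Nat.zero_le _) (Nat.le_of_ble_eq_true rfl) rfl

theorem c1041 : Block F al 0 133376 68727 :=
  block_comb c1040 b1041 (Nat.zero_le _) (Nat.le_of_ble_eq_true rfl) rfl

theorem c1042 : Block F al 0 133504 68840 :=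
  block_comb c1041 b1042 (Nat.zero_le _) (Nat.le_of_ble_eq_true rfl) rfl

theorem c1043 : Block F al 0 133632 68963 :=
  block_comb c1042 b1043 (Nat.zero_le _) (Nat.le_of_ble_eq_true rfl) rfl

theorem c1044 : Block F al 0 133760 69075 :=
  block_comb c1043 b1044 (Nat.zero_le _) (Nat.le_of_ble_eq_true rfl) rfl

theorem c1045 : Block F al 0 133888 69175 :=
  block_comb c1044 b1045 (Nat.zero_le _) (Nat.le_of_ble_eq_true rfl) rfl

theorem c1046 : Block F al 0 134016 69252 :=
  block_comb c1045 b1046 (Nat.zero_le _) (Nat.le_of_ble_eq_true rfl) rfl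

theorem c1047 : Block F al 0 134144 69357 :=
  block_comb c1046 b1047 (Nat.zero_le _) (Nat.le_of_ble_eq_true rfl) rfl

theorem c1048 : Block F al 0 134272 69470 :=
  block_comb c1047 b1048 (Nat.zero_le _) (Nat.le_of_ble_eq_true rfl) rfl

theorem c1049 : Block F al 0 134400 69592 :=
  block_comb c1048 b1049 (Nat.zero_le _) (Nat.le_of_ble_eq_true rfl) rfl

theorem c1050 : Block F al 0 134528 69679 :=
  block_comb c1049 b1050 (Nat.zero_le _) (Nat.le_of_ble_eq_true rfl) rfl

theorem c1051 : Block F al 0 134656 69739 :=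
  block_comb c1050 b1051 (Nat.zero_le _) (Nat.le_of_ble_eq_true rfl) rfl

theorem c1052 : Block F al 0 134784 69784 :=
  block_comb c1051 b1052 (Nat.zero_le _) (Nat.le_of_ble_eq_true rfl) rfl

theorem c1053 : Block F al 0 134912 69863 :=
  block_comb c1052 b1053 (Nat.zero_le _) (Nat.le_of_ble_eq_true rfl) rfl

theorem c1054 : Block F al 0 135040 69978 :=
  block_comb c1053 b1054 (Nat.zero_le _) (Nat.le_of_ble_eq_true rfl) rfl

theorem c1055 : Block F al 0 135168 70071 :=
  block_comb c1054 b1055 (Nat.zero_le _) (Nat.le_of_ble_eq_true rfl) rfl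

theorem c1056 : Block F al 0 135296 70106 :=
  block_comb c1055 b1056 (Nat.zero_le _) (Nat.le_of_ble_eq_true rfl) rfl

theorem c1057 : Block F al 0 135424 70174 :=
  block_comb c1056 b1057 (Nat.zero_le _) (Nat.le_of_ble_eq_true rfl) rfl

theorem c1058 : Block F al 0 135552 70280 :=
  block_comb c1057 b1058 (Nat.zero_le _) (Nat.le_of_ble_eq_true rfl) rfl

theorem c1059 : Block F al 0 135680 70343 :=
  block_comb c1058 b1059 (Nat.zero_le _) (Nat.le_of_ble_eq_true rfl) rfl

theorem c1060 : Block F al 0 135808 70343 :=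
  block_comb c1059 b1060 (Nat.zero_le _) (Nat.le_of_ble_eq_true rfl) rfl

theorem c1061 : Block F al 0 135936 70350 :=
  block_comb c1060 b1061 (Nat.zero_le _) (Nat.le_of_ble_eq_true rfl) rfl

theorem c1062 : Block F al 0 136064 70356 :=
  block_comb c1061 b1062 (Nat.zero_le _) (Nat.le_of_ble_eq_true rfl) rfl

theorem c1063 : Block F al 0 136192 70356 :=
  block_comb c1062 b1063 (Nat.zero_le _) (Nat.le_of_ble_eq_true rfl) rfl

theorem c1064 : Block F al 0 136320 70363 :=
  block_comb c1063 b1064 (Nat.zero_le _) (Nat.le_of_ble_eq_true rfl) rfl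

theorem c1065 : Block F al 0 136448 70387 :=
  block_comb c1064 b1065 (Nat.zero_le _) (Nat.le_of_ble_eq_true rfl) rfl

theorem c1066 : Block F al 0 136576 70431 :=
  block_comb c1065 b1066 (Nat.zero_le _) (Nat.le_of_ble_eq_true rfl) rfl

theorem c1067 : Block F al 0 136704 70494 :=
  block_comb c1066 b1067 (Nat.zero_le _) (Nat.le_of_ble_eq_true rfl) rfl

theorem c1068 : Block F al 0 136832 70541 :=
  block_comb c1067 b1068 (Nat.zero_le _) (Nat.le_of_ble_eq_true rfl) rfl

theorem c1069 : Block F al 0 136960 70546 :=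
  block_comb c1068 b1069 (Nat.zero_le _) (Nat.le_of_ble_eq_true rfl) rfl

theorem c1070 : Block F al 0 137088 70546 :=
  block_comb c1069 b1070 (Nat.zero_le _) (Nat.le_of_ble_eq_true rfl) rfl

theorem c1071 : Block F al 0 137216 70552 :=
  block_comb c1070 b1071 (Nat.zero_le _) (Nat.le_of_ble_eq_true rfl) rfl

theorem c1072 : Block F al 0 137344 70552 :=
  block_comb c1071 b1072 (Nat.zero_le _) (Nat.le_of_ble_eq_true rfl) rfl

theorem c1073 : Block F al 0 137472 70589 :=
  block_comb c1072 b1073 (Nat.zero_le _) (Nat.le_of_ble_eq_true rfl) rfl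

theorem c1074 : Block F al 0 137600 70639 :=
  block_comb c1073 b1074 (Nat.zero_le _) (Nat.le_of_ble_eq_true rfl) rfl

theorem c1075 : Block F al 0 137728 70665 :=
  block_comb c1074 b1075 (Nat.zero_le _) (Nat.le_of_ble_eq_true rfl) rfl

theorem c1076 : Block F al 0 137856 70725 :=
  block_comb c1075 b1076 (Nat.zero_le _) (Nat.le_of_ble_eq_true rfl) rfl

theorem c1077 : Block F al 0 137984 70775 :=
  block_comb c1076 b1077 (Nat.zero_le _) (Nat.le_of_ble_eq_true rfl) rfl

theorem c1078 : Block F al 0 138112 70802 :=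
  block_comb c1077 b1078 (Nat.zero_le _) (Nat.le_of_ble_eq_true rfl) rfl

theorem c1079 : Block F al 0 138240 70862 :=
  block_comb c1078 b1079 (Nat.zero_le _) (Nat.le_of_ble_eq_true rfl) rfl

theorem c1080 : Block F al 0 138368 70926 :=
  block_comb c1079 b1080 (Nat.zero_le _) (Nat.le_of_ble_eq_true rfl) rfl

theorem c1081 : Block F al 0 138496 70957 :=
  block_comb c1080 b1081 (Nat.zero_le _) (Nat.le_of_ble_eq_true rfl) rfl

theorem c1082 : Block F al 0 138624 70974 :=
  block_comb c1081 b1082 (Nat.zero_le _) (Nat.le_of_ble_eq_true rfl) rfl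

theorem c1083 : Block F al 0 138752 70986 :=
  block_comb c1082 b1083 (Nat.zero_le _) (Nat.le_of_ble_eq_true rfl) rfl

theorem c1084 : Block F al 0 138880 71006 :=
  block_comb c1083 b1084 (Nat.zero_le _) (Nat.le_of_ble_eq_true rfl) rfl

theorem c1085 : Block F al 0 139008 71074 :=
  block_comb c1084 b1085 (Nat.zero_le _) (Nat.le_of_ble_eq_true rfl) rfl

theorem c1086 : Block F al 0 139136 71126 :=
  block_comb c1085 b1086 (Nat.zero_le _) (Nat.le_of_ble_eq_true rfl) rfl

theorem c1087 : Block F al 0 139264 71185 :=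
  block_comb c1086 b1087 (Nat.zero_le _) (Nat.le_of_ble_eq_true rfl) rfl

theorem c1088 : Block F al 0 139392 71185 :=
  block_comb c1087 b1088 (Nat.zero_le _) (Nat.le_of_ble_eq_true rfl) rfl

theorem c1089 : Block F al 0 139520 71192 :=
  block_comb c1088 b1089 (Nat.zero_le _) (Nat.le_of_ble_eq_true rfl) rfl

theorem c1090 : Block F al 0 139648 71213 :=
  block_comb c1089 b1090 (Nat.zero_le _) (Nat.le_of_ble_eq_true rfl) rfl

theorem c1091 : Block F al 0 139776 71224 :=
  block_comb c1090 b1091 (Nat.zero_le _) (Nat.le_of_ble_eq_true rfl) rfl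

theorem c1092 : Block F al 0 139904 71231 :=
  block_comb c1091 b1092 (Nat.zero_le _) (Nat.le_of_ble_eq_true rfl) rfl

theorem c1093 : Block F al 0 140032 71243 :=
  block_comb c1092 b1093 (Nat.zero_le _) (Nat.le_of_ble_eq_true rfl) rfl

theorem c1094 : Block F al 0 140160 71243 :=
  block_comb c1093 b1094 (Nat.zero_le _) (Nat.le_of_ble_eq_true rfl) rfl

theorem c1095 : Block F al 0 140288 71243 :=
  block_comb c1094 b1095 (Nat.zero_le _) (Nat.le_of_ble_eq_true rfl) rfl

theorem c1096 : Block F al 0 140416 71276 :=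
  block_comb c1095 b1096 (Nat.zero_le _) (Nat.le_of_ble_eq_true rfl) rfl

theorem c1097 : Block F al 0 140544 71308 :=
  block_comb c1096 b1097 (Nat.zero_le _) (Nat.le_of_ble_eq_true rfl) rfl

theorem c1098 : Block F al 0 140672 71400 :=
  block_comb c1097 b1098 (Nat.zero_le _) (Nat.le_of_ble_eq_true rfl) rfl

theorem c1099 : Block F al 0 140800 71466 :=
  block_comb c1098 b1099 (Nat.zero_le _) (Nat.le_of_ble_eq_true rfl) rfl

theorem c1100 : Block F al 0 140928 71482 :=
  block_comb c1099 b1100 (Nat.zero_le _) (Nat.le_of_ble_eq_true rfl) rfl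

theorem c1101 : Block F al 0 141056 71538 :=
  block_comb c1100 b1101 (Nat.zero_le _) (Nat.le_of_ble_eq_true rfl) rfl

theorem c1102 : Block F al 0 141184 71616 :=
  block_comb c1101 b1102 (Nat.zero_le _) (Nat.le_of_ble_eq_true rfl) rfl

theorem c1103 : Block F al 0 141312 71726 :=
  block_comb c1102 b1103 (Nat.zero_le _) (Nat.le_of_ble_eq_true rfl) rfl

theorem c1104 : Block F al 0 141440 71775 :=
  block_comb c1103 b1104 (Nat.zero_le _) (Nat.le_of_ble_eq_true rfl) rfl

theorem c1105 : Block F al 0 141568 71792 :=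
  block_comb c1104 b1105 (Nat.zero_le _) (Nat.le_of_ble_eq_true rfl) rfl

theorem c1106 : Block F al 0 141696 71817 :=
  block_comb c1105 b1106 (Nat.zero_le _) (Nat.le_of_ble_eq_true rfl) rfl

theorem c1107 : Block F al 0 141824 71897 :=
  block_comb c1106 b1107 (Nat.zero_le _) (Nat.le_of_ble_eq_true rfl) rfl

theorem c1108 : Block F al 0 141952 71985 :=
  block_comb c1107 b1108 (Nat.zero_le _) (Nat.le_of_ble_eq_true rfl) rfl

theorem c1109 : Block F al 0 142080 72056 :=
  block_comb c1108 b1109 (Nat.zero_le _) (Nat.le_of_ble_eq_true rfl) rfl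

theorem c1110 : Block F al 0 142208 72121 :=
  block_comb c1109 b1110 (Nat.zero_le _) (Nat.le_of_ble_eq_true rfl) rfl

theorem c1111 : Block F al 0 142336 72140 :=
  block_comb c1110 b1111 (Nat.zero_le _) (Nat.le_of_ble_eq_true rfl) rfl

theorem c1112 : Block F al 0 142464 72228 :=
  block_comb c1111 b1112 (Nat.zero_le _) (Nat.le_of_ble_eq_true rfl) rfl

theorem c1113 : Block F al 0 142592 72312 :=
  block_comb c1112 b1113 (Nat.zero_le _) (Nat.le_of_ble_eq_true rfl) rfl

theorem c1114 : Block F al 0 142720 72346 :=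
  block_comb c1113 b1114 (Nat.zero_le _) (Nat.le_of_ble_eq_true rfl) rfl

theorem c1115 : Block F al 0 142848 72373 :=
  block_comb c1114 b1115 (Nat.zero_le _) (Nat.le_of_ble_eq_true rfl) rfl

theorem c1116 : Block F al 0 142976 72406 :=
  block_comb c1115 b1116 (Nat.zero_le _) (Nat.le_of_ble_eq_true rfl) rfl

theorem c1117 : Block F al 0 143104 72406 :=
  block_comb c1116 b1117 (Nat.zero_le _) (Nat.le_of_ble_eq_true rfl) rfl

theorem c1118 : Block F al 0 143232 72406 :=
  block_comb c1117 b1118 (Nat.zero_le _) (Nat.le_of_ble_eq_true rfl) rfl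

theorem c1119 : Block F al 0 143360 72406 :=
  block_comb c1118 b1119 (Nat.zero_le _) (Nat.le_of_ble_eq_true rfl) rfl

theorem c1120 : Block F al 0 143488 72416 :=
  block_comb c1119 b1120 (Nat.zero_le _) (Nat.le_of_ble_eq_true rfl) rfl

theorem c1121 : Block F al 0 143616 72425 :=
  block_comb c1120 b1121 (Nat.zero_le _) (Nat.le_of_ble_eq_true rfl) rfl

theorem c1122 : Block F al 0 143744 72444 :=
  block_comb c1121 b1122 (Nat.zero_le _) (Nat.le_of_ble_eq_true rfl) rfl

theorem c1123 : Block F al 0 143872 72449 :=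
  block_comb c1122 b1123 (Nat.zero_le _) (Nat.le_of_ble_eq_true rfl) rfl

theorem c1124 : Block F al 0 144000 72450 :=
  block_comb c1123 b1124 (Nat.zero_le _) (Nat.le_of_ble_eq_true rfl) rfl

theorem c1125 : Block F al 0 144128 72451 :=
  block_comb c1124 b1125 (Nat.zero_le _) (Nat.le_of_ble_eq_true rfl) rfl

theorem c1126 : Block F al 0 144256 72451 :=
  block_comb c1125 b1126 (Nat.zero_le _) (Nat.le_of_ble_eq_true rfl) rfl

theorem c1127 : Block F al 0 144384 72454 :=
  block_comb c1126 b1127 (Nat.zero_le _) (Nat.le_of_ble_eq_true rfl) rfl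

theorem c1128 : Block F al 0 144512 72454 :=
  block_comb c1127 b1128 (Nat.zero_le _) (Nat.le_of_ble_eq_true rfl) rfl

theorem c1129 : Block F al 0 144640 72454 :=
  block_comb c1128 b1129 (Nat.zero_le _) (Nat.le_of_ble_eq_true rfl) rfl

theorem c1130 : Block F al 0 144768 72454 :=
  block_comb c1129 b1130 (Nat.zero_le _) (Nat.le_of_ble_eq_true rfl) rfl

theorem c1131 : Block F al 0 144896 72454 :=
  block_comb c1130 b1131 (Nat.zero_le _) (Nat.le_of_ble_eq_true rfl) rfl

theorem c1132 : Block F al 0 145024 72454 :=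
  block_comb c1131 b1132 (Nat.zero_le _) (Nat.le_of_ble_eq_true rfl) rfl

theorem c1133 : Block F al 0 145152 72454 :=
  block_comb c1132 b1133 (Nat.zero_le _) (Nat.le_of_ble_eq_true rfl) rfl

theorem c1134 : Block F al 0 145280 72454 :=
  block_comb c1133 b1134 (Nat.zero_le _) (Nat.le_of_ble_eq_true rfl) rfl

theorem c1135 : Block F al 0 145408 72454 :=
  block_comb c1134 b1135 (Nat.zero_le _) (Nat.le_of_ble_eq_true rfl) rfl

theorem c1136 : Block F al 0 145536 72454 :=
  block_comb c1135 b1136 (Nat.zero_le _) (Nat.le_of_ble_eq_true rfl) rfl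

theorem c1137 : Block F al 0 145664 72458 :=
  block_comb c1136 b1137 (Nat.zero_le _) (Nat.le_of_ble_eq_true rfl) rfl

theorem c1138 : Block F al 0 145792 72537 :=
  block_comb c1137 b1138 (Nat.zero_le _) (Nat.le_of_ble_eq_true rfl) rfl

theorem c1139 : Block F al 0 145920 72588 :=
  block_comb c1138 b1139 (Nat.zero_le _) (Nat.le_of_ble_eq_true rfl) rfl

theorem c1140 : Block F al 0 146048 72652 :=
  block_comb c1139 b1140 (Nat.zero_le _) (Nat.le_of_ble_eq_true rfl) rfl

theorem c1141 : Block F al 0 146176 72739 :=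
  block_comb c1140 b1141 (Nat.zero_le _) (Nat.le_of_ble_eq_true rfl) rfl

theorem c1142 : Block F al 0 146304 72852 :=
  block_comb c1141 b1142 (Nat.zero_le _) (Nat.le_of_ble_eq_true rfl) rfl

theorem c1143 : Block F al 0 146432 72911 :=
  block_comb c1142 b1143 (Nat.zero_le _) (Nat.le_of_ble_eq_true rfl) rfl

theorem c1144 : Block F al 0 146560 73001 :=
  block_comb c1143 b1144 (Nat.zero_le _) (Nat.le_of_ble_eq_true rfl) rfl

theorem c1145 : Block F al 0 146688 73030 :=
  block_comb c1144 b1145 (Nat.zero_le _) (Nat.le_of_ble_eq_true rfl) rfl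

theorem c1146 : Block F al 0 146816 73055 :=
  block_comb c1145 b1146 (Nat.zero_le _) (Nat.le_of_ble_eq_true rfl) rfl

theorem c1147 : Block F al 0 146944 73099 :=
  block_comb c1146 b1147 (Nat.zero_le _) (Nat.le_of_ble_eq_true rfl) rfl

theorem c1148 : Block F al 0 147072 73146 :=
  block_comb c1147 b1148 (Nat.zero_le _) (Nat.le_of_ble_eq_true rfl) rfl

theorem c1149 : Block F al 0 147200 73191 :=
  block_comb c1148 b1149 (Nat.zero_le _) (Nat.le_of_ble_eq_true rfl) rfl

theorem c1150 : Block F al 0 147328 73215 :=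
  block_comb c1149 b1150 (Nat.zero_le _) (Nat.le_of_ble_eq_true rfl) rfl

theorem c1151 : Block F al 0 147456 73243 :=
  block_comb c1150 b1151 (Nat.zero_le _) (Nat.le_of_ble_eq_true rfl) rfl

theorem c1152 : Block F al 0 147584 73337 :=
  block_comb c1151 b1152 (Nat.zero_le _) (Nat.le_of_ble_eq_true rfl) rfl

theorem c1153 : Block F al 0 147712 73421 :=
  block_comb c1152 b1153 (Nat.zero_le _) (Nat.le_of_ble_eq_true rfl) rfl

theorem c1154 : Block F al 0 147840 73469 :=
  block_comb c1153 b1154 (Nat.zero_le _) (Nat.le_of_ble_eq_true rfl) rfl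

theorem c1155 : Block F al 0 147968 73569 :=
  block_comb c1154 b1155 (Nat.zero_le _) (Nat.le_of_ble_eq_true rfl) rfl

theorem c1156 : Block F al 0 148096 73606 :=
  block_comb c1155 b1156 (Nat.zero_le _) (Nat.le_of_ble_eq_true rfl) rfl

theorem c1157 : Block F al 0 148224 73663 :=
  block_comb c1156 b1157 (Nat.zero_le _) (Nat.le_of_ble_eq_true rfl) rfl

theorem c1158 : Block F al 0 148352 73726 :=
  block_comb c1157 b1158 (Nat.zero_le _) (Nat.le_of_ble_eq_true rfl) rfl

theorem c1159 : Block F al 0 148480 73757 :=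
  block_comb c1158 b1159 (Nat.zero_le _) (Nat.le_of_ble_eq_true rfl) rfl

theorem c1160 : Block F al 0 148608 73848 :=
  block_comb c1159 b1160 (Nat.zero_le _) (Nat.le_of_ble_eq_true rfl) rfl

theorem c1161 : Block F al 0 148736 73899 :=
  block_comb c1160 b1161 (Nat.zero_le _) (Nat.le_of_ble_eq_true rfl) rfl

theorem c1162 : Block F al 0 148864 73923 :=
  block_comb c1161 b1162 (Nat.zero_le _) (Nat.le_of_ble_eq_true rfl) rfl

theorem c1163 : Block F al 0 148992 73974 :=
  block_comb c1162 b1163 (Nat.zero_le _) (Nat.le_of_ble_eq_true rfl) rfl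

theorem c1164 : Block F al 0 149120 73984 :=
  block_comb c1163 b1164 (Nat.zero_le _) (Nat.le_of_ble_eq_true rfl) rfl

theorem c1165 : Block F al 0 149248 73988 :=
  block_comb c1164 b1165 (Nat.zero_le _) (Nat.le_of_ble_eq_true rfl) rfl

theorem c1166 : Block F al 0 149376 73995 :=
  block_comb c1165 b1166 (Nat.zero_le _) (Nat.le_of_ble_eq_true rfl) rfl

theorem c1167 : Block F al 0 149504 73995 :=
  block_comb c1166 b1167 (Nat.zero_le _) (Nat.le_of_ble_eq_true rfl) rfl

theorem c1168 : Block F al 0 149632 73998 :=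
  block_comb c1167 b1168 (Nat.zero_le _) (Nat.le_of_ble_eq_true rfl) rfl

theorem c1169 : Block F al 0 149760 74023 :=
  block_comb c1168 b1169 (Nat.zero_le _) (Nat.le_of_ble_eq_true rfl) rfl

theorem c1170 : Block F al 0 149888 74024 :=
  block_comb c1169 b1170 (Nat.zero_le _) (Nat.le_of_ble_eq_true rfl) rfl

theorem c1171 : Block F al 0 150016 74024 :=
  block_comb c1170 b1171 (Nat.zero_le _) (Nat.le_of_ble_eq_true rfl) rfl

theorem c1172 : Block F al 0 150144 74024 :=
  block_comb c1171 b1172 (Nat.zero_le _) (Nat.le_of_ble_eq_true rfl) rfl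

theorem c1173 : Block F al 0 150272 74027 :=
  block_comb c1172 b1173 (Nat.zero_le _) (Nat.le_of_ble_eq_true rfl) rfl

theorem c1174 : Block F al 0 150400 74033 :=
  block_comb c1173 b1174 (Nat.zero_le _) (Nat.le_of_ble_eq_true rfl) rfl

theorem c1175 : Block F al 0 150528 74049 :=
  block_comb c1174 b1175 (Nat.zero_le _) (Nat.le_of_ble_eq_true rfl) rfl

theorem c1176 : Block F al 0 150656 74058 :=
  block_comb c1175 b1176 (Nat.zero_le _) (Nat.le_of_ble_eq_true rfl) rfl

theorem c1177 : Block F al 0 150784 74070 :=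
  block_comb c1176 b1177 (Nat.zero_le _) (Nat.le_of_ble_eq_true rfl) rfl

theorem c1178 : Block F al 0 150912 74070 :=
  block_comb c1177 b1178 (Nat.zero_le _) (Nat.le_of_ble_eq_true rfl) rfl

theorem c1179 : Block F al 0 151040 74077 :=
  block_comb c1178 b1179 (Nat.zero_le _) (Nat.le_of_ble_eq_true rfl) rfl

theorem c1180 : Block F al 0 151168 74077 :=
  block_comb c1179 b1180 (Nat.zero_le _) (Nat.le_of_ble_eq_true rfl) rfl

theorem c1181 : Block F al 0 151296 74077 :=
  block_comb c1180 b1181 (Nat.zero_le _) (Nat.le_of_ble_eq_true rfl) rfl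

theorem c1182 : Block F al 0 151424 74077 :=
  block_comb c1181 b1182 (Nat.zero_le _) (Nat.le_of_ble_eq_true rfl) rfl

theorem c1183 : Block F al 0 151552 74088 :=
  block_comb c1182 b1183 (Nat.zero_le _) (Nat.le_of_ble_eq_true rfl) rfl

theorem c1184 : Block F al 0 151680 74136 :=
  block_comb c1183 b1184 (Nat.zero_le _) (Nat.le_of_ble_eq_true rfl) rfl

theorem c1185 : Block F al 0 151808 74163 :=
  block_comb c1184 b1185 (Nat.zero_le _) (Nat.le_of_ble_eq_true rfl) rfl

theorem c1186 : Block F al 0 151936 74169 :=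
  block_comb c1185 b1186 (Nat.zero_le _) (Nat.le_of_ble_eq_true rfl) rfl

theorem c1187 : Block F al 0 152064 74194 :=
  block_comb c1186 b1187 (Nat.zero_le _) (Nat.le_of_ble_eq_true rfl) rfl

theorem c1188 : Block F al 0 152192 74204 :=
  block_comb c1187 b1188 (Nat.zero_le _) (Nat.le_of_ble_eq_true rfl) rfl

theorem c1189 : Block F al 0 152320 74222 :=
  block_comb c1188 b1189 (Nat.zero_le _) (Nat.le_of_ble_eq_true rfl) rfl

theorem c1190 : Block F al 0 152448 74223 :=
  block_comb c1189 b1190 (Nat.zero_le _) (Nat.le_of_ble_eq_true rfl) rfl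

theorem c1191 : Block F al 0 152576 74226 :=
  block_comb c1190 b1191 (Nat.zero_le _) (Nat.le_of_ble_eq_true rfl) rfl

theorem c1192 : Block F al 0 152704 74226 :=
  block_comb c1191 b1192 (Nat.zero_le _) (Nat.le_of_ble_eq_true rfl) rfl

theorem c1193 : Block F al 0 152832 74226 :=
  block_comb c1192 b1193 (Nat.zero_le _) (Nat.le_of_ble_eq_true rfl) rfl

theorem c1194 : Block F al 0 152960 74237 :=
  block_comb c1193 b1194 (Nat.zero_le _) (Nat.le_of_ble_eq_true rfl) rfl

theorem c1195 : Block F al 0 153088 74365 :=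
  block_comb c1194 b1195 (Nat.zero_le _) (Nat.le_of_ble_eq_true rfl) rfl

theorem c1196 : Block F al 0 153216 74493 :=
  block_comb c1195 b1196 (Nat.zero_le _) (Nat.le_of_ble_eq_true rfl) rfl

theorem c1197 : Block F al 0 153344 74621 :=
  block_comb c1196 b1197 (Nat.zero_le _) (Nat.le_of_ble_eq_true rfl) rfl

theorem c1198 : Block F al 0 153472 74749 :=
  block_comb c1197 b1198 (Nat.zero_le _) (Nat.le_of_ble_eq_true rfl) rfl

theorem c1199 : Block F al 0 153600 74877 :=
  block_comb c1198 b1199 (Nat.zero_le _) (Nat.le_of_ble_eq_true rfl) rfl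

theorem c1200 : Block F al 0 153728 75005 :=
  block_comb c1199 b1200 (Nat.zero_le _) (Nat.le_of_ble_eq_true rfl) rfl

theorem c1201 : Block F al 0 153856 75133 :=
  block_comb c1200 b1201 (Nat.zero_le _) (Nat.le_of_ble_eq_true rfl) rfl

theorem c1202 : Block F al 0 153984 75261 :=
  block_comb c1201 b1202 (Nat.zero_le _) (Nat.le_of_ble_eq_true rfl) rfl

theorem c1203 : Block F al 0 154112 75389 :=
  block_comb c1202 b1203 (Nat.zero_le _) (Nat.le_of_ble_eq_true rfl) rfl

theorem c1204 : Block F al 0 154240 75517 :=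
  block_comb c1203 b1204 (Nat.zero_le _) (Nat.le_of_ble_eq_true rfl) rfl

theorem c1205 : Block F al 0 154368 75645 :=
  block_comb c1204 b1205 (Nat.zero_le _) (Nat.le_of_ble_eq_true rfl) rfl

theorem c1206 : Block F al 0 154496 75773 :=
  block_comb c1205 b1206 (Nat.zero_le _) (Nat.le_of_ble_eq_true rfl) rfl

theorem c1207 : Block F al 0 154624 75901 :=
  block_comb c1206 b1207 (Nat.zero_le _) (Nat.le_of_ble_eq_true rfl) rfl

theorem c1208 : Block F al 0 154752 76029 :=
  block_comb c1207 b1208 (Nat.zero_le _) (Nat.le_of_ble_eq_true rfl) rfl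

theorem c1209 : Block F al 0 154880 76157 :=
  block_comb c1208 b1209 (Nat.zero_le _) (Nat.le_of_ble_eq_true rfl) rfl

theorem c1210 : Block F al 0 155008 76285 :=
  block_comb c1209 b1210 (Nat.zero_le _) (Nat.le_of_ble_eq_true rfl) rfl

theorem c1211 : Block F al 0 155136 76413 :=
  block_comb c1210 b1211 (Nat.zero_le _) (Nat.le_of_ble_eq_true rfl) rfl

theorem c1212 : Block F al 0 155264 76541 :=
  block_comb c1211 b1212 (Nat.zero_le _) (Nat.le_of_ble_eq_true rfl) rfl

theorem c1213 : Block F al 0 155392 76669 :=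
  block_comb c1212 b1213 (Nat.zero_le _) (Nat.le_of_ble_eq_true rfl) rfl

theorem c1214 : Block F al 0 155520 76797 :=
  block_comb c1213 b1214 (Nat.zero_le _) (Nat.le_of_ble_eq_true rfl) rfl

theorem c1215 : Block F al 0 155648 76925 :=
  block_comb c1214 b1215 (Nat.zero_le _) (Nat.le_of_ble_eq_true rfl) rfl

theorem c1216 : Block F al 0 155776 77053 :=
  block_comb c1215 b1216 (Nat.zero_le _) (Nat.le_of_ble_eq_true rfl) rfl

theorem c1217 : Block F al 0 155904 77181 :=
  block_comb c1216 b1217 (Nat.zero_le _) (Nat.le_of_ble_eq_true rfl) rfl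

theorem c1218 : Block F al 0 156032 77309 :=
  block_comb c1217 b1218 (Nat.zero_le _) (Nat.le_of_ble_eq_true rfl) rfl

theorem c1219 : Block F al 0 156160 77437 :=
  block_comb c1218 b1219 (Nat.zero_le _) (Nat.le_of_ble_eq_true rfl) rfl

theorem c1220 : Block F al 0 156288 77565 :=
  block_comb c1219 b1220 (Nat.zero_le _) (Nat.le_of_ble_eq_true rfl) rfl

theorem c1221 : Block F al 0 156416 77693 :=
  block_comb c1220 b1221 (Nat.zero_le _) (Nat.le_of_ble_eq_true rfl) rfl

theorem c1222 : Block F al 0 156544 77821 :=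
  block_comb c1221 b1222 (Nat.zero_le _) (Nat.le_of_ble_eq_true rfl) rfl

theorem c1223 : Block F al 0 156672 77949 :=
  block_comb c1222 b1223 (Nat.zero_le _) (Nat.le_of_ble_eq_true rfl) rfl

theorem c1224 : Block F al 0 156800 78077 :=
  block_comb c1223 b1224 (Nat.zero_le _) (Nat.le_of_ble_eq_true rfl) rfl

theorem c1225 : Block F al 0 156928 78205 :=
  block_comb c1224 b1225 (Nat.zero_le _) (Nat.le_of_ble_eq_true rfl) rfl

theorem c1226 : Block F al 0 157056 78333 :=
  block_comb c1225 b1226 (Nat.zero_le _) (Nat.le_of_ble_eq_true rfl) rfl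

theorem c1227 : Block F al 0 157184 78461 :=
  block_comb c1226 b1227 (Nat.zero_le _) (Nat.le_of_ble_eq_true rfl) rfl

theorem c1228 : Block F al 0 157312 78589 :=
  block_comb c1227 b1228 (Nat.zero_le _) (Nat.le_of_ble_eq_true rfl) rfl

theorem c1229 : Block F al 0 157440 78717 :=
  block_comb c1228 b1229 (Nat.zero_le _) (Nat.le_of_ble_eq_true rfl) rfl

theorem c1230 : Block F al 0 157568 78845 :=
  block_comb c1229 b1230 (Nat.zero_le _) (Nat.le_of_ble_eq_true rfl) rfl

theorem c1231 : Block F al 0 157696 78973 :=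
  block_comb c1230 b1231 (Nat.zero_le _) (Nat.le_of_ble_eq_true rfl) rfl

theorem c1232 : Block F al 0 157824 79101 :=
  block_comb c1231 b1232 (Nat.zero_le _) (Nat.le_of_ble_eq_true rfl) rfl

theorem c1233 : Block F al 0 157952 79229 :=
  block_comb c1232 b1233 (Nat.zero_le _) (Nat.le_of_ble_eq_true rfl) rfl

theorem c1234 : Block F al 0 158080 79357 :=
  block_comb c1233 b1234 (Nat.zero_le _) (Nat.le_of_ble_eq_true rfl) rfl

theorem c1235 : Block F al 0 158208 79485 :=
  block_comb c1234 b1235 (Nat.zero_le _) (Nat.le_of_ble_eq_true rfl) rfl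

theorem c1236 : Block F al 0 158336 79613 :=
  block_comb c1235 b1236 (Nat.zero_le _) (Nat.le_of_ble_eq_true rfl) rfl

theorem c1237 : Block F al 0 158464 79741 :=
  block_comb c1236 b1237 (Nat.zero_le _) (Nat.le_of_ble_eq_true rfl) rfl

theorem c1238 : Block F al 0 158592 79869 :=
  block_comb c1237 b1238 (Nat.zero_le _) (Nat.le_of_ble_eq_true rfl) rfl

theorem c1239 : Block F al 0 158720 79997 :=
  block_comb c1238 b1239 (Nat.zero_le _) (Nat.le_of_ble_eq_true rfl) rfl

theorem c1240 : Block F al 0 158848 80123 :=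
  block_comb c1239 b1240 (Nat.zero_le _) (Nat.le_of_ble_eq_true rfl) rfl

theorem c1241 : Block F al 0 158976 80244 :=
  block_comb c1240 b1241 (Nat.zero_le _) (Nat.le_of_ble_eq_true rfl) rfl

theorem c1242 : Block F al 0 159104 80372 :=
  block_comb c1241 b1242 (Nat.zero_le _) (Nat.le_of_ble_eq_true rfl) rfl

theorem c1243 : Block F al 0 159232 80500 :=
  block_comb c1242 b1243 (Nat.zero_le _) (Nat.le_of_ble_eq_true rfl) rfl

theorem c1244 : Block F al 0 159360 80628 :=
  block_comb c1243 b1244 (Nat.zero_le _) (Nat.le_of_ble_eq_true rfl) rfl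

theorem c1245 : Block F al 0 159488 80756 :=
  block_comb c1244 b1245 (Nat.zero_le _) (Nat.le_of_ble_eq_true rfl) rfl

theorem c1246 : Block F al 0 159616 80884 :=
  block_comb c1245 b1246 (Nat.zero_le _) (Nat.le_of_ble_eq_true rfl) rfl

theorem c1247 : Block F al 0 159744 81012 :=
  block_comb c1246 b1247 (Nat.zero_le _) (Nat.le_of_ble_eq_true rfl) rfl

theorem c1248 : Block F al 0 159872 81140 :=
  block_comb c1247 b1248 (Nat.zero_le _) (Nat.le_of_ble_eq_true rfl) rfl

theorem c1249 : Block F al 0 160000 81268 :=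
  block_comb c1248 b1249 (Nat.zero_le _) (Nat.le_of_ble_eq_true rfl) rfl

theorem c1250 : Block F al 0 160128 81396 :=
  block_comb c1249 b1250 (Nat.zero_le _) (Nat.le_of_ble_eq_true rfl) rfl

theorem c1251 : Block F al 0 160256 81521 :=
  block_comb c1250 b1251 (Nat.zero_le _) (Nat.le_of_ble_eq_true rfl) rfl

theorem c1252 : Block F al 0 160384 81649 :=
  block_comb c1251 b1252 (Nat.zero_le _) (Nat.le_of_ble_eq_true rfl) rfl

theorem c1253 : Block F al 0 160512 81777 :=
  block_comb c1252 b1253 (Nat.zero_le _) (Nat.le_of_ble_eq_true rfl) rfl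

theorem c1254 : Block F al 0 160640 81905 :=
  block_comb c1253 b1254 (Nat.zero_le _) (Nat.le_of_ble_eq_true rfl) rfl

theorem c1255 : Block F al 0 160768 82033 :=
  block_comb c1254 b1255 (Nat.zero_le _) (Nat.le_of_ble_eq_true rfl) rfl

theorem c1256 : Block F al 0 160896 82161 :=
  block_comb c1255 b1256 (Nat.zero_le _) (Nat.le_of_ble_eq_true rfl) rfl

theorem c1257 : Block F al 0 161024 82289 :=
  block_comb c1256 b1257 (Nat.zero_le _) (Nat.le_of_ble_eq_true rfl) rfl

theorem c1258 : Block F al 0 161152 82417 :=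
  block_comb c1257 b1258 (Nat.zero_le _) (Nat.le_of_ble_eq_true rfl) rfl

theorem c1259 : Block F al 0 161280 82545 :=
  block_comb c1258 b1259 (Nat.zero_le _) (Nat.le_of_ble_eq_true rfl) rfl

theorem c1260 : Block F al 0 161408 82673 :=
  block_comb c1259 b1260 (Nat.zero_le _) (Nat.le_of_ble_eq_true rfl) rfl

theorem c1261 : Block F al 0 161536 82801 :=
  block_comb c1260 b1261 (Nat.zero_le _) (Nat.le_of_ble_eq_true rfl) rfl

theorem c1262 : Block F al 0 161664 82929 :=
  block_comb c1261 b1262 (Nat.zero_le _) (Nat.le_of_ble_eq_true rfl) rfl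

theorem c1263 : Block F al 0 161792 83057 :=
  block_comb c1262 b1263 (Nat.zero_le _) (Nat.le_of_ble_eq_true rfl) rfl

theorem c1264 : Block F al 0 161920 83185 :=
  block_comb c1263 b1264 (Nat.zero_le _) (Nat.le_of_ble_eq_true rfl) rfl

theorem c1265 : Block F al 0 162048 83313 :=
  block_comb c1264 b1265 (Nat.zero_le _) (Nat.le_of_ble_eq_true rfl) rfl

theorem c1266 : Block F al 0 162176 83441 :=
  block_comb c1265 b1266 (Nat.zero_le _) (Nat.le_of_ble_eq_true rfl) rfl

theorem c1267 : Block F al 0 162304 83569 :=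
  block_comb c1266 b1267 (Nat.zero_le _) (Nat.le_of_ble_eq_true rfl) rfl

theorem c1268 : Block F al 0 162432 83697 :=
  block_comb c1267 b1268 (Nat.zero_le _) (Nat.le_of_ble_eq_true rfl) rfl

theorem c1269 : Block F al 0 162560 83825 :=
  block_comb c1268 b1269 (Nat.zero_le _) (Nat.le_of_ble_eq_true rfl) rfl

theorem c1270 : Block F al 0 162688 83953 :=
  block_comb c1269 b1270 (Nat.zero_le _) (Nat.le_of_ble_eq_true rfl) rfl

theorem c1271 : Block F al 0 162816 84081 :=
  block_comb c1270 b1271 (Nat.zero_le _) (Nat.le_of_ble_eq_true rfl) rfl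

theorem c1272 : Block F al 0 162944 84209 :=
  block_comb c1271 b1272 (Nat.zero_le _) (Nat.le_of_ble_eq_true rfl) rfl

theorem c1273 : Block F al 0 163072 84337 :=
  block_comb c1272 b1273 (Nat.zero_le _) (Nat.le_of_ble_eq_true rfl) rfl

theorem c1274 : Block F al 0 163200 84465 :=
  block_comb c1273 b1274 (Nat.zero_le _) (Nat.le_of_ble_eq_true rfl) rfl

theorem c1275 : Block F al 0 163328 84593 :=
  block_comb c1274 b1275 (Nat.zero_le _) (Nat.le_of_ble_eq_true rfl) rfl

theorem c1276 : Block F al 0 163456 84721 :=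
  block_comb c1275 b1276 (Nat.zero_le _) (Nat.le_of_ble_eq_true rfl) rfl

theorem c1277 : Block F al 0 163584 84849 :=
  block_comb c1276 b1277 (Nat.zero_le _) (Nat.le_of_ble_eq_true rfl) rfl

theorem c1278 : Block F al 0 163712 84977 :=
  block_comb c1277 b1278 (Nat.zero_le _) (Nat.le_of_ble_eq_true rfl) rfl

theorem c1279 : Block F al 0 163840 85105 :=
  block_comb c1278 b1279 (Nat.zero_le _) (Nat.le_of_ble_eq_true rfl) rfl

theorem c1280 : Block F al 0 163968 85233 :=
  block_comb c1279 b1280 (Nat.zero_le _) (Nat.le_of_ble_eq_true rfl) rfl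

theorem c1281 : Block F al 0 164096 85361 :=
  block_comb c1280 b1281 (Nat.zero_le _) (Nat.le_of_ble_eq_true rfl) rfl

theorem c1282 : Block F al 0 164224 85489 :=
  block_comb c1281 b1282 (Nat.zero_le _) (Nat.le_of_ble_eq_true rfl) rfl

theorem c1283 : Block F al 0 164352 85617 :=
  block_comb c1282 b1283 (Nat.zero_le _) (Nat.le_of_ble_eq_true rfl) rfl

theorem c1284 : Block F al 0 164480 85745 :=
  block_comb c1283 b1284 (Nat.zero_le _) (Nat.le_of_ble_eq_true rfl) rfl

theorem c1285 : Block F al 0 164608 85873 :=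
  block_comb c1284 b1285 (Nat.zero_le _) (Nat.le_of_ble_eq_true rfl) rfl

theorem c1286 : Block F al 0 164736 86001 :=
  block_comb c1285 b1286 (Nat.zero_le _) (Nat.le_of_ble_eq_true rfl) rfl

theorem c1287 : Block F al 0 164864 86129 :=
  block_comb c1286 b1287 (Nat.zero_le _) (Nat.le_of_ble_eq_true rfl) rfl

theorem c1288 : Block F al 0 164992 86257 :=
  block_comb c1287 b1288 (Nat.zero_le _) (Nat.le_of_ble_eq_true rfl) rfl

theorem c1289 : Block F al 0 165120 86385 :=
  block_comb c1288 b1289 (Nat.zero_le _) (Nat.le_of_ble_eq_true rfl) rfl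

theorem c1290 : Block F al 0 165248 86513 :=
  block_comb c1289 b1290 (Nat.zero_le _) (Nat.le_of_ble_eq_true rfl) rfl

theorem c1291 : Block F al 0 165376 86641 :=
  block_comb c1290 b1291 (Nat.zero_le _) (Nat.le_of_ble_eq_true rfl) rfl

theorem c1292 : Block F al 0 165504 86769 :=
  block_comb c1291 b1292 (Nat.zero_le _) (Nat.le_of_ble_eq_true rfl) rfl

theorem c1293 : Block F al 0 165632 86897 :=
  block_comb c1292 b1293 (Nat.zero_le _) (Nat.le_of_ble_eq_true rfl) rfl

theorem c1294 : Block F al 0 165760 87025 :=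
  block_comb c1293 b1294 (Nat.zero_le _) (Nat.le_of_ble_eq_true rfl) rfl

theorem c1295 : Block F al 0 165888 87153 :=
  block_comb c1294 b1295 (Nat.zero_le _) (Nat.le_of_ble_eq_true rfl) rfl

theorem c1296 : Block F al 0 166016 87281 :=
  block_comb c1295 b1296 (Nat.zero_le _) (Nat.le_of_ble_eq_true rfl) rfl

theorem c1297 : Block F al 0 166144 87409 :=
  block_comb c1296 b1297 (Nat.zero_le _) (Nat.le_of_ble_eq_true rfl) rfl

theorem c1298 : Block F al 0 166272 87537 :=
  block_comb c1297 b1298 (Nat.zero_le _) (Nat.le_of_ble_eq_true rfl) rfl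

theorem c1299 : Block F al 0 166400 87665 :=
  block_comb c1298 b1299 (Nat.zero_le _) (Nat.le_of_ble_eq_true rfl) rfl

theorem c1300 : Block F al 0 166528 87793 :=
  block_comb c1299 b1300 (Nat.zero_le _) (Nat.le_of_ble_eq_true rfl) rfl

theorem c1301 : Block F al 0 166656 87921 :=
  block_comb c1300 b1301 (Nat.zero_le _) (Nat.le_of_ble_eq_true rfl) rfl

theorem c1302 : Block F al 0 166784 88049 :=
  block_comb c1301 b1302 (Nat.zero_le _) (Nat.le_of_ble_eq_true rfl) rfl

theorem c1303 : Block F al 0 166912 88177 :=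
  block_comb c1302 b1303 (Nat.zero_le _) (Nat.le_of_ble_eq_true rfl) rfl

theorem c1304 : Block F al 0 167040 88305 :=
  block_comb c1303 b1304 (Nat.zero_le _) (Nat.le_of_ble_eq_true rfl) rfl

theorem c1305 : Block F al 0 167168 88433 :=
  block_comb c1304 b1305 (Nat.zero_le _) (Nat.le_of_ble_eq_true rfl) rfl

theorem c1306 : Block F al 0 167296 88561 :=
  block_comb c1305 b1306 (Nat.zero_le _) (Nat.le_of_ble_eq_true rfl) rfl

theorem c1307 : Block F al 0 167424 88688 :=
  block_comb c1306 b1307 (Nat.zero_le _) (Nat.le_of_ble_eq_true rfl) rfl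

theorem c1308 : Block F al 0 167552 88816 :=
  block_comb c1307 b1308 (Nat.zero_le _) (Nat.le_of_ble_eq_true rfl) rfl

theorem c1309 : Block F al 0 167680 88944 :=
  block_comb c1308 b1309 (Nat.zero_le _) (Nat.le_of_ble_eq_true rfl) rfl

theorem c1310 : Block F al 0 167808 89072 :=
  block_comb c1309 b1310 (Nat.zero_le _) (Nat.le_of_ble_eq_true rfl) rfl

theorem c1311 : Block F al 0 167936 89200 :=
  block_comb c1310 b1311 (Nat.zero_le _) (Nat.le_of_ble_eq_true rfl) rfl

theorem c1312 : Block F al 0 168064 89328 :=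
  block_comb c1311 b1312 (Nat.zero_le _) (Nat.le_of_ble_eq_true rfl) rfl

theorem c1313 : Block F al 0 168192 89456 :=
  block_comb c1312 b1313 (Nat.zero_le _) (Nat.le_of_ble_eq_true rfl) rfl

theorem c1314 : Block F al 0 168320 89584 :=
  block_comb c1313 b1314 (Nat.zero_le _) (Nat.le_of_ble_eq_true rfl) rfl

theorem c1315 : Block F al 0 168448 89712 :=
  block_comb c1314 b1315 (Nat.zero_le _) (Nat.le_of_ble_eq_true rfl) rfl

theorem c1316 : Block F al 0 168576 89840 :=
  block_comb c1315 b1316 (Nat.zero_le _) (Nat.le_of_ble_eq_true rfl) rfl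

theorem c1317 : Block F al 0 168704 89968 :=
  block_comb c1316 b1317 (Nat.zero_le _) (Nat.le_of_ble_eq_true rfl) rfl

theorem c1318 : Block F al 0 168832 90096 :=
  block_comb c1317 b1318 (Nat.zero_le _) (Nat.le_of_ble_eq_true rfl) rfl

theorem c1319 : Block F al 0 168960 90224 :=
  block_comb c1318 b1319 (Nat.zero_le _) (Nat.le_of_ble_eq_true rfl) rfl

theorem c1320 : Block F al 0 169088 90352 :=
  block_comb c1319 b1320 (Nat.zero_le _) (Nat.le_of_ble_eq_true rfl) rfl

theorem c1321 : Block F al 0 169216 90480 :=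
  block_comb c1320 b1321 (Nat.zero_le _) (Nat.le_of_ble_eq_true rfl) rfl

theorem c1322 : Block F al 0 169344 90608 :=
  block_comb c1321 b1322 (Nat.zero_le _) (Nat.le_of_ble_eq_true rfl) rfl

theorem c1323 : Block F al 0 169472 90736 :=
  block_comb c1322 b1323 (Nat.zero_le _) (Nat.le_of_ble_eq_true rfl) rfl

theorem c1324 : Block F al 0 169600 90864 :=
  block_comb c1323 b1324 (Nat.zero_le _) (Nat.le_of_ble_eq_true rfl) rfl

theorem c1325 : Block F al 0 169728 90992 :=
  block_comb c1324 b1325 (Nat.zero_le _) (Nat.le_of_ble_eq_true rfl) rfl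

theorem c1326 : Block F al 0 169856 91120 :=
  block_comb c1325 b1326 (Nat.zero_le _) (Nat.le_of_ble_eq_true rfl) rfl

theorem c1327 : Block F al 0 169984 91248 :=
  block_comb c1326 b1327 (Nat.zero_le _) (Nat.le_of_ble_eq_true rfl) rfl

theorem c1328 : Block F al 0 170112 91376 :=
  block_comb c1327 b1328 (Nat.zero_le _) (Nat.le_of_ble_eq_true rfl) rfl

theorem c1329 : Block F al 0 170240 91504 :=
  block_comb c1328 b1329 (Nat.zero_le _) (Nat.le_of_ble_eq_true rfl) rfl

theorem c1330 : Block F al 0 170368 91632 :=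
  block_comb c1329 b1330 (Nat.zero_le _) (Nat.le_of_ble_eq_true rfl) rfl

theorem c1331 : Block F al 0 170496 91760 :=
  block_comb c1330 b1331 (Nat.zero_le _) (Nat.le_of_ble_eq_true rfl) rfl

theorem c1332 : Block F al 0 170624 91888 :=
  block_comb c1331 b1332 (Nat.zero_le _) (Nat.le_of_ble_eq_true rfl) rfl

theorem c1333 : Block F al 0 170752 92016 :=
  block_comb c1332 b1333 (Nat.zero_le _) (Nat.le_of_ble_eq_true rfl) rfl

theorem c1334 : Block F al 0 170880 92144 :=
  block_comb c1333 b1334 (Nat.zero_le _) (Nat.le_of_ble_eq_true rfl) rfl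

theorem c1335 : Block F al 0 171008 92272 :=
  block_comb c1334 b1335 (Nat.zero_le _) (Nat.le_of_ble_eq_true rfl) rfl

theorem c1336 : Block F al 0 171136 92400 :=
  block_comb c1335 b1336 (Nat.zero_le _) (Nat.le_of_ble_eq_true rfl) rfl

theorem c1337 : Block F al 0 171264 92528 :=
  block_comb c1336 b1337 (Nat.zero_le _) (Nat.le_of_ble_eq_true rfl) rfl

theorem c1338 : Block F al 0 171392 92656 :=
  block_comb c1337 b1338 (Nat.zero_le _) (Nat.le_of_ble_eq_true rfl) rfl

theorem c1339 : Block F al 0 171520 92784 :=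
  block_comb c1338 b1339 (Nat.zero_le _) (Nat.le_of_ble_eq_true rfl) rfl

theorem c1340 : Block F al 0 171648 92912 :=
  block_comb c1339 b1340 (Nat.zero_le _) (Nat.le_of_ble_eq_true rfl) rfl

theorem c1341 : Block F al 0 171776 93040 :=
  block_comb c1340 b1341 (Nat.zero_le _) (Nat.le_of_ble_eq_true rfl) rfl

theorem c1342 : Block F al 0 171904 93168 :=
  block_comb c1341 b1342 (Nat.zero_le _) (Nat.le_of_ble_eq_true rfl) rfl

theorem c1343 : Block F al 0 172032 93296 :=
  block_comb c1342 b1343 (Nat.zero_le _) (Nat.le_of_ble_eq_true rfl) rfl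

theorem c1344 : Block F al 0 172160 93424 :=
  block_comb c1343 b1344 (Nat.zero_le _) (Nat.le_of_ble_eq_true rfl) rfl

theorem c1345 : Block F al 0 172288 93552 :=
  block_comb c1344 b1345 (Nat.zero_le _) (Nat.le_of_ble_eq_true rfl) rfl

theorem c1346 : Block F al 0 172416 93680 :=
  block_comb c1345 b1346 (Nat.zero_le _) (Nat.le_of_ble_eq_true rfl) rfl

theorem c1347 : Block F al 0 172544 93808 :=
  block_comb c1346 b1347 (Nat.zero_le _) (Nat.le_of_ble_eq_true rfl) rfl

theorem c1348 : Block F al 0 172672 93936 :=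
  block_comb c1347 b1348 (Nat.zero_le _) (Nat.le_of_ble_eq_true rfl) rfl

theorem c1349 : Block F al 0 172800 94064 :=
  block_comb c1348 b1349 (Nat.zero_le _) (Nat.le_of_ble_eq_true rfl) rfl

theorem c1350 : Block F al 0 172928 94192 :=
  block_comb c1349 b1350 (Nat.zero_le _) (Nat.le_of_ble_eq_true rfl) rfl

theorem c1351 : Block F al 0 173056 94320 :=
  block_comb c1350 b1351 (Nat.zero_le _) (Nat.le_of_ble_eq_true rfl) rfl

theorem c1352 : Block F al 0 173184 94448 :=
  block_comb c1351 b1352 (Nat.zero_le _) (Nat.le_of_ble_eq_true rfl) rfl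

theorem c1353 : Block F al 0 173312 94576 :=
  block_comb c1352 b1353 (Nat.zero_le _) (Nat.le_of_ble_eq_true rfl) rfl

theorem c1354 : Block F al 0 173440 94704 :=
  block_comb c1353 b1354 (Nat.zero_le _) (Nat.le_of_ble_eq_true rfl) rfl

theorem c1355 : Block F al 0 173568 94832 :=
  block_comb c1354 b1355 (Nat.zero_le _) (Nat.le_of_ble_eq_true rfl) rfl

theorem c1356 : Block F al 0 173696 94960 :=
  block_comb c1355 b1356 (Nat.zero_le _) (Nat.le_of_ble_eq_true rfl) rfl

theorem c1357 : Block F al 0 173824 95088 :=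
  block_comb c1356 b1357 (Nat.zero_le _) (Nat.le_of_ble_eq_true rfl) rfl

theorem c1358 : Block F al 0 173952 95216 :=
  block_comb c1357 b1358 (Nat.zero_le _) (Nat.le_of_ble_eq_true rfl) rfl

theorem c1359 : Block F al 0 174080 95344 :=
  block_comb c1358 b1359 (Nat.zero_le _) (Nat.le_of_ble_eq_true rfl) rfl

theorem c1360 : Block F al 0 174208 95472 :=
  block_comb c1359 b1360 (Nat.zero_le _) (Nat.le_of_ble_eq_true rfl) rfl

theorem c1361 : Block F al 0 174336 95600 :=
  block_comb c1360 b1361 (Nat.zero_le _) (Nat.le_of_ble_eq_true rfl) rfl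

theorem c1362 : Block F al 0 174464 95728 :=
  block_comb c1361 b1362 (Nat.zero_le _) (Nat.le_of_ble_eq_true rfl) rfl

theorem c1363 : Block F al 0 174592 95856 :=
  block_comb c1362 b1363 (Nat.zero_le _) (Nat.le_of_ble_eq_true rfl) rfl

theorem c1364 : Block F al 0 174720 95984 :=
  block_comb c1363 b1364 (Nat.zero_le _) (Nat.le_of_ble_eq_true rfl) rfl

theorem c1365 : Block F al 0 174848 96112 :=
  block_comb c1364 b1365 (Nat.zero_le _) (Nat.le_of_ble_eq_true rfl) rfl

theorem c1366 : Block F al 0 174976 96240 :=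
  block_comb c1365 b1366 (Nat.zero_le _) (Nat.le_of_ble_eq_true rfl) rfl

theorem c1367 : Block F al 0 175104 96368 :=
  block_comb c1366 b1367 (Nat.zero_le _) (Nat.le_of_ble_eq_true rfl) rfl

theorem c1368 : Block F al 0 175232 96496 :=
  block_comb c1367 b1368 (Nat.zero_le _) (Nat.le_of_ble_eq_true rfl) rfl

theorem c1369 : Block F al 0 175360 96624 :=
  block_comb c1368 b1369 (Nat.zero_le _) (Nat.le_of_ble_eq_true rfl) rfl

theorem c1370 : Block F al 0 175488 96752 :=
  block_comb c1369 b1370 (Nat.zero_le _) (Nat.le_of_ble_eq_true rfl) rfl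

theorem c1371 : Block F al 0 175616 96880 :=
  block_comb c1370 b1371 (Nat.zero_le _) (Nat.le_of_ble_eq_true rfl) rfl

theorem c1372 : Block F al 0 175744 97008 :=
  block_comb c1371 b1372 (Nat.zero_le _) (Nat.le_of_ble_eq_true rfl) rfl

theorem c1373 : Block F al 0 175872 97136 :=
  block_comb c1372 b1373 (Nat.zero_le _) (Nat.le_of_ble_eq_true rfl) rfl

theorem c1374 : Block F al 0 176000 97264 :=
  block_comb c1373 b1374 (Nat.zero_le _) (Nat.le_of_ble_eq_true rfl) rfl

theorem c1375 : Block F al 0 176128 97392 :=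
  block_comb c1374 b1375 (Nat.zero_le _) (Nat.le_of_ble_eq_true rfl) rfl

theorem c1376 : Block F al 0 176256 97520 :=
  block_comb c1375 b1376 (Nat.zero_le _) (Nat.le_of_ble_eq_true rfl) rfl

theorem c1377 : Block F al 0 176384 97648 :=
  block_comb c1376 b1377 (Nat.zero_le _) (Nat.le_of_ble_eq_true rfl) rfl

theorem c1378 : Block F al 0 176512 97776 :=
  block_comb c1377 b1378 (Nat.zero_le _) (Nat.le_of_ble_eq_true rfl) rfl

theorem c1379 : Block F al 0 176640 97904 :=
  block_comb c1378 b1379 (Nat.zero_le _) (Nat.le_of_ble_eq_true rfl) rfl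

theorem c1380 : Block F al 0 176768 98032 :=
  block_comb c1379 b1380 (Nat.zero_le _) (Nat.le_of_ble_eq_true rfl) rfl

theorem c1381 : Block F al 0 176896 98160 :=
  block_comb c1380 b1381 (Nat.zero_le _) (Nat.le_of_ble_eq_true rfl) rfl

theorem c1382 : Block F al 0 177024 98288 :=
  block_comb c1381 b1382 (Nat.zero_le _) (Nat.le_of_ble_eq_true rfl) rfl

theorem c1383 : Block F al 0 177152 98416 :=
  block_comb c1382 b1383 (Nat.zero_le _) (Nat.le_of_ble_eq_true rfl) rfl

theorem c1384 : Block F al 0 177280 98544 :=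
  block_comb c1383 b1384 (Nat.zero_le _) (Nat.le_of_ble_eq_true rfl) rfl

theorem c1385 : Block F al 0 177408 98672 :=
  block_comb c1384 b1385 (Nat.zero_le _) (Nat.le_of_ble_eq_true rfl) rfl

theorem c1386 : Block F al 0 177536 98800 :=
  block_comb c1385 b1386 (Nat.zero_le _) (Nat.le_of_ble_eq_true rfl) rfl

theorem c1387 : Block F al 0 177664 98928 :=
  block_comb c1386 b1387 (Nat.zero_le _) (Nat.le_of_ble_eq_true rfl) rfl

theorem c1388 : Block F al 0 177792 99056 :=
  block_comb c1387 b1388 (Nat.zero_le _) (Nat.le_of_ble_eq_true rfl) rfl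

theorem c1389 : Block F al 0 177920 99184 :=
  block_comb c1388 b1389 (Nat.zero_le _) (Nat.le_of_ble_eq_true rfl) rfl

theorem c1390 : Block F al 0 178048 99312 :=
  block_comb c1389 b1390 (Nat.zero_le _) (Nat.le_of_ble_eq_true rfl) rfl

theorem c1391 : Block F al 0 178176 99440 :=
  block_comb c1390 b1391 (Nat.zero_le _) (Nat.le_of_ble_eq_true rfl) rfl

theorem c1392 : Block F al 0 178304 99568 :=
  block_comb c1391 b1392 (Nat.zero_le _) (Nat.le_of_ble_eq_true rfl) rfl

theorem c1393 : Block F al 0 178432 99696 :=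
  block_comb c1392 b1393 (Nat.zero_le _) (Nat.le_of_ble_eq_true rfl) rfl

theorem c1394 : Block F al 0 178560 99824 :=
  block_comb c1393 b1394 (Nat.zero_le _) (Nat.le_of_ble_eq_true rfl) rfl

theorem c1395 : Block F al 0 178688 99952 :=
  block_comb c1394 b1395 (Nat.zero_le _) (Nat.le_of_ble_eq_true rfl) rfl

theorem c1396 : Block F al 0 178816 100080 :=
  block_comb c1395 b1396 (Nat.zero_le _) (Nat.le_of_ble_eq_true rfl) rfl

theorem c1397 : Block F al 0 178944 100208 :=
  block_comb c1396 b1397 (Nat.zero_le _) (Nat.le_of_ble_eq_true rfl) rfl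

theorem c1398 : Block F al 0 179072 100336 :=
  block_comb c1397 b1398 (Nat.zero_le _) (Nat.le_of_ble_eq_true rfl) rfl

theorem c1399 : Block F al 0 179200 100464 :=
  block_comb c1398 b1399 (Nat.zero_le _) (Nat.le_of_ble_eq_true rfl) rfl

theorem c1400 : Block F al 0 179328 100592 :=
  block_comb c1399 b1400 (Nat.zero_le _) (Nat.le_of_ble_eq_true rfl) rfl

theorem c1401 : Block F al 0 179456 100720 :=
  block_comb c1400 b1401 (Nat.zero_le _) (Nat.le_of_ble_eq_true rfl) rfl

theorem c1402 : Block F al 0 179584 100848 :=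
  block_comb c1401 b1402 (Nat.zero_le _) (Nat.le_of_ble_eq_true rfl) rfl

theorem c1403 : Block F al 0 179712 100976 :=
  block_comb c1402 b1403 (Nat.zero_le _) (Nat.le_of_ble_eq_true rfl) rfl

theorem c1404 : Block F al 0 179840 101104 :=
  block_comb c1403 b1404 (Nat.zero_le _) (Nat.le_of_ble_eq_true rfl) rfl

theorem c1405 : Block F al 0 179968 101232 :=
  block_comb c1404 b1405 (Nat.zero_le _) (Nat.le_of_ble_eq_true rfl) rfl

theorem c1406 : Block F al 0 180096 101360 :=
  block_comb c1405 b1406 (Nat.zero_le _) (Nat.le_of_ble_eq_true rfl) rfl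

theorem c1407 : Block F al 0 180224 101488 :=
  block_comb c1406 b1407 (Nat.zero_le _) (Nat.le_of_ble_eq_true rfl) rfl

theorem c1408 : Block F al 0 180352 101616 :=
  block_comb c1407 b1408 (Nat.zero_le _) (Nat.le_of_ble_eq_true rfl) rfl

theorem c1409 : Block F al 0 180480 101744 :=
  block_comb c1408 b1409 (Nat.zero_le _) (Nat.le_of_ble_eq_true rfl) rfl

theorem c1410 : Block F al 0 180608 101872 :=
  block_comb c1409 b1410 (Nat.zero_le _) (Nat.le_of_ble_eq_true rfl) rfl

theorem c1411 : Block F al 0 180736 102000 :=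
  block_comb c1410 b1411 (Nat.zero_le _) (Nat.le_of_ble_eq_true rfl) rfl

theorem c1412 : Block F al 0 180864 102128 :=
  block_comb c1411 b1412 (Nat.zero_le _) (Nat.le_of_ble_eq_true rfl) rfl

theorem c1413 : Block F al 0 180992 102256 :=
  block_comb c1412 b1413 (Nat.zero_le _) (Nat.le_of_ble_eq_true rfl) rfl

theorem c1414 : Block F al 0 181120 102384 :=
  block_comb c1413 b1414 (Nat.zero_le _) (Nat.le_of_ble_eq_true rfl) rfl

theorem c1415 : Block F al 0 181248 102512 :=
  block_comb c1414 b1415 (Nat.zero_le _) (Nat.le_of_ble_eq_true rfl) rfl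

theorem c1416 : Block F al 0 181376 102640 :=
  block_comb c1415 b1416 (Nat.zero_le _) (Nat.le_of_ble_eq_true rfl) rfl

theorem c1417 : Block F al 0 181504 102768 :=
  block_comb c1416 b1417 (Nat.zero_le _) (Nat.le_of_ble_eq_true rfl) rfl

theorem c1418 : Block F al 0 181632 102896 :=
  block_comb c1417 b1418 (Nat.zero_le _) (Nat.le_of_ble_eq_true rfl) rfl

theorem c1419 : Block F al 0 181760 103024 :=
  block_comb c1418 b1419 (Nat.zero_le _) (Nat.le_of_ble_eq_true rfl) rfl

theorem c1420 : Block F al 0 181888 103152 :=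
  block_comb c1419 b1420 (Nat.zero_le _) (Nat.le_of_ble_eq_true rfl) rfl

theorem c1421 : Block F al 0 182016 103280 :=
  block_comb c1420 b1421 (Nat.zero_le _) (Nat.le_of_ble_eq_true rfl) rfl

theorem c1422 : Block F al 0 182144 103408 :=
  block_comb c1421 b1422 (Nat.zero_le _) (Nat.le_of_ble_eq_true rfl) rfl

theorem c1423 : Block F al 0 182272 103536 :=
  block_comb c1422 b1423 (Nat.zero_le _) (Nat.le_of_ble_eq_true rfl) rfl

theorem c1424 : Block F al 0 182400 103664 :=
  block_comb c1423 b1424 (Nat.zero_le _) (Nat.le_of_ble_eq_true rfl) rfl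

theorem c1425 : Block F al 0 182528 103792 :=
  block_comb c1424 b1425 (Nat.zero_le _) (Nat.le_of_ble_eq_true rfl) rfl

theorem c1426 : Block F al 0 182656 103920 :=
  block_comb c1425 b1426 (Nat.zero_le _) (Nat.le_of_ble_eq_true rfl) rfl

theorem c1427 : Block F al 0 182784 104048 :=
  block_comb c1426 b1427 (Nat.zero_le _) (Nat.le_of_ble_eq_true rfl) rfl

theorem c1428 : Block F al 0 182912 104176 :=
  block_comb c1427 b1428 (Nat.zero_le _) (Nat.le_of_ble_eq_true rfl) rfl

theorem c1429 : Block F al 0 183040 104304 :=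
  block_comb c1428 b1429 (Nat.zero_le _) (Nat.le_of_ble_eq_true rfl) rfl

theorem c1430 : Block F al 0 183168 104432 :=
  block_comb c1429 b1430 (Nat.zero_le _) (Nat.le_of_ble_eq_true rfl) rfl

theorem c1431 : Block F al 0 183296 104560 :=
  block_comb c1430 b1431 (Nat.zero_le _) (Nat.le_of_ble_eq_true rfl) rfl

theorem c1432 : Block F al 0 183424 104688 :=
  block_comb c1431 b1432 (Nat.zero_le _) (Nat.le_of_ble_eq_true rfl) rfl

theorem c1433 : Block F al 0 183552 104816 :=
  block_comb c1432 b1433 (Nat.zero_le _) (Nat.le_of_ble_eq_true rfl) rfl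

theorem c1434 : Block F al 0 183680 104944 :=
  block_comb c1433 b1434 (Nat.zero_le _) (Nat.le_of_ble_eq_true rfl) rfl

theorem c1435 : Block F al 0 183808 105072 :=
  block_comb c1434 b1435 (Nat.zero_le _) (Nat.le_of_ble_eq_true rfl) rfl

theorem c1436 : Block F al 0 183936 105200 :=
  block_comb c1435 b1436 (Nat.zero_le _) (Nat.le_of_ble_eq_true rfl) rfl

theorem c1437 : Block F al 0 184064 105328 :=
  block_comb c1436 b1437 (Nat.zero_le _) (Nat.le_of_ble_eq_true rfl) rfl

theorem c1438 : Block F al 0 184192 105456 :=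
  block_comb c1437 b1438 (Nat.zero_le _) (Nat.le_of_ble_eq_true rfl) rfl

theorem c1439 : Block F al 0 184320 105584 :=
  block_comb c1438 b1439 (Nat.zero_le _) (Nat.le_of_ble_eq_true rfl) rfl

theorem c1440 : Block F al 0 184448 105712 :=
  block_comb c1439 b1440 (Nat.zero_le _) (Nat.le_of_ble_eq_true rfl) rfl

theorem c1441 : Block F al 0 184576 105840 :=
  block_comb c1440 b1441 (Nat.zero_le _) (Nat.le_of_ble_eq_true rfl) rfl

theorem c1442 : Block F al 0 184704 105968 :=
  block_comb c1441 b1442 (Nat.zero_le _) (Nat.le_of_ble_eq_true rfl) rfl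

theorem c1443 : Block F al 0 184832 106096 :=
  block_comb c1442 b1443 (Nat.zero_le _) (Nat.le_of_ble_eq_true rfl) rfl

theorem c1444 : Block F al 0 184960 106224 :=
  block_comb c1443 b1444 (Nat.zero_le _) (Nat.le_of_ble_eq_true rfl) rfl

theorem c1445 : Block F al 0 185088 106352 :=
  block_comb c1444 b1445 (Nat.zero_le _) (Nat.le_of_ble_eq_true rfl) rfl

theorem c1446 : Block F al 0 185216 106480 :=
  block_comb c1445 b1446 (Nat.zero_le _) (Nat.le_of_ble_eq_true rfl) rfl

theorem c1447 : Block F al 0 185344 106608 :=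
  block_comb c1446 b1447 (Nat.zero_le _) (Nat.le_of_ble_eq_true rfl) rfl

theorem c1448 : Block F al 0 185472 106736 :=
  block_comb c1447 b1448 (Nat.zero_le _) (Nat.le_of_ble_eq_true rfl) rfl

theorem c1449 : Block F al 0 185600 106864 :=
  block_comb c1448 b1449 (Nat.zero_le _) (Nat.le_of_ble_eq_true rfl) rfl

theorem c1450 : Block F al 0 185728 106992 :=
  block_comb c1449 b1450 (Nat.zero_le _) (Nat.le_of_ble_eq_true rfl) rfl

theorem c1451 : Block F al 0 185856 107120 :=
  block_comb c1450 b1451 (Nat.zero_le _) (Nat.le_of_ble_eq_true rfl) rfl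

theorem c1452 : Block F al 0 185984 107248 :=
  block_comb c1451 b1452 (Nat.zero_le _) (Nat.le_of_ble_eq_true rfl) rfl

theorem c1453 : Block F al 0 186112 107376 :=
  block_comb c1452 b1453 (Nat.zero_le _) (Nat.le_of_ble_eq_true rfl) rfl

theorem c1454 : Block F al 0 186240 107504 :=
  block_comb c1453 b1454 (Nat.zero_le _) (Nat.le_of_ble_eq_true rfl) rfl

theorem c1455 : Block F al 0 186368 107632 :=
  block_comb c1454 b1455 (Nat.zero_le _) (Nat.le_of_ble_eq_true rfl) rfl

theorem c1456 : Block F al 0 186496 107760 :=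
  block_comb c1455 b1456 (Nat.zero_le _) (Nat.le_of_ble_eq_true rfl) rfl

theorem c1457 : Block F al 0 186624 107888 :=
  block_comb c1456 b1457 (Nat.zero_le _) (Nat.le_of_ble_eq_true rfl) rfl

theorem c1458 : Block F al 0 186752 108016 :=
  block_comb c1457 b1458 (Nat.zero_le _) (Nat.le_of_ble_eq_true rfl) rfl

theorem c1459 : Block F al 0 186880 108144 :=
  block_comb c1458 b1459 (Nat.zero_le _) (Nat.le_of_ble_eq_true rfl) rfl

theorem c1460 : Block F al 0 187008 108272 :=
  block_comb c1459 b1460 (Nat.zero_le _) (Nat.le_of_ble_eq_true rfl) rfl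

theorem c1461 : Block F al 0 187136 108400 :=
  block_comb c1460 b1461 (Nat.zero_le _) (Nat.le_of_ble_eq_true rfl) rfl

theorem c1462 : Block F al 0 187264 108528 :=
  block_comb c1461 b1462 (Nat.zero_le _) (Nat.le_of_ble_eq_true rfl) rfl

theorem c1463 : Block F al 0 187392 108656 :=
  block_comb c1462 b1463 (Nat.zero_le _) (Nat.le_of_ble_eq_true rfl) rfl

theorem c1464 : Block F al 0 187520 108784 :=
  block_comb c1463 b1464 (Nat.zero_le _) (Nat.le_of_ble_eq_true rfl) rfl

theorem c1465 : Block F al 0 187648 108912 :=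
  block_comb c1464 b1465 (Nat.zero_le _) (Nat.le_of_ble_eq_true rfl) rfl

theorem c1466 : Block F al 0 187776 109040 :=
  block_comb c1465 b1466 (Nat.zero_le _) (Nat.le_of_ble_eq_true rfl) rfl

theorem c1467 : Block F al 0 187904 109168 :=
  block_comb c1466 b1467 (Nat.zero_le _) (Nat.le_of_ble_eq_true rfl) rfl

theorem c1468 : Block F al 0 188032 109296 :=
  block_comb c1467 b1468 (Nat.zero_le _) (Nat.le_of_ble_eq_true rfl) rfl

theorem c1469 : Block F al 0 188160 109424 :=
  block_comb c1468 b1469 (Nat.zero_le _) (Nat.le_of_ble_eq_true rfl) rfl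

theorem c1470 : Block F al 0 188288 109552 :=
  block_comb c1469 b1470 (Nat.zero_le _) (Nat.le_of_ble_eq_true rfl) rfl

theorem c1471 : Block F al 0 188416 109680 :=
  block_comb c1470 b1471 (Nat.zero_le _) (Nat.le_of_ble_eq_true rfl) rfl

theorem c1472 : Block F al 0 188544 109808 :=
  block_comb c1471 b1472 (Nat.zero_le _) (Nat.le_of_ble_eq_true rfl) rfl

theorem c1473 : Block F al 0 188672 109936 :=
  block_comb c1472 b1473 (Nat.zero_le _) (Nat.le_of_ble_eq_true rfl) rfl

theorem c1474 : Block F al 0 188800 110064 :=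
  block_comb c1473 b1474 (Nat.zero_le _) (Nat.le_of_ble_eq_true rfl) rfl

theorem c1475 : Block F al 0 188928 110192 :=
  block_comb c1474 b1475 (Nat.zero_le _) (Nat.le_of_ble_eq_true rfl) rfl

theorem c1476 : Block F al 0 189056 110320 :=
  block_comb c1475 b1476 (Nat.zero_le _) (Nat.le_of_ble_eq_true rfl) rfl

theorem c1477 : Block F al 0 189184 110448 :=
  block_comb c1476 b1477 (Nat.zero_le _) (Nat.le_of_ble_eq_true rfl) rfl

theorem c1478 : Block F al 0 189312 110576 :=
  block_comb c1477 b1478 (Nat.zero_le _) (Nat.le_of_ble_eq_true rfl) rfl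

theorem c1479 : Block F al 0 189440 110704 :=
  block_comb c1478 b1479 (Nat.zero_le _) (Nat.le_of_ble_eq_true rfl) rfl

theorem c1480 : Block F al 0 189568 110832 :=
  block_comb c1479 b1480 (Nat.zero_le _) (Nat.le_of_ble_eq_true rfl) rfl

theorem c1481 : Block F al 0 189696 110960 :=
  block_comb c1480 b1481 (Nat.zero_le _) (Nat.le_of_ble_eq_true rfl) rfl

theorem c1482 : Block F al 0 189824 111088 :=
  block_comb c1481 b1482 (Nat.zero_le _) (Nat.le_of_ble_eq_true rfl) rfl

theorem c1483 : Block F al 0 189952 111216 :=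
  block_comb c1482 b1483 (Nat.zero_le _) (Nat.le_of_ble_eq_true rfl) rfl

theorem c1484 : Block F al 0 190080 111344 :=
  block_comb c1483 b1484 (Nat.zero_le _) (Nat.le_of_ble_eq_true rfl) rfl

theorem c1485 : Block F al 0 190208 111472 :=
  block_comb c1484 b1485 (Nat.zero_le _) (Nat.le_of_ble_eq_true rfl) rfl

theorem c1486 : Block F al 0 190336 111600 :=
  block_comb c1485 b1486 (Nat.zero_le _) (Nat.le_of_ble_eq_true rfl) rfl

theorem c1487 : Block F al 0 190464 111728 :=
  block_comb c1486 b1487 (Nat.zero_le _) (Nat.le_of_ble_eq_true rfl) rfl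

theorem c1488 : Block F al 0 190592 111856 :=
  block_comb c1487 b1488 (Nat.zero_le _) (Nat.le_of_ble_eq_true rfl) rfl

theorem c1489 : Block F al 0 190720 111984 :=
  block_comb c1488 b1489 (Nat.zero_le _) (Nat.le_of_ble_eq_true rfl) rfl

theorem c1490 : Block F al 0 190848 112112 :=
  block_comb c1489 b1490 (Nat.zero_le _) (Nat.le_of_ble_eq_true rfl) rfl

theorem c1491 : Block F al 0 190976 112240 :=
  block_comb c1490 b1491 (Nat.zero_le _) (Nat.le_of_ble_eq_true rfl) rfl

theorem c1492 : Block F al 0 191104 112368 :=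
  block_comb c1491 b1492 (Nat.zero_le _) (Nat.le_of_ble_eq_true rfl) rfl

theorem c1493 : Block F al 0 191232 112496 :=
  block_comb c1492 b1493 (Nat.zero_le _) (Nat.le_of_ble_eq_true rfl) rfl

theorem c1494 : Block F al 0 191360 112624 :=
  block_comb c1493 b1494 (Nat.zero_le _) (Nat.le_of_ble_eq_true rfl) rfl

theorem c1495 : Block F al 0 191488 112752 :=
  block_comb c1494 b1495 (Nat.zero_le _) (Nat.le_of_ble_eq_true rfl) rfl

theorem c1496 : Block F al 0 191616 112880 :=
  block_comb c1495 b1496 (Nat.zero_le _) (Nat.le_of_ble_eq_true rfl) rfl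

theorem c1497 : Block F al 0 191744 113008 :=
  block_comb c1496 b1497 (Nat.zero_le _) (Nat.le_of_ble_eq_true rfl) rfl

theorem c1498 : Block F al 0 191872 113136 :=
  block_comb c1497 b1498 (Nat.zero_le _) (Nat.le_of_ble_eq_true rfl) rfl

theorem c1499 : Block F al 0 192000 113264 :=
  block_comb c1498 b1499 (Nat.zero_le _) (Nat.le_of_ble_eq_true rfl) rfl

theorem c1500 : Block F al 0 192128 113392 :=
  block_comb c1499 b1500 (Nat.zero_le _) (Nat.le_of_ble_eq_true rfl) rfl

theorem c1501 : Block F al 0 192256 113520 :=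
  block_comb c1500 b1501 (Nat.zero_le _) (Nat.le_of_ble_eq_true rfl) rfl

theorem c1502 : Block F al 0 192384 113648 :=
  block_comb c1501 b1502 (Nat.zero_le _) (Nat.le_of_ble_eq_true rfl) rfl

theorem c1503 : Block F al 0 192512 113776 :=
  block_comb c1502 b1503 (Nat.zero_le _) (Nat.le_of_ble_eq_true rfl) rfl

theorem c1504 : Block F al 0 192640 113904 :=
  block_comb c1503 b1504 (Nat.zero_le _) (Nat.le_of_ble_eq_true rfl) rfl

theorem c1505 : Block F al 0 192768 114032 :=
  block_comb c1504 b1505 (Nat.zero_le _) (Nat.le_of_ble_eq_true rfl) rfl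

theorem c1506 : Block F al 0 192896 114160 :=
  block_comb c1505 b1506 (Nat.zero_le _) (Nat.le_of_ble_eq_true rfl) rfl

theorem c1507 : Block F al 0 193024 114288 :=
  block_comb c1506 b1507 (Nat.zero_le _) (Nat.le_of_ble_eq_true rfl) rfl

theorem c1508 : Block F al 0 193152 114416 :=
  block_comb c1507 b1508 (Nat.zero_le _) (Nat.le_of_ble_eq_true rfl) rfl

theorem c1509 : Block F al 0 193280 114544 :=
  block_comb c1508 b1509 (Nat.zero_le _) (Nat.le_of_ble_eq_true rfl) rfl

theorem c1510 : Block F al 0 193408 114672 :=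
  block_comb c1509 b1510 (Nat.zero_le _) (Nat.le_of_ble_eq_true rfl) rfl

theorem c1511 : Block F al 0 193536 114800 :=
  block_comb c1510 b1511 (Nat.zero_le _) (Nat.le_of_ble_eq_true rfl) rfl

theorem c1512 : Block F al 0 193664 114928 :=
  block_comb c1511 b1512 (Nat.zero_le _) (Nat.le_of_ble_eq_true rfl) rfl

theorem c1513 : Block F al 0 193792 115056 :=
  block_comb c1512 b1513 (Nat.zero_le _) (Nat.le_of_ble_eq_true rfl) rfl

theorem c1514 : Block F al 0 193920 115184 :=
  block_comb c1513 b1514 (Nat.zero_le _) (Nat.le_of_ble_eq_true rfl) rfl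

theorem c1515 : Block F al 0 194048 115312 :=
  block_comb c1514 b1515 (Nat.zero_le _) (Nat.le_of_ble_eq_true rfl) rfl

theorem c1516 : Block F al 0 194176 115440 :=
  block_comb c1515 b1516 (Nat.zero_le _) (Nat.le_of_ble_eq_true rfl) rfl

theorem c1517 : Block F al 0 194304 115568 :=
  block_comb c1516 b1517 (Nat.zero_le _) (Nat.le_of_ble_eq_true rfl) rfl

theorem c1518 : Block F al 0 194432 115696 :=
  block_comb c1517 b1518 (Nat.zero_le _) (Nat.le_of_ble_eq_true rfl) rfl

theorem c1519 : Block F al 0 194560 115824 :=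
  block_comb c1518 b1519 (Nat.zero_le _) (Nat.le_of_ble_eq_true rfl) rfl

theorem c1520 : Block F al 0 194688 115952 :=
  block_comb c1519 b1520 (Nat.zero_le _) (Nat.le_of_ble_eq_true rfl) rfl

theorem c1521 : Block F al 0 194816 116080 :=
  block_comb c1520 b1521 (Nat.zero_le _) (Nat.le_of_ble_eq_true rfl) rfl

theorem c1522 : Block F al 0 194944 116208 :=
  block_comb c1521 b1522 (Nat.zero_le _) (Nat.le_of_ble_eq_true rfl) rfl

theorem c1523 : Block F al 0 195072 116336 :=
  block_comb c1522 b1523 (Nat.zero_le _) (Nat.le_of_ble_eq_true rfl) rfl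

theorem c1524 : Block F al 0 195200 116464 :=
  block_comb c1523 b1524 (Nat.zero_le _) (Nat.le_of_ble_eq_true rfl) rfl

theorem c1525 : Block F al 0 195328 116592 :=
  block_comb c1524 b1525 (Nat.zero_le _) (Nat.le_of_ble_eq_true rfl) rfl

theorem c1526 : Block F al 0 195456 116720 :=
  block_comb c1525 b1526 (Nat.zero_le _) (Nat.le_of_ble_eq_true rfl) rfl

theorem c1527 : Block F al 0 195584 116848 :=
  block_comb c1526 b1527 (Nat.zero_le _) (Nat.le_of_ble_eq_true rfl) rfl

theorem c1528 : Block F al 0 195712 116976 :=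
  block_comb c1527 b1528 (Nat.zero_le _) (Nat.le_of_ble_eq_true rfl) rfl

theorem c1529 : Block F al 0 195840 117104 :=
  block_comb c1528 b1529 (Nat.zero_le _) (Nat.le_of_ble_eq_true rfl) rfl

theorem c1530 : Block F al 0 195968 117232 :=
  block_comb c1529 b1530 (Nat.zero_le _) (Nat.le_of_ble_eq_true rfl) rfl

theorem c1531 : Block F al 0 196096 117360 :=
  block_comb c1530 b1531 (Nat.zero_le _) (Nat.le_of_ble_eq_true rfl) rfl

theorem c1532 : Block F al 0 196224 117488 :=
  block_comb c1531 b1532 (Nat.zero_le _) (Nat.le_of_ble_eq_true rfl) rfl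

theorem c1533 : Block F al 0 196352 117616 :=
  block_comb c1532 b1533 (Nat.zero_le _) (Nat.le_of_ble_eq_true rfl) rfl

theorem c1534 : Block F al 0 196480 117744 :=
  block_comb c1533 b1534 (Nat.zero_le _) (Nat.le_of_ble_eq_true rfl) rfl

theorem c1535 : Block F al 0 196608 117872 :=
  block_comb c1534 b1535 (Nat.zero_le _) (Nat.le_of_ble_eq_true rfl) rfl

theorem c1536 : Block F al 0 196736 118000 :=
  block_comb c1535 b1536 (Nat.zero_le _) (Nat.le_of_ble_eq_true rfl) rfl

theorem c1537 : Block F al 0 196864 118128 :=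
  block_comb c1536 b1537 (Nat.zero_le _) (Nat.le_of_ble_eq_true rfl) rfl

theorem c1538 : Block F al 0 196992 118256 :=
  block_comb c1537 b1538 (Nat.zero_le _) (Nat.le_of_ble_eq_true rfl) rfl

theorem c1539 : Block F al 0 197120 118384 :=
  block_comb c1538 b1539 (Nat.zero_le _) (Nat.le_of_ble_eq_true rfl) rfl

theorem c1540 : Block F al 0 197248 118512 :=
  block_comb c1539 b1540 (Nat.zero_le _) (Nat.le_of_ble_eq_true rfl) rfl

theorem c1541 : Block F al 0 197376 118640 :=
  block_comb c1540 b1541 (Nat.zero_le _) (Nat.le_of_ble_eq_true rfl) rfl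

theorem c1542 : Block F al 0 197504 118768 :=
  block_comb c1541 b1542 (Nat.zero_le _) (Nat.le_of_ble_eq_true rfl) rfl

theorem c1543 : Block F al 0 197632 118896 :=
  block_comb c1542 b1543 (Nat.zero_le _) (Nat.le_of_ble_eq_true rfl) rfl

theorem c1544 : Block F al 0 197760 119024 :=
  block_comb c1543 b1544 (Nat.zero_le _) (Nat.le_of_ble_eq_true rfl) rfl

theorem c1545 : Block F al 0 197888 119152 :=
  block_comb c1544 b1545 (Nat.zero_le _) (Nat.le_of_ble_eq_true rfl) rfl

theorem c1546 : Block F al 0 198016 119280 :=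
  block_comb c1545 b1546 (Nat.zero_le _) (Nat.le_of_ble_eq_true rfl) rfl

theorem c1547 : Block F al 0 198144 119408 :=
  block_comb c1546 b1547 (Nat.zero_le _) (Nat.le_of_ble_eq_true rfl) rfl

theorem c1548 : Block F al 0 198272 119536 :=
  block_comb c1547 b1548 (Nat.zero_le _) (Nat.le_of_ble_eq_true rfl) rfl

theorem c1549 : Block F al 0 198400 119664 :=
  block_comb c1548 b1549 (Nat.zero_le _) (Nat.le_of_ble_eq_true rfl) rfl

theorem c1550 : Block F al 0 198528 119792 :=
  block_comb c1549 b1550 (Nat.zero_le _) (Nat.le_of_ble_eq_true rfl) rfl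

theorem c1551 : Block F al 0 198656 119920 :=
  block_comb c1550 b1551 (Nat.zero_le _) (Nat.le_of_ble_eq_true rfl) rfl

theorem c1552 : Block F al 0 198784 120048 :=
  block_comb c1551 b1552 (Nat.zero_le _) (Nat.le_of_ble_eq_true rfl) rfl

theorem c1553 : Block F al 0 198912 120176 :=
  block_comb c1552 b1553 (Nat.zero_le _) (Nat.le_of_ble_eq_true rfl) rfl

theorem c1554 : Block F al 0 199040 120304 :=
  block_comb c1553 b1554 (Nat.zero_le _) (Nat.le_of_ble_eq_true rfl) rfl

theorem c1555 : Block F al 0 199168 120432 :=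
  block_comb c1554 b1555 (Nat.zero_le _) (Nat.le_of_ble_eq_true rfl) rfl

theorem c1556 : Block F al 0 199296 120560 :=
  block_comb c1555 b1556 (Nat.zero_le _) (Nat.le_of_ble_eq_true rfl) rfl

theorem c1557 : Block F al 0 199424 120688 :=
  block_comb c1556 b1557 (Nat.zero_le _) (Nat.le_of_ble_eq_true rfl) rfl

theorem c1558 : Block F al 0 199552 120816 :=
  block_comb c1557 b1558 (Nat.zero_le _) (Nat.le_of_ble_eq_true rfl) rfl

theorem c1559 : Block F al 0 199680 120944 :=
  block_comb c1558 b1559 (Nat.zero_le _) (Nat.le_of_ble_eq_true rfl) rfl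

theorem c1560 : Block F al 0 199808 121072 :=
  block_comb c1559 b1560 (Nat.zero_le _) (Nat.le_of_ble_eq_true rfl) rfl

theorem c1561 : Block F al 0 199936 121200 :=
  block_comb c1560 b1561 (Nat.zero_le _) (Nat.le_of_ble_eq_true rfl) rfl

theorem c1562 : Block F al 0 200064 121328 :=
  block_comb c1561 b1562 (Nat.zero_le _) (Nat.le_of_ble_eq_true rfl) rfl

theorem c1563 : Block F al 0 200192 121456 :=
  block_comb c1562 b1563 (Nat.zero_le _) (Nat.le_of_ble_eq_true rfl) rfl

theorem c1564 : Block F al 0 200320 121584 :=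
  block_comb c1563 b1564 (Nat.zero_le _) (Nat.le_of_ble_eq_true rfl) rfl

theorem c1565 : Block F al 0 200448 121712 :=
  block_comb c1564 b1565 (Nat.zero_le _) (Nat.le_of_ble_eq_true rfl) rfl

theorem c1566 : Block F al 0 200576 121840 :=
  block_comb c1565 b1566 (Nat.zero_le _) (Nat.le_of_ble_eq_true rfl) rfl

theorem c1567 : Block F al 0 200704 121968 :=
  block_comb c1566 b1567 (Nat.zero_le _) (Nat.le_of_ble_eq_true rfl) rfl

theorem c1568 : Block F al 0 200832 122096 :=
  block_comb c1567 b1568 (Nat.zero_le _) (Nat.le_of_ble_eq_true rfl) rfl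

theorem c1569 : Block F al 0 200960 122224 :=
  block_comb c1568 b1569 (Nat.zero_le _) (Nat.le_of_ble_eq_true rfl) rfl

theorem c1570 : Block F al 0 201088 122352 :=
  block_comb c1569 b1570 (Nat.zero_le _) (Nat.le_of_ble_eq_true rfl) rfl

theorem c1571 : Block F al 0 201216 122480 :=
  block_comb c1570 b1571 (Nat.zero_le _) (Nat.le_of_ble_eq_true rfl) rfl

theorem c1572 : Block F al 0 201344 122608 :=
  block_comb c1571 b1572 (Nat.zero_le _) (Nat.le_of_ble_eq_true rfl) rfl

theorem c1573 : Block F al 0 201472 122736 :=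
  block_comb c1572 b1573 (Nat.zero_le _) (Nat.le_of_ble_eq_true rfl) rfl

theorem c1574 : Block F al 0 201600 122864 :=
  block_comb c1573 b1574 (Nat.zero_le _) (Nat.le_of_ble_eq_true rfl) rfl

theorem c1575 : Block F al 0 201728 122992 :=
  block_comb c1574 b1575 (Nat.zero_le _) (Nat.le_of_ble_eq_true rfl) rfl

theorem c1576 : Block F al 0 201856 123120 :=
  block_comb c1575 b1576 (Nat.zero_le _) (Nat.le_of_ble_eq_true rfl) rfl

theorem c1577 : Block F al 0 201984 123248 :=
  block_comb c1576 b1577 (Nat.zero_le _) (Nat.le_of_ble_eq_true rfl) rfl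

theorem c1578 : Block F al 0 202112 123376 :=
  block_comb c1577 b1578 (Nat.zero_le _) (Nat.le_of_ble_eq_true rfl) rfl

theorem c1579 : Block F al 0 202240 123504 :=
  block_comb c1578 b1579 (Nat.zero_le _) (Nat.le_of_ble_eq_true rfl) rfl

theorem c1580 : Block F al 0 202368 123632 :=
  block_comb c1579 b1580 (Nat.zero_le _) (Nat.le_of_ble_eq_true rfl) rfl

theorem c1581 : Block F al 0 202496 123760 :=
  block_comb c1580 b1581 (Nat.zero_le _) (Nat.le_of_ble_eq_true rfl) rfl

theorem c1582 : Block F al 0 202624 123888 :=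
  block_comb c1581 b1582 (Nat.zero_le _) (Nat.le_of_ble_eq_true rfl) rfl

theorem c1583 : Block F al 0 202752 124016 :=
  block_comb c1582 b1583 (Nat.zero_le _) (Nat.le_of_ble_eq_true rfl) rfl

theorem c1584 : Block F al 0 202880 124144 :=
  block_comb c1583 b1584 (Nat.zero_le _) (Nat.le_of_ble_eq_true rfl) rfl

theorem c1585 : Block F al 0 203008 124272 :=
  block_comb c1584 b1585 (Nat.zero_le _) (Nat.le_of_ble_eq_true rfl) rfl

theorem c1586 : Block F al 0 203136 124400 :=
  block_comb c1585 b1586 (Nat.zero_le _) (Nat.le_of_ble_eq_true rfl) rfl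

theorem c1587 : Block F al 0 203264 124528 :=
  block_comb c1586 b1587 (Nat.zero_le _) (Nat.le_of_ble_eq_true rfl) rfl

theorem c1588 : Block F al 0 203392 124656 :=
  block_comb c1587 b1588 (Nat.zero_le _) (Nat.le_of_ble_eq_true rfl) rfl

theorem c1589 : Block F al 0 203520 124784 :=
  block_comb c1588 b1589 (Nat.zero_le _) (Nat.le_of_ble_eq_true rfl) rfl

theorem c1590 : Block F al 0 203648 124912 :=
  block_comb c1589 b1590 (Nat.zero_le _) (Nat.le_of_ble_eq_true rfl) rfl

theorem c1591 : Block F al 0 203776 125040 :=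
  block_comb c1590 b1591 (Nat.zero_le _) (Nat.le_of_ble_eq_true rfl) rfl

theorem c1592 : Block F al 0 203904 125168 :=
  block_comb c1591 b1592 (Nat.zero_le _) (Nat.le_of_ble_eq_true rfl) rfl

theorem c1593 : Block F al 0 204032 125296 :=
  block_comb c1592 b1593 (Nat.zero_le _) (Nat.le_of_ble_eq_true rfl) rfl

theorem c1594 : Block F al 0 204160 125424 :=
  block_comb c1593 b1594 (Nat.zero_le _) (Nat.le_of_ble_eq_true rfl) rfl

theorem c1595 : Block F al 0 204288 125552 :=
  block_comb c1594 b1595 (Nat.zero_le _) (Nat.le_of_ble_eq_true rfl) rfl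

theorem c1596 : Block F al 0 204416 125680 :=
  block_comb c1595 b1596 (Nat.zero_le _) (Nat.le_of_ble_eq_true rfl) rfl

theorem c1597 : Block F al 0 204544 125808 :=
  block_comb c1596 b1597 (Nat.zero_le _) (Nat.le_of_ble_eq_true rfl) rfl

theorem c1598 : Block F al 0 204672 125936 :=
  block_comb c1597 b1598 (Nat.zero_le _) (Nat.le_of_ble_eq_true rfl) rfl

theorem c1599 : Block F al 0 204800 126064 :=
  block_comb c1598 b1599 (Nat.zero_le _) (Nat.le_of_ble_eq_true rfl) rfl

theorem c1600 : Block F al 0 204928 126192 :=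
  block_comb c1599 b1600 (Nat.zero_le _) (Nat.le_of_ble_eq_true rfl) rfl

theorem c1601 : Block F al 0 205056 126320 :=
  block_comb c1600 b1601 (Nat.zero_le _) (Nat.le_of_ble_eq_true rfl) rfl

theorem c1602 : Block F al 0 205184 126448 :=
  block_comb c1601 b1602 (Nat.zero_le _) (Nat.le_of_ble_eq_true rfl) rfl

theorem c1603 : Block F al 0 205312 126576 :=
  block_comb c1602 b1603 (Nat.zero_le _) (Nat.le_of_ble_eq_true rfl) rfl

theorem c1604 : Block F al 0 205440 126704 :=
  block_comb c1603 b1604 (Nat.zero_le _) (Nat.le_of_ble_eq_true rfl) rfl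

theorem c1605 : Block F al 0 205568 126832 :=
  block_comb c1604 b1605 (Nat.zero_le _) (Nat.le_of_ble_eq_true rfl) rfl

theorem c1606 : Block F al 0 205696 126960 :=
  block_comb c1605 b1606 (Nat.zero_le _) (Nat.le_of_ble_eq_true rfl) rfl

theorem c1607 : Block F al 0 205824 127088 :=
  block_comb c1606 b1607 (Nat.zero_le _) (Nat.le_of_ble_eq_true rfl) rfl

theorem c1608 : Block F al 0 205952 127216 :=
  block_comb c1607 b1608 (Nat.zero_le _) (Nat.le_of_ble_eq_true rfl) rfl

theorem c1609 : Block F al 0 206080 127344 :=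
  block_comb c1608 b1609 (Nat.zero_le _) (Nat.le_of_ble_eq_true rfl) rfl

theorem c1610 : Block F al 0 206208 127472 :=
  block_comb c1609 b1610 (Nat.zero_le _) (Nat.le_of_ble_eq_true rfl) rfl

theorem c1611 : Block F al 0 206336 127600 :=
  block_comb c1610 b1611 (Nat.zero_le _) (Nat.le_of_ble_eq_true rfl) rfl

theorem c1612 : Block F al 0 206464 127728 :=
  block_comb c1611 b1612 (Nat.zero_le _) (Nat.le_of_ble_eq_true rfl) rfl

theorem c1613 : Block F al 0 206592 127856 :=
  block_comb c1612 b1613 (Nat.zero_le _) (Nat.le_of_ble_eq_true rfl) rfl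

theorem c1614 : Block F al 0 206720 127984 :=
  block_comb c1613 b1614 (Nat.zero_le _) (Nat.le_of_ble_eq_true rfl) rfl

theorem c1615 : Block F al 0 206848 128112 :=
  block_comb c1614 b1615 (Nat.zero_le _) (Nat.le_of_ble_eq_true rfl) rfl

theorem c1616 : Block F al 0 206976 128240 :=
  block_comb c1615 b1616 (Nat.zero_le _) (Nat.le_of_ble_eq_true rfl) rfl

theorem c1617 : Block F al 0 207104 128368 :=
  block_comb c1616 b1617 (Nat.zero_le _) (Nat.le_of_ble_eq_true rfl) rfl

theorem c1618 : Block F al 0 207232 128496 :=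
  block_comb c1617 b1618 (Nat.zero_le _) (Nat.le_of_ble_eq_true rfl) rfl

theorem c1619 : Block F al 0 207360 128624 :=
  block_comb c1618 b1619 (Nat.zero_le _) (Nat.le_of_ble_eq_true rfl) rfl

theorem c1620 : Block F al 0 207488 128752 :=
  block_comb c1619 b1620 (Nat.zero_le _) (Nat.le_of_ble_eq_true rfl) rfl

theorem c1621 : Block F al 0 207616 128880 :=
  block_comb c1620 b1621 (Nat.zero_le _) (Nat.le_of_ble_eq_true rfl) rfl

theorem c1622 : Block F al 0 207744 129008 :=
  block_comb c1621 b1622 (Nat.zero_le _) (Nat.le_of_ble_eq_true rfl) rfl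

theorem c1623 : Block F al 0 207872 129136 :=
  block_comb c1622 b1623 (Nat.zero_le _) (Nat.le_of_ble_eq_true rfl) rfl

theorem c1624 : Block F al 0 208000 129264 :=
  block_comb c1623 b1624 (Nat.zero_le _) (Nat.le_of_ble_eq_true rfl) rfl

theorem c1625 : Block F al 0 208128 129392 :=
  block_comb c1624 b1625 (Nat.zero_le _) (Nat.le_of_ble_eq_true rfl) rfl

theorem c1626 : Block F al 0 208256 129520 :=
  block_comb c1625 b1626 (Nat.zero_le _) (Nat.le_of_ble_eq_true rfl) rfl

theorem c1627 : Block F al 0 208384 129648 :=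
  block_comb c1626 b1627 (Nat.zero_le _) (Nat.le_of_ble_eq_true rfl) rfl

theorem c1628 : Block F al 0 208512 129776 :=
  block_comb c1627 b1628 (Nat.zero_le _) (Nat.le_of_ble_eq_true rfl) rfl

theorem c1629 : Block F al 0 208640 129904 :=
  block_comb c1628 b1629 (Nat.zero_le _) (Nat.le_of_ble_eq_true rfl) rfl

theorem c1630 : Block F al 0 208768 130032 :=
  block_comb c1629 b1630 (Nat.zero_le _) (Nat.le_of_ble_eq_true rfl) rfl

theorem c1631 : Block F al 0 208896 130160 :=
  block_comb c1630 b1631 (Nat.zero_le _) (Nat.le_of_ble_eq_true rfl) rfl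

theorem c1632 : Block F al 0 209024 130288 :=
  block_comb c1631 b1632 (Nat.zero_le _) (Nat.le_of_ble_eq_true rfl) rfl

theorem c1633 : Block F al 0 209152 130416 :=
  block_comb c1632 b1633 (Nat.zero_le _) (Nat.le_of_ble_eq_true rfl) rfl

theorem c1634 : Block F al 0 209280 130544 :=
  block_comb c1633 b1634 (Nat.zero_le _) (Nat.le_of_ble_eq_true rfl) rfl

theorem c1635 : Block F al 0 209408 130672 :=
  block_comb c1634 b1635 (Nat.zero_le _) (Nat.le_of_ble_eq_true rfl) rfl

theorem c1636 : Block F al 0 209536 130800 :=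
  block_comb c1635 b1636 (Nat.zero_le _) (Nat.le_of_ble_eq_true rfl) rfl

theorem c1637 : Block F al 0 209664 130928 :=
  block_comb c1636 b1637 (Nat.zero_le _) (Nat.le_of_ble_eq_true rfl) rfl

theorem c1638 : Block F al 0 209792 131056 :=
  block_comb c1637 b1638 (Nat.zero_le _) (Nat.le_of_ble_eq_true rfl) rfl

theorem c1639 : Block F al 0 209920 131184 :=
  block_comb c1638 b1639 (Nat.zero_le _) (Nat.le_of_ble_eq_true rfl) rfl

theorem c1640 : Block F al 0 210048 131312 :=
  block_comb c1639 b1640 (Nat.zero_le _) (Nat.le_of_ble_eq_true rfl) rfl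

theorem c1641 : Block F al 0 210176 131440 :=
  block_comb c1640 b1641 (Nat.zero_le _) (Nat.le_of_ble_eq_true rfl) rfl

theorem c1642 : Block F al 0 210304 131568 :=
  block_comb c1641 b1642 (Nat.zero_le _) (Nat.le_of_ble_eq_true rfl) rfl

theorem c1643 : Block F al 0 210432 131696 :=
  block_comb c1642 b1643 (Nat.zero_le _) (Nat.le_of_ble_eq_true rfl) rfl

theorem c1644 : Block F al 0 210560 131824 :=
  block_comb c1643 b1644 (Nat.zero_le _) (Nat.le_of_ble_eq_true rfl) rfl

theorem c1645 : Block F al 0 210688 131952 :=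
  block_comb c1644 b1645 (Nat.zero_le _) (Nat.le_of_ble_eq_true rfl) rfl

theorem c1646 : Block F al 0 210816 132080 :=
  block_comb c1645 b1646 (Nat.zero_le _) (Nat.le_of_ble_eq_true rfl) rfl

theorem c1647 : Block F al 0 210944 132208 :=
  block_comb c1646 b1647 (Nat.zero_le _) (Nat.le_of_ble_eq_true rfl) rfl

theorem c1648 : Block F al 0 211072 132336 :=
  block_comb c1647 b1648 (Nat.zero_le _) (Nat.le_of_ble_eq_true rfl) rfl

theorem c1649 : Block F al 0 211200 132464 :=
  block_comb c1648 b1649 (Nat.zero_le _) (Nat.le_of_ble_eq_true rfl) rfl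

theorem c1650 : Block F al 0 211328 132592 :=
  block_comb c1649 b1650 (Nat.zero_le _) (Nat.le_of_ble_eq_true rfl) rfl

theorem c1651 : Block F al 0 211456 132720 :=
  block_comb c1650 b1651 (Nat.zero_le _) (Nat.le_of_ble_eq_true rfl) rfl

theorem c1652 : Block F al 0 211584 132848 :=
  block_comb c1651 b1652 (Nat.zero_le _) (Nat.le_of_ble_eq_true rfl) rfl

theorem c1653 : Block F al 0 211712 132976 :=
  block_comb c1652 b1653 (Nat.zero_le _) (Nat.le_of_ble_eq_true rfl) rfl

theorem c1654 : Block F al 0 211840 133104 :=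
  block_comb c1653 b1654 (Nat.zero_le _) (Nat.le_of_ble_eq_true rfl) rfl

theorem c1655 : Block F al 0 211968 133232 :=
  block_comb c1654 b1655 (Nat.zero_le _) (Nat.le_of_ble_eq_true rfl) rfl

theorem c1656 : Block F al 0 212096 133360 :=
  block_comb c1655 b1656 (Nat.zero_le _) (Nat.le_of_ble_eq_true rfl) rfl

theorem c1657 : Block F al 0 212224 133488 :=
  block_comb c1656 b1657 (Nat.zero_le _) (Nat.le_of_ble_eq_true rfl) rfl

theorem c1658 : Block F al 0 212352 133616 :=
  block_comb c1657 b1658 (Nat.zero_le _) (Nat.le_of_ble_eq_true rfl) rfl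

theorem c1659 : Block F al 0 212480 133744 :=
  block_comb c1658 b1659 (Nat.zero_le _) (Nat.le_of_ble_eq_true rfl) rfl

theorem c1660 : Block F al 0 212608 133872 :=
  block_comb c1659 b1660 (Nat.zero_le _) (Nat.le_of_ble_eq_true rfl) rfl

theorem c1661 : Block F al 0 212736 134000 :=
  block_comb c1660 b1661 (Nat.zero_le _) (Nat.le_of_ble_eq_true rfl) rfl

theorem c1662 : Block F al 0 212864 134128 :=
  block_comb c1661 b1662 (Nat.zero_le _) (Nat.le_of_ble_eq_true rfl) rfl

theorem c1663 : Block F al 0 212992 134256 :=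
  block_comb c1662 b1663 (Nat.zero_le _) (Nat.le_of_ble_eq_true rfl) rfl

theorem c1664 : Block F al 0 213120 134384 :=
  block_comb c1663 b1664 (Nat.zero_le _) (Nat.le_of_ble_eq_true rfl) rfl

theorem c1665 : Block F al 0 213248 134512 :=
  block_comb c1664 b1665 (Nat.zero_le _) (Nat.le_of_ble_eq_true rfl) rfl

theorem c1666 : Block F al 0 213376 134640 :=
  block_comb c1665 b1666 (Nat.zero_le _) (Nat.le_of_ble_eq_true rfl) rfl

theorem c1667 : Block F al 0 213504 134768 :=
  block_comb c1666 b1667 (Nat.zero_le _) (Nat.le_of_ble_eq_true rfl) rfl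

theorem c1668 : Block F al 0 213632 134896 :=
  block_comb c1667 b1668 (Nat.zero_le _) (Nat.le_of_ble_eq_true rfl) rfl

theorem c1669 : Block F al 0 213760 135024 :=
  block_comb c1668 b1669 (Nat.zero_le _) (Nat.le_of_ble_eq_true rfl) rfl

theorem c1670 : Block F al 0 213888 135152 :=
  block_comb c1669 b1670 (Nat.zero_le _) (Nat.le_of_ble_eq_true rfl) rfl

theorem c1671 : Block F al 0 214016 135280 :=
  block_comb c1670 b1671 (Nat.zero_le _) (Nat.le_of_ble_eq_true rfl) rfl

theorem c1672 : Block F al 0 214144 135408 :=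
  block_comb c1671 b1672 (Nat.zero_le _) (Nat.le_of_ble_eq_true rfl) rfl

theorem c1673 : Block F al 0 214272 135536 :=
  block_comb c1672 b1673 (Nat.zero_le _) (Nat.le_of_ble_eq_true rfl) rfl

theorem c1674 : Block F al 0 214400 135664 :=
  block_comb c1673 b1674 (Nat.zero_le _) (Nat.le_of_ble_eq_true rfl) rfl

theorem c1675 : Block F al 0 214528 135792 :=
  block_comb c1674 b1675 (Nat.zero_le _) (Nat.le_of_ble_eq_true rfl) rfl

theorem c1676 : Block F al 0 214656 135920 :=
  block_comb c1675 b1676 (Nat.zero_le _) (Nat.le_of_ble_eq_true rfl) rfl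

theorem c1677 : Block F al 0 214784 136048 :=
  block_comb c1676 b1677 (Nat.zero_le _) (Nat.le_of_ble_eq_true rfl) rfl

theorem c1678 : Block F al 0 214912 136176 :=
  block_comb c1677 b1678 (Nat.zero_le _) (Nat.le_of_ble_eq_true rfl) rfl

theorem c1679 : Block F al 0 215040 136304 :=
  block_comb c1678 b1679 (Nat.zero_le _) (Nat.le_of_ble_eq_true rfl) rfl

theorem c1680 : Block F al 0 215168 136432 :=
  block_comb c1679 b1680 (Nat.zero_le _) (Nat.le_of_ble_eq_true rfl) rfl

theorem c1681 : Block F al 0 215296 136560 :=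
  block_comb c1680 b1681 (Nat.zero_le _) (Nat.le_of_ble_eq_true rfl) rfl

theorem c1682 : Block F al 0 215424 136688 :=
  block_comb c1681 b1682 (Nat.zero_le _) (Nat.le_of_ble_eq_true rfl) rfl

theorem c1683 : Block F al 0 215552 136816 :=
  block_comb c1682 b1683 (Nat.zero_le _) (Nat.le_of_ble_eq_true rfl) rfl

theorem c1684 : Block F al 0 215680 136944 :=
  block_comb c1683 b1684 (Nat.zero_le _) (Nat.le_of_ble_eq_true rfl) rfl

theorem c1685 : Block F al 0 215808 137072 :=
  block_comb c1684 b1685 (Nat.zero_le _) (Nat.le_of_ble_eq_true rfl) rfl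

theorem c1686 : Block F al 0 215936 137200 :=
  block_comb c1685 b1686 (Nat.zero_le _) (Nat.le_of_ble_eq_true rfl) rfl

theorem c1687 : Block F al 0 216064 137328 :=
  block_comb c1686 b1687 (Nat.zero_le _) (Nat.le_of_ble_eq_true rfl) rfl

theorem c1688 : Block F al 0 216192 137456 :=
  block_comb c1687 b1688 (Nat.zero_le _) (Nat.le_of_ble_eq_true rfl) rfl

theorem c1689 : Block F al 0 216320 137584 :=
  block_comb c1688 b1689 (Nat.zero_le _) (Nat.le_of_ble_eq_true rfl) rfl

theorem c1690 : Block F al 0 216448 137712 :=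
  block_comb c1689 b1690 (Nat.zero_le _) (Nat.le_of_ble_eq_true rfl) rfl

theorem c1691 : Block F al 0 216576 137840 :=
  block_comb c1690 b1691 (Nat.zero_le _) (Nat.le_of_ble_eq_true rfl) rfl

theorem c1692 : Block F al 0 216704 137968 :=
  block_comb c1691 b1692 (Nat.zero_le _) (Nat.le_of_ble_eq_true rfl) rfl

theorem c1693 : Block F al 0 216832 138096 :=
  block_comb c1692 b1693 (Nat.zero_le _) (Nat.le_of_ble_eq_true rfl) rfl

theorem c1694 : Block F al 0 216960 138224 :=
  block_comb c1693 b1694 (Nat.zero_le _) (Nat.le_of_ble_eq_true rfl) rfl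

theorem c1695 : Block F al 0 217088 138352 :=
  block_comb c1694 b1695 (Nat.zero_le _) (Nat.le_of_ble_eq_true rfl) rfl

theorem c1696 : Block F al 0 217216 138480 :=
  block_comb c1695 b1696 (Nat.zero_le _) (Nat.le_of_ble_eq_true rfl) rfl

theorem c1697 : Block F al 0 217344 138608 :=
  block_comb c1696 b1697 (Nat.zero_le _) (Nat.le_of_ble_eq_true rfl) rfl

theorem c1698 : Block F al 0 217472 138736 :=
  block_comb c1697 b1698 (Nat.zero_le _) (Nat.le_of_ble_eq_true rfl) rfl

theorem c1699 : Block F al 0 217600 138864 :=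
  block_comb c1698 b1699 (Nat.zero_le _) (Nat.le_of_ble_eq_true rfl) rfl

theorem c1700 : Block F al 0 217728 138992 :=
  block_comb c1699 b1700 (Nat.zero_le _) (Nat.le_of_ble_eq_true rfl) rfl

theorem c1701 : Block F al 0 217856 139120 :=
  block_comb c1700 b1701 (Nat.zero_le _) (Nat.le_of_ble_eq_true rfl) rfl

theorem c1702 : Block F al 0 217984 139248 :=
  block_comb c1701 b1702 (Nat.zero_le _) (Nat.le_of_ble_eq_true rfl) rfl

theorem c1703 : Block F al 0 218112 139376 :=
  block_comb c1702 b1703 (Nat.zero_le _) (Nat.le_of_ble_eq_true rfl) rfl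

theorem c1704 : Block F al 0 218240 139504 :=
  block_comb c1703 b1704 (Nat.zero_le _) (Nat.le_of_ble_eq_true rfl) rfl

theorem c1705 : Block F al 0 218368 139632 :=
  block_comb c1704 b1705 (Nat.zero_le _) (Nat.le_of_ble_eq_true rfl) rfl

theorem c1706 : Block F al 0 218496 139760 :=
  block_comb c1705 b1706 (Nat.zero_le _) (Nat.le_of_ble_eq_true rfl) rfl

theorem c1707 : Block F al 0 218624 139888 :=
  block_comb c1706 b1707 (Nat.zero_le _) (Nat.le_of_ble_eq_true rfl) rfl

theorem c1708 : Block F al 0 218752 140016 :=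
  block_comb c1707 b1708 (Nat.zero_le _) (Nat.le_of_ble_eq_true rfl) rfl

theorem c1709 : Block F al 0 218880 140144 :=
  block_comb c1708 b1709 (Nat.zero_le _) (Nat.le_of_ble_eq_true rfl) rfl

theorem c1710 : Block F al 0 219008 140272 :=
  block_comb c1709 b1710 (Nat.zero_le _) (Nat.le_of_ble_eq_true rfl) rfl

theorem c1711 : Block F al 0 219136 140400 :=
  block_comb c1710 b1711 (Nat.zero_le _) (Nat.le_of_ble_eq_true rfl) rfl

theorem c1712 : Block F al 0 219264 140528 :=
  block_comb c1711 b1712 (Nat.zero_le _) (Nat.le_of_ble_eq_true rfl) rfl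

theorem c1713 : Block F al 0 219392 140656 :=
  block_comb c1712 b1713 (Nat.zero_le _) (Nat.le_of_ble_eq_true rfl) rfl

theorem c1714 : Block F al 0 219520 140784 :=
  block_comb c1713 b1714 (Nat.zero_le _) (Nat.le_of_ble_eq_true rfl) rfl

theorem c1715 : Block F al 0 219648 140912 :=
  block_comb c1714 b1715 (Nat.zero_le _) (Nat.le_of_ble_eq_true rfl) rfl

theorem c1716 : Block F al 0 219776 141040 :=
  block_comb c1715 b1716 (Nat.zero_le _) (Nat.le_of_ble_eq_true rfl) rfl

theorem c1717 : Block F al 0 219904 141168 :=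
  block_comb c1716 b1717 (Nat.zero_le _) (Nat.le_of_ble_eq_true rfl) rfl

theorem c1718 : Block F al 0 220032 141296 :=
  block_comb c1717 b1718 (Nat.zero_le _) (Nat.le_of_ble_eq_true rfl) rfl

theorem c1719 : Block F al 0 220160 141424 :=
  block_comb c1718 b1719 (Nat.zero_le _) (Nat.le_of_ble_eq_true rfl) rfl

theorem c1720 : Block F al 0 220288 141552 :=
  block_comb c1719 b1720 (Nat.zero_le _) (Nat.le_of_ble_eq_true rfl) rfl

theorem c1721 : Block F al 0 220416 141680 :=
  block_comb c1720 b1721 (Nat.zero_le _) (Nat.le_of_ble_eq_true rfl) rfl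

theorem c1722 : Block F al 0 220544 141808 :=
  block_comb c1721 b1722 (Nat.zero_le _) (Nat.le_of_ble_eq_true rfl) rfl

theorem c1723 : Block F al 0 220672 141936 :=
  block_comb c1722 b1723 (Nat.zero_le _) (Nat.le_of_ble_eq_true rfl) rfl

theorem c1724 : Block F al 0 220800 142064 :=
  block_comb c1723 b1724 (Nat.zero_le _) (Nat.le_of_ble_eq_true rfl) rfl

theorem c1725 : Block F al 0 220928 142192 :=
  block_comb c1724 b1725 (Nat.zero_le _) (Nat.le_of_ble_eq_true rfl) rfl

theorem c1726 : Block F al 0 221056 142320 :=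
  block_comb c1725 b1726 (Nat.zero_le _) (Nat.le_of_ble_eq_true rfl) rfl

theorem c1727 : Block F al 0 221184 142448 :=
  block_comb c1726 b1727 (Nat.zero_le _) (Nat.le_of_ble_eq_true rfl) rfl

theorem c1728 : Block F al 0 221312 142576 :=
  block_comb c1727 b1728 (Nat.zero_le _) (Nat.le_of_ble_eq_true rfl) rfl

theorem c1729 : Block F al 0 221440 142704 :=
  block_comb c1728 b1729 (Nat.zero_le _) (Nat.le_of_ble_eq_true rfl) rfl

theorem c1730 : Block F al 0 221568 142832 :=
  block_comb c1729 b1730 (Nat.zero_le _) (Nat.le_of_ble_eq_true rfl) rfl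

theorem c1731 : Block F al 0 221696 142960 :=
  block_comb c1730 b1731 (Nat.zero_le _) (Nat.le_of_ble_eq_true rfl) rfl

theorem c1732 : Block F al 0 221824 143088 :=
  block_comb c1731 b1732 (Nat.zero_le _) (Nat.le_of_ble_eq_true rfl) rfl

theorem c1733 : Block F al 0 221952 143216 :=
  block_comb c1732 b1733 (Nat.zero_le _) (Nat.le_of_ble_eq_true rfl) rfl

theorem c1734 : Block F al 0 222080 143344 :=
  block_comb c1733 b1734 (Nat.zero_le _) (Nat.le_of_ble_eq_true rfl) rfl

theorem c1735 : Block F al 0 222208 143472 :=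
  block_comb c1734 b1735 (Nat.zero_le _) (Nat.le_of_ble_eq_true rfl) rfl

theorem c1736 : Block F al 0 222336 143600 :=
  block_comb c1735 b1736 (Nat.zero_le _) (Nat.le_of_ble_eq_true rfl) rfl

theorem c1737 : Block F al 0 222464 143728 :=
  block_comb c1736 b1737 (Nat.zero_le _) (Nat.le_of_ble_eq_true rfl) rfl

theorem c1738 : Block F al 0 222592 143856 :=
  block_comb c1737 b1738 (Nat.zero_le _) (Nat.le_of_ble_eq_true rfl) rfl

theorem c1739 : Block F al 0 222720 143984 :=
  block_comb c1738 b1739 (Nat.zero_le _) (Nat.le_of_ble_eq_true rfl) rfl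

theorem c1740 : Block F al 0 222848 144112 :=
  block_comb c1739 b1740 (Nat.zero_le _) (Nat.le_of_ble_eq_true rfl) rfl

theorem c1741 : Block F al 0 222976 144240 :=
  block_comb c1740 b1741 (Nat.zero_le _) (Nat.le_of_ble_eq_true rfl) rfl

theorem c1742 : Block F al 0 223104 144368 :=
  block_comb c1741 b1742 (Nat.zero_le _) (Nat.le_of_ble_eq_true rfl) rfl

theorem c1743 : Block F al 0 223232 144496 :=
  block_comb c1742 b1743 (Nat.zero_le _) (Nat.le_of_ble_eq_true rfl) rfl

theorem c1744 : Block F al 0 223360 144624 :=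
  block_comb c1743 b1744 (Nat.zero_le _) (Nat.le_of_ble_eq_true rfl) rfl

theorem c1745 : Block F al 0 223488 144752 :=
  block_comb c1744 b1745 (Nat.zero_le _) (Nat.le_of_ble_eq_true rfl) rfl

theorem c1746 : Block F al 0 223616 144880 :=
  block_comb c1745 b1746 (Nat.zero_le _) (Nat.le_of_ble_eq_true rfl) rfl

theorem c1747 : Block F al 0 223744 145008 :=
  block_comb c1746 b1747 (Nat.zero_le _) (Nat.le_of_ble_eq_true rfl) rfl

theorem c1748 : Block F al 0 223872 145136 :=
  block_comb c1747 b1748 (Nat.zero_le _) (Nat.le_of_ble_eq_true rfl) rfl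

theorem c1749 : Block F al 0 224000 145264 :=
  block_comb c1748 b1749 (Nat.zero_le _) (Nat.le_of_ble_eq_true rfl) rfl

theorem c1750 : Block F al 0 224128 145392 :=
  block_comb c1749 b1750 (Nat.zero_le _) (Nat.le_of_ble_eq_true rfl) rfl

theorem c1751 : Block F al 0 224256 145520 :=
  block_comb c1750 b1751 (Nat.zero_le _) (Nat.le_of_ble_eq_true rfl) rfl

theorem c1752 : Block F al 0 224384 145641 :=
  block_comb c1751 b1752 (Nat.zero_le _) (Nat.le_of_ble_eq_true rfl) rfl

theorem c1753 : Block F al 0 224512 145768 :=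
  block_comb c1752 b1753 (Nat.zero_le _) (Nat.le_of_ble_eq_true rfl) rfl

theorem c1754 : Block F al 0 224640 145896 :=
  block_comb c1753 b1754 (Nat.zero_le _) (Nat.le_of_ble_eq_true rfl) rfl

theorem c1755 : Block F al 0 224768 146023 :=
  block_comb c1754 b1755 (Nat.zero_le _) (Nat.le_of_ble_eq_true rfl) rfl

theorem c1756 : Block F al 0 224896 146151 :=
  block_comb c1755 b1756 (Nat.zero_le _) (Nat.le_of_ble_eq_true rfl) rfl

theorem c1757 : Block F al 0 225024 146279 :=
  block_comb c1756 b1757 (Nat.zero_le _) (Nat.le_of_ble_eq_true rfl) rfl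

theorem c1758 : Block F al 0 225152 146407 :=
  block_comb c1757 b1758 (Nat.zero_le _) (Nat.le_of_ble_eq_true rfl) rfl

theorem c1759 : Block F al 0 225280 146535 :=
  block_comb c1758 b1759 (Nat.zero_le _) (Nat.le_of_ble_eq_true rfl) rfl

theorem c1760 : Block F al 0 225408 146663 :=
  block_comb c1759 b1760 (Nat.zero_le _) (Nat.le_of_ble_eq_true rfl) rfl

theorem c1761 : Block F al 0 225536 146791 :=
  block_comb c1760 b1761 (Nat.zero_le _) (Nat.le_of_ble_eq_true rfl) rfl

theorem c1762 : Block F al 0 225664 146919 :=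
  block_comb c1761 b1762 (Nat.zero_le _) (Nat.le_of_ble_eq_true rfl) rfl

theorem c1763 : Block F al 0 225792 147047 :=
  block_comb c1762 b1763 (Nat.zero_le _) (Nat.le_of_ble_eq_true rfl) rfl

theorem c1764 : Block F al 0 225920 147175 :=
  block_comb c1763 b1764 (Nat.zero_le _) (Nat.le_of_ble_eq_true rfl) rfl

theorem c1765 : Block F al 0 226048 147303 :=
  block_comb c1764 b1765 (Nat.zero_le _) (Nat.le_of_ble_eq_true rfl) rfl

theorem c1766 : Block F al 0 226176 147431 :=
  block_comb c1765 b1766 (Nat.zero_le _) (Nat.le_of_ble_eq_true rfl) rfl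

theorem c1767 : Block F al 0 226304 147559 :=
  block_comb c1766 b1767 (Nat.zero_le _) (Nat.le_of_ble_eq_true rfl) rfl

theorem c1768 : Block F al 0 226432 147687 :=
  block_comb c1767 b1768 (Nat.zero_le _) (Nat.le_of_ble_eq_true rfl) rfl

theorem c1769 : Block F al 0 226560 147815 :=
  block_comb c1768 b1769 (Nat.zero_le _) (Nat.le_of_ble_eq_true rfl) rfl

theorem c1770 : Block F al 0 226688 147943 :=
  block_comb c1769 b1770 (Nat.zero_le _) (Nat.le_of_ble_eq_true rfl) rfl

theorem c1771 : Block F al 0 226816 148070 :=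
  block_comb c1770 b1771 (Nat.zero_le _) (Nat.le_of_ble_eq_true rfl) rfl

theorem c1772 : Block F al 0 226944 148198 :=
  block_comb c1771 b1772 (Nat.zero_le _) (Nat.le_of_ble_eq_true rfl) rfl

theorem c1773 : Block F al 0 227072 148326 :=
  block_comb c1772 b1773 (Nat.zero_le _) (Nat.le_of_ble_eq_true rfl) rfl

theorem c1774 : Block F al 0 227200 148454 :=
  block_comb c1773 b1774 (Nat.zero_le _) (Nat.le_of_ble_eq_true rfl) rfl

theorem c1775 : Block F al 0 227328 148582 :=
  block_comb c1774 b1775 (Nat.zero_le _) (Nat.le_of_ble_eq_true rfl) rfl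

theorem c1776 : Block F al 0 227456 148710 :=
  block_comb c1775 b1776 (Nat.zero_le _) (Nat.le_of_ble_eq_true rfl) rfl

theorem c1777 : Block F al 0 227584 148838 :=
  block_comb c1776 b1777 (Nat.zero_le _) (Nat.le_of_ble_eq_true rfl) rfl

theorem c1778 : Block F al 0 227712 148966 :=
  block_comb c1777 b1778 (Nat.zero_le _) (Nat.le_of_ble_eq_true rfl) rfl

theorem c1779 : Block F al 0 227840 149094 :=
  block_comb c1778 b1779 (Nat.zero_le _) (Nat.le_of_ble_eq_true rfl) rfl

theorem c1780 : Block F al 0 227968 149222 :=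
  block_comb c1779 b1780 (Nat.zero_le _) (Nat.le_of_ble_eq_true rfl) rfl

theorem c1781 : Block F al 0 228096 149350 :=
  block_comb c1780 b1781 (Nat.zero_le _) (Nat.le_of_ble_eq_true rfl) rfl

theorem c1782 : Block F al 0 228224 149478 :=
  block_comb c1781 b1782 (Nat.zero_le _) (Nat.le_of_ble_eq_true rfl) rfl

theorem c1783 : Block F al 0 228352 149606 :=
  block_comb c1782 b1783 (Nat.zero_le _) (Nat.le_of_ble_eq_true rfl) rfl

theorem c1784 : Block F al 0 228480 149734 :=
  block_comb c1783 b1784 (Nat.zero_le _) (Nat.le_of_ble_eq_true rfl) rfl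

theorem c1785 : Block F al 0 228608 149862 :=
  block_comb c1784 b1785 (Nat.zero_le _) (Nat.le_of_ble_eq_true rfl) rfl

theorem c1786 : Block F al 0 228736 149990 :=
  block_comb c1785 b1786 (Nat.zero_le _) (Nat.le_of_ble_eq_true rfl) rfl

theorem c1787 : Block F al 0 228864 150118 :=
  block_comb c1786 b1787 (Nat.zero_le _) (Nat.le_of_ble_eq_true rfl) rfl

theorem c1788 : Block F al 0 228992 150246 :=
  block_comb c1787 b1788 (Nat.zero_le _) (Nat.le_of_ble_eq_true rfl) rfl

theorem c1789 : Block F al 0 229120 150374 :=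
  block_comb c1788 b1789 (Nat.zero_le _) (Nat.le_of_ble_eq_true rfl) rfl

theorem c1790 : Block F al 0 229248 150502 :=
  block_comb c1789 b1790 (Nat.zero_le _) (Nat.le_of_ble_eq_true rfl) rfl

theorem c1791 : Block F al 0 229376 150630 :=
  block_comb c1790 b1791 (Nat.zero_le _) (Nat.le_of_ble_eq_true rfl) rfl

theorem c1792 : Block F al 0 229504 150758 :=
  block_comb c1791 b1792 (Nat.zero_le _) (Nat.le_of_ble_eq_true rfl) rfl

theorem c1793 : Block F al 0 229632 150886 :=
  block_comb c1792 b1793 (Nat.zero_le _) (Nat.le_of_ble_eq_true rfl) rfl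

theorem c1794 : Block F al 0 229760 151014 :=
  block_comb c1793 b1794 (Nat.zero_le _) (Nat.le_of_ble_eq_true rfl) rfl

theorem c1795 : Block F al 0 229888 151142 :=
  block_comb c1794 b1795 (Nat.zero_le _) (Nat.le_of_ble_eq_true rfl) rfl

theorem c1796 : Block F al 0 230016 151270 :=
  block_comb c1795 b1796 (Nat.zero_le _) (Nat.le_of_ble_eq_true rfl) rfl

theorem c1797 : Block F al 0 230144 151398 :=
  block_comb c1796 b1797 (Nat.zero_le _) (Nat.le_of_ble_eq_true rfl) rfl

theorem c1798 : Block F al 0 230272 151526 :=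
  block_comb c1797 b1798 (Nat.zero_le _) (Nat.le_of_ble_eq_true rfl) rfl

theorem c1799 : Block F al 0 230400 151654 :=
  block_comb c1798 b1799 (Nat.zero_le _) (Nat.le_of_ble_eq_true rfl) rfl

theorem c1800 : Block F al 0 230528 151782 :=
  block_comb c1799 b1800 (Nat.zero_le _) (Nat.le_of_ble_eq_true rfl) rfl

theorem c1801 : Block F al 0 230656 151910 :=
  block_comb c1800 b1801 (Nat.zero_le _) (Nat.le_of_ble_eq_true rfl) rfl

theorem c1802 : Block F al 0 230784 152038 :=
  block_comb c1801 b1802 (Nat.zero_le _) (Nat.le_of_ble_eq_true rfl) rfl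

theorem c1803 : Block F al 0 230912 152166 :=
  block_comb c1802 b1803 (Nat.zero_le _) (Nat.le_of_ble_eq_true rfl) rfl

theorem c1804 : Block F al 0 231040 152294 :=
  block_comb c1803 b1804 (Nat.zero_le _) (Nat.le_of_ble_eq_true rfl) rfl

theorem c1805 : Block F al 0 231168 152422 :=
  block_comb c1804 b1805 (Nat.zero_le _) (Nat.le_of_ble_eq_true rfl) rfl

theorem c1806 : Block F al 0 231296 152550 :=
  block_comb c1805 b1806 (Nat.zero_le _) (Nat.le_of_ble_eq_true rfl) rfl

theorem c1807 : Block F al 0 231424 152678 :=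
  block_comb c1806 b1807 (Nat.zero_le _) (Nat.le_of_ble_eq_true rfl) rfl

theorem c1808 : Block F al 0 231552 152806 :=
  block_comb c1807 b1808 (Nat.zero_le _) (Nat.le_of_ble_eq_true rfl) rfl

theorem c1809 : Block F al 0 231680 152934 :=
  block_comb c1808 b1809 (Nat.zero_le _) (Nat.le_of_ble_eq_true rfl) rfl

theorem c1810 : Block F al 0 231808 153062 :=
  block_comb c1809 b1810 (Nat.zero_le _) (Nat.le_of_ble_eq_true rfl) rfl

theorem c1811 : Block F al 0 231936 153190 :=
  block_comb c1810 b1811 (Nat.zero_le _) (Nat.le_of_ble_eq_true rfl) rfl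

theorem c1812 : Block F al 0 232064 153318 :=
  block_comb c1811 b1812 (Nat.zero_le _) (Nat.le_of_ble_eq_true rfl) rfl

theorem c1813 : Block F al 0 232192 153446 :=
  block_comb c1812 b1813 (Nat.zero_le _) (Nat.le_of_ble_eq_true rfl) rfl

theorem c1814 : Block F al 0 232320 153574 :=
  block_comb c1813 b1814 (Nat.zero_le _) (Nat.le_of_ble_eq_true rfl) rfl

theorem c1815 : Block F al 0 232448 153702 :=
  block_comb c1814 b1815 (Nat.zero_le _) (Nat.le_of_ble_eq_true rfl) rfl

theorem c1816 : Block F al 0 232576 153830 :=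
  block_comb c1815 b1816 (Nat.zero_le _) (Nat.le_of_ble_eq_true rfl) rfl

theorem c1817 : Block F al 0 232704 153958 :=
  block_comb c1816 b1817 (Nat.zero_le _) (Nat.le_of_ble_eq_true rfl) rfl

theorem c1818 : Block F al 0 232832 154086 :=
  block_comb c1817 b1818 (Nat.zero_le _) (Nat.le_of_ble_eq_true rfl) rfl

theorem c1819 : Block F al 0 232960 154214 :=
  block_comb c1818 b1819 (Nat.zero_le _) (Nat.le_of_ble_eq_true rfl) rfl

theorem c1820 : Block F al 0 233088 154342 :=
  block_comb c1819 b1820 (Nat.zero_le _) (Nat.le_of_ble_eq_true rfl) rfl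

theorem c1821 : Block F al 0 233216 154470 :=
  block_comb c1820 b1821 (Nat.zero_le _) (Nat.le_of_ble_eq_true rfl) rfl

theorem c1822 : Block F al 0 233344 154598 :=
  block_comb c1821 b1822 (Nat.zero_le _) (Nat.le_of_ble_eq_true rfl) rfl

theorem c1823 : Block F al 0 233472 154726 :=
  block_comb c1822 b1823 (Nat.zero_le _) (Nat.le_of_ble_eq_true rfl) rfl

theorem c1824 : Block F al 0 233600 154854 :=
  block_comb c1823 b1824 (Nat.zero_le _) (Nat.le_of_ble_eq_true rfl) rfl

theorem c1825 : Block F al 0 233728 154982 :=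
  block_comb c1824 b1825 (Nat.zero_le _) (Nat.le_of_ble_eq_true rfl) rfl

theorem c1826 : Block F al 0 233856 155110 :=
  block_comb c1825 b1826 (Nat.zero_le _) (Nat.le_of_ble_eq_true rfl) rfl

theorem c1827 : Block F al 0 233984 155238 :=
  block_comb c1826 b1827 (Nat.zero_le _) (Nat.le_of_ble_eq_true rfl) rfl

theorem c1828 : Block F al 0 234112 155366 :=
  block_comb c1827 b1828 (Nat.zero_le _) (Nat.le_of_ble_eq_true rfl) rfl

theorem c1829 : Block F al 0 234240 155494 :=
  block_comb c1828 b1829 (Nat.zero_le _) (Nat.le_of_ble_eq_true rfl) rfl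

theorem c1830 : Block F al 0 234368 155622 :=
  block_comb c1829 b1830 (Nat.zero_le _) (Nat.le_of_ble_eq_true rfl) rfl

theorem c1831 : Block F al 0 234496 155750 :=
  block_comb c1830 b1831 (Nat.zero_le _) (Nat.le_of_ble_eq_true rfl) rfl

theorem c1832 : Block F al 0 234624 155878 :=
  block_comb c1831 b1832 (Nat.zero_le _) (Nat.le_of_ble_eq_true rfl) rfl

theorem c1833 : Block F al 0 234752 156006 :=
  block_comb c1832 b1833 (Nat.zero_le _) (Nat.le_of_ble_eq_true rfl) rfl

theorem c1834 : Block F al 0 234880 156134 :=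
  block_comb c1833 b1834 (Nat.zero_le _) (Nat.le_of_ble_eq_true rfl) rfl

theorem c1835 : Block F al 0 235008 156262 :=
  block_comb c1834 b1835 (Nat.zero_le _) (Nat.le_of_ble_eq_true rfl) rfl

theorem c1836 : Block F al 0 235136 156390 :=
  block_comb c1835 b1836 (Nat.zero_le _) (Nat.le_of_ble_eq_true rfl) rfl

theorem c1837 : Block F al 0 235264 156518 :=
  block_comb c1836 b1837 (Nat.zero_le _) (Nat.le_of_ble_eq_true rfl) rfl

theorem c1838 : Block F al 0 235392 156639 :=
  block_comb c1837 b1838 (Nat.zero_le _) (Nat.le_of_ble_eq_true rfl) rfl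

theorem c1839 : Block F al 0 235520 156766 :=
  block_comb c1838 b1839 (Nat.zero_le _) (Nat.le_of_ble_eq_true rfl) rfl

theorem c1840 : Block F al 0 235648 156893 :=
  block_comb c1839 b1840 (Nat.zero_le _) (Nat.le_of_ble_eq_true rfl) rfl

theorem c1841 : Block F al 0 235776 157021 :=
  block_comb c1840 b1841 (Nat.zero_le _) (Nat.le_of_ble_eq_true rfl) rfl

theorem c1842 : Block F al 0 235904 157149 :=
  block_comb c1841 b1842 (Nat.zero_le _) (Nat.le_of_ble_eq_true rfl) rfl

theorem c1843 : Block F al 0 236032 157277 :=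
  block_comb c1842 b1843 (Nat.zero_le _) (Nat.le_of_ble_eq_true rfl) rfl

theorem c1844 : Block F al 0 236160 157405 :=
  block_comb c1843 b1844 (Nat.zero_le _) (Nat.le_of_ble_eq_true rfl) rfl

theorem c1845 : Block F al 0 236288 157533 :=
  block_comb c1844 b1845 (Nat.zero_le _) (Nat.le_of_ble_eq_true rfl) rfl

theorem c1846 : Block F al 0 236416 157661 :=
  block_comb c1845 b1846 (Nat.zero_le _) (Nat.le_of_ble_eq_true rfl) rfl

theorem c1847 : Block F al 0 236544 157789 :=
  block_comb c1846 b1847 (Nat.zero_le _) (Nat.le_of_ble_eq_true rfl) rfl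

theorem c1848 : Block F al 0 236672 157917 :=
  block_comb c1847 b1848 (Nat.zero_le _) (Nat.le_of_ble_eq_true rfl) rfl

theorem c1849 : Block F al 0 236800 158045 :=
  block_comb c1848 b1849 (Nat.zero_le _) (Nat.le_of_ble_eq_true rfl) rfl

theorem c1850 : Block F al 0 236928 158173 :=
  block_comb c1849 b1850 (Nat.zero_le _) (Nat.le_of_ble_eq_true rfl) rfl

theorem c1851 : Block F al 0 237056 158301 :=
  block_comb c1850 b1851 (Nat.zero_le _) (Nat.le_of_ble_eq_true rfl) rfl

theorem c1852 : Block F al 0 237184 158428 :=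
  block_comb c1851 b1852 (Nat.zero_le _) (Nat.le_of_ble_eq_true rfl) rfl

theorem c1853 : Block F al 0 237312 158556 :=
  block_comb c1852 b1853 (Nat.zero_le _) (Nat.le_of_ble_eq_true rfl) rfl

theorem c1854 : Block F al 0 237440 158684 :=
  block_comb c1853 b1854 (Nat.zero_le _) (Nat.le_of_ble_eq_true rfl) rfl

theorem c1855 : Block F al 0 237568 158812 :=
  block_comb c1854 b1855 (Nat.zero_le _) (Nat.le_of_ble_eq_true rfl) rfl

theorem c1856 : Block F al 0 237696 158940 :=
  block_comb c1855 b1856 (Nat.zero_le _) (Nat.le_of_ble_eq_true rfl) rfl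

theorem c1857 : Block F al 0 237824 159068 :=
  block_comb c1856 b1857 (Nat.zero_le _) (Nat.le_of_ble_eq_true rfl) rfl

theorem c1858 : Block F al 0 237952 159196 :=
  block_comb c1857 b1858 (Nat.zero_le _) (Nat.le_of_ble_eq_true rfl) rfl

theorem c1859 : Block F al 0 238080 159324 :=
  block_comb c1858 b1859 (Nat.zero_le _) (Nat.le_of_ble_eq_true rfl) rfl

theorem c1860 : Block F al 0 238208 159452 :=
  block_comb c1859 b1860 (Nat.zero_le _) (Nat.le_of_ble_eq_true rfl) rfl

theorem c1861 : Block F al 0 238336 159580 :=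
  block_comb c1860 b1861 (Nat.zero_le _) (Nat.le_of_ble_eq_true rfl) rfl

theorem c1862 : Block F al 0 238464 159708 :=
  block_comb c1861 b1862 (Nat.zero_le _) (Nat.le_of_ble_eq_true rfl) rfl

theorem c1863 : Block F al 0 238592 159836 :=
  block_comb c1862 b1863 (Nat.zero_le _) (Nat.le_of_ble_eq_true rfl) rfl

theorem c1864 : Block F al 0 238720 159964 :=
  block_comb c1863 b1864 (Nat.zero_le _) (Nat.le_of_ble_eq_true rfl) rfl

theorem c1865 : Block F al 0 238848 160084 :=
  block_comb c1864 b1865 (Nat.zero_le _) (Nat.le_of_ble_eq_true rfl) rfl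

theorem c1866 : Block F al 0 238976 160211 :=
  block_comb c1865 b1866 (Nat.zero_le _) (Nat.le_of_ble_eq_true rfl) rfl

theorem c1867 : Block F al 0 239104 160339 :=
  block_comb c1866 b1867 (Nat.zero_le _) (Nat.le_of_ble_eq_true rfl) rfl

theorem c1868 : Block F al 0 239232 160467 :=
  block_comb c1867 b1868 (Nat.zero_le _) (Nat.le_of_ble_eq_true rfl) rfl

theorem c1869 : Block F al 0 239360 160595 :=
  block_comb c1868 b1869 (Nat.zero_le _) (Nat.le_of_ble_eq_true rfl) rfl

theorem c1870 : Block F al 0 239488 160723 :=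
  block_comb c1869 b1870 (Nat.zero_le _) (Nat.le_of_ble_eq_true rfl) rfl

theorem c1871 : Block F al 0 239616 160851 :=
  block_comb c1870 b1871 (Nat.zero_le _) (Nat.le_of_ble_eq_true rfl) rfl

theorem c1872 : Block F al 0 239744 160979 :=
  block_comb c1871 b1872 (Nat.zero_le _) (Nat.le_of_ble_eq_true rfl) rfl

theorem c1873 : Block F al 0 239872 161107 :=
  block_comb c1872 b1873 (Nat.zero_le _) (Nat.le_of_ble_eq_true rfl) rfl

theorem c1874 : Block F al 0 240000 161235 :=
  block_comb c1873 b1874 (Nat.zero_le _) (Nat.le_of_ble_eq_true rfl) rfl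

theorem c1875 : Block F al 0 240128 161363 :=
  block_comb c1874 b1875 (Nat.zero_le _) (Nat.le_of_ble_eq_true rfl) rfl

theorem c1876 : Block F al 0 240256 161491 :=
  block_comb c1875 b1876 (Nat.zero_le _) (Nat.le_of_ble_eq_true rfl) rfl

theorem c1877 : Block F al 0 240384 161619 :=
  block_comb c1876 b1877 (Nat.zero_le _) (Nat.le_of_ble_eq_true rfl) rfl

theorem c1878 : Block F al 0 240512 161747 :=
  block_comb c1877 b1878 (Nat.zero_le _) (Nat.le_of_ble_eq_true rfl) rfl

theorem c1879 : Block F al 0 240640 161875 :=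
  block_comb c1878 b1879 (Nat.zero_le _) (Nat.le_of_ble_eq_true rfl) rfl

theorem c1880 : Block F al 0 240768 162003 :=
  block_comb c1879 b1880 (Nat.zero_le _) (Nat.le_of_ble_eq_true rfl) rfl

theorem c1881 : Block F al 0 240896 162131 :=
  block_comb c1880 b1881 (Nat.zero_le _) (Nat.le_of_ble_eq_true rfl) rfl

theorem c1882 : Block F al 0 241024 162259 :=
  block_comb c1881 b1882 (Nat.zero_le _) (Nat.le_of_ble_eq_true rfl) rfl

theorem c1883 : Block F al 0 241152 162387 :=
  block_comb c1882 b1883 (Nat.zero_le _) (Nat.le_of_ble_eq_true rfl) rfl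

theorem c1884 : Block F al 0 241280 162515 :=
  block_comb c1883 b1884 (Nat.zero_le _) (Nat.le_of_ble_eq_true rfl) rfl

theorem c1885 : Block F al 0 241408 162643 :=
  block_comb c1884 b1885 (Nat.zero_le _) (Nat.le_of_ble_eq_true rfl) rfl

theorem c1886 : Block F al 0 241536 162771 :=
  block_comb c1885 b1886 (Nat.zero_le _) (Nat.le_of_ble_eq_true rfl) rfl

theorem c1887 : Block F al 0 241664 162899 :=
  block_comb c1886 b1887 (Nat.zero_le _) (Nat.le_of_ble_eq_true rfl) rfl

theorem c1888 : Block F al 0 241792 163027 :=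
  block_comb c1887 b1888 (Nat.zero_le _) (Nat.le_of_ble_eq_true rfl) rfl

theorem c1889 : Block F al 0 241920 163155 :=
  block_comb c1888 b1889 (Nat.zero_le _) (Nat.le_of_ble_eq_true rfl) rfl

theorem c1890 : Block F al 0 242048 163283 :=
  block_comb c1889 b1890 (Nat.zero_le _) (Nat.le_of_ble_eq_true rfl) rfl

theorem c1891 : Block F al 0 242176 163411 :=
  block_comb c1890 b1891 (Nat.zero_le _) (Nat.le_of_ble_eq_true rfl) rfl

theorem c1892 : Block F al 0 242304 163539 :=
  block_comb c1891 b1892 (Nat.zero_le _) (Nat.le_of_ble_eq_true rfl) rfl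

theorem c1893 : Block F al 0 242432 163667 :=
  block_comb c1892 b1893 (Nat.zero_le _) (Nat.le_of_ble_eq_true rfl) rfl

theorem c1894 : Block F al 0 242560 163795 :=
  block_comb c1893 b1894 (Nat.zero_le _) (Nat.le_of_ble_eq_true rfl) rfl

theorem c1895 : Block F al 0 242688 163923 :=
  block_comb c1894 b1895 (Nat.zero_le _) (Nat.le_of_ble_eq_true rfl) rfl

theorem c1896 : Block F al 0 242816 164051 :=
  block_comb c1895 b1896 (Nat.zero_le _) (Nat.le_of_ble_eq_true rfl) rfl

theorem c1897 : Block F al 0 242944 164179 :=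
  block_comb c1896 b1897 (Nat.zero_le _) (Nat.le_of_ble_eq_true rfl) rfl

theorem c1898 : Block F al 0 243072 164307 :=
  block_comb c1897 b1898 (Nat.zero_le _) (Nat.le_of_ble_eq_true rfl) rfl

theorem c1899 : Block F al 0 243200 164435 :=
  block_comb c1898 b1899 (Nat.zero_le _) (Nat.le_of_ble_eq_true rfl) rfl

theorem c1900 : Block F al 0 243328 164563 :=
  block_comb c1899 b1900 (Nat.zero_le _) (Nat.le_of_ble_eq_true rfl) rfl

theorem c1901 : Block F al 0 243456 164691 :=
  block_comb c1900 b1901 (Nat.zero_le _) (Nat.le_of_ble_eq_true rfl) rfl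

theorem c1902 : Block F al 0 243584 164819 :=
  block_comb c1901 b1902 (Nat.zero_le _) (Nat.le_of_ble_eq_true rfl) rfl

theorem c1903 : Block F al 0 243712 164947 :=
  block_comb c1902 b1903 (Nat.zero_le _) (Nat.le_of_ble_eq_true rfl) rfl

theorem c1904 : Block F al 0 243840 165075 :=
  block_comb c1903 b1904 (Nat.zero_le _) (Nat.le_of_ble_eq_true rfl) rfl

theorem c1905 : Block F al 0 243968 165203 :=
  block_comb c1904 b1905 (Nat.zero_le _) (Nat.le_of_ble_eq_true rfl) rfl

theorem c1906 : Block F al 0 244096 165331 :=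
  block_comb c1905 b1906 (Nat.zero_le _) (Nat.le_of_ble_eq_true rfl) rfl

theorem c1907 : Block F al 0 244224 165459 :=
  block_comb c1906 b1907 (Nat.zero_le _) (Nat.le_of_ble_eq_true rfl) rfl

theorem c1908 : Block F al 0 244352 165587 :=
  block_comb c1907 b1908 (Nat.zero_le _) (Nat.le_of_ble_eq_true rfl) rfl

theorem c1909 : Block F al 0 244480 165715 :=
  block_comb c1908 b1909 (Nat.zero_le _) (Nat.le_of_ble_eq_true rfl) rfl

theorem c1910 : Block F al 0 244608 165843 :=
  block_comb c1909 b1910 (Nat.zero_le _) (Nat.le_of_ble_eq_true rfl) rfl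

theorem c1911 : Block F al 0 244736 165971 :=
  block_comb c1910 b1911 (Nat.zero_le _) (Nat.le_of_ble_eq_true rfl) rfl

theorem c1912 : Block F al 0 244864 166099 :=
  block_comb c1911 b1912 (Nat.zero_le _) (Nat.le_of_ble_eq_true rfl) rfl

theorem c1913 : Block F al 0 244992 166227 :=
  block_comb c1912 b1913 (Nat.zero_le _) (Nat.le_of_ble_eq_true rfl) rfl

theorem c1914 : Block F al 0 245120 166355 :=
  block_comb c1913 b1914 (Nat.zero_le _) (Nat.le_of_ble_eq_true rfl) rfl

theorem c1915 : Block F al 0 245248 166483 :=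
  block_comb c1914 b1915 (Nat.zero_le _) (Nat.le_of_ble_eq_true rfl) rfl

theorem c1916 : Block F al 0 245376 166611 :=
  block_comb c1915 b1916 (Nat.zero_le _) (Nat.le_of_ble_eq_true rfl) rfl

theorem c1917 : Block F al 0 245504 166739 :=
  block_comb c1916 b1917 (Nat.zero_le _) (Nat.le_of_ble_eq_true rfl) rfl

theorem c1918 : Block F al 0 245632 166867 :=
  block_comb c1917 b1918 (Nat.zero_le _) (Nat.le_of_ble_eq_true rfl) rfl

theorem c1919 : Block F al 0 245760 166995 :=
  block_comb c1918 b1919 (Nat.zero_le _) (Nat.le_of_ble_eq_true rfl) rfl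

theorem c1920 : Block F al 0 245888 167123 :=
  block_comb c1919 b1920 (Nat.zero_le _) (Nat.le_of_ble_eq_true rfl) rfl

theorem c1921 : Block F al 0 246016 167251 :=
  block_comb c1920 b1921 (Nat.zero_le _) (Nat.le_of_ble_eq_true rfl) rfl

theorem c1922 : Block F al 0 246144 167379 :=
  block_comb c1921 b1922 (Nat.zero_le _) (Nat.le_of_ble_eq_true rfl) rfl

theorem c1923 : Block F al 0 246272 167507 :=
  block_comb c1922 b1923 (Nat.zero_le _) (Nat.le_of_ble_eq_true rfl) rfl

theorem c1924 : Block F al 0 246400 167635 :=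
  block_comb c1923 b1924 (Nat.zero_le _) (Nat.le_of_ble_eq_true rfl) rfl

theorem c1925 : Block F al 0 246528 167763 :=
  block_comb c1924 b1925 (Nat.zero_le _) (Nat.le_of_ble_eq_true rfl) rfl

theorem c1926 : Block F al 0 246656 167891 :=
  block_comb c1925 b1926 (Nat.zero_le _) (Nat.le_of_ble_eq_true rfl) rfl

theorem c1927 : Block F al 0 246784 168019 :=
  block_comb c1926 b1927 (Nat.zero_le _) (Nat.le_of_ble_eq_true rfl) rfl

theorem c1928 : Block F al 0 246912 168147 :=
  block_comb c1927 b1928 (Nat.zero_le _) (Nat.le_of_ble_eq_true rfl) rfl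

theorem c1929 : Block F al 0 247040 168275 :=
  block_comb c1928 b1929 (Nat.zero_le _) (Nat.le_of_ble_eq_true rfl) rfl

theorem c1930 : Block F al 0 247168 168403 :=
  block_comb c1929 b1930 (Nat.zero_le _) (Nat.le_of_ble_eq_true rfl) rfl

theorem c1931 : Block F al 0 247296 168531 :=
  block_comb c1930 b1931 (Nat.zero_le _) (Nat.le_of_ble_eq_true rfl) rfl

theorem c1932 : Block F al 0 247424 168659 :=
  block_comb c1931 b1932 (Nat.zero_le _) (Nat.le_of_ble_eq_true rfl) rfl

theorem c1933 : Block F al 0 247552 168787 :=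
  block_comb c1932 b1933 (Nat.zero_le _) (Nat.le_of_ble_eq_true rfl) rfl

theorem c1934 : Block F al 0 247680 168915 :=
  block_comb c1933 b1934 (Nat.zero_le _) (Nat.le_of_ble_eq_true rfl) rfl

theorem c1935 : Block F al 0 247808 169043 :=
  block_comb c1934 b1935 (Nat.zero_le _) (Nat.le_of_ble_eq_true rfl) rfl

theorem c1936 : Block F al 0 247936 169171 :=
  block_comb c1935 b1936 (Nat.zero_le _) (Nat.le_of_ble_eq_true rfl) rfl

theorem c1937 : Block F al 0 248064 169299 :=
  block_comb c1936 b1937 (Nat.zero_le _) (Nat.le_of_ble_eq_true rfl) rfl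

theorem c1938 : Block F al 0 248192 169427 :=
  block_comb c1937 b1938 (Nat.zero_le _) (Nat.le_of_ble_eq_true rfl) rfl

theorem c1939 : Block F al 0 248320 169555 :=
  block_comb c1938 b1939 (Nat.zero_le _) (Nat.le_of_ble_eq_true rfl) rfl

theorem c1940 : Block F al 0 248448 169683 :=
  block_comb c1939 b1940 (Nat.zero_le _) (Nat.le_of_ble_eq_true rfl) rfl

theorem c1941 : Block F al 0 248576 169811 :=
  block_comb c1940 b1941 (Nat.zero_le _) (Nat.le_of_ble_eq_true rfl) rfl

theorem c1942 : Block F al 0 248704 169939 :=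
  block_comb c1941 b1942 (Nat.zero_le _) (Nat.le_of_ble_eq_true rfl) rfl

theorem c1943 : Block F al 0 248832 170067 :=
  block_comb c1942 b1943 (Nat.zero_le _) (Nat.le_of_ble_eq_true rfl) rfl

theorem c1944 : Block F al 0 248960 170195 :=
  block_comb c1943 b1944 (Nat.zero_le _) (Nat.le_of_ble_eq_true rfl) rfl

theorem c1945 : Block F al 0 249088 170323 :=
  block_comb c1944 b1945 (Nat.zero_le _) (Nat.le_of_ble_eq_true rfl) rfl

theorem c1946 : Block F al 0 249216 170451 :=
  block_comb c1945 b1946 (Nat.zero_le _) (Nat.le_of_ble_eq_true rfl) rfl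

theorem c1947 : Block F al 0 249344 170579 :=
  block_comb c1946 b1947 (Nat.zero_le _) (Nat.le_of_ble_eq_true rfl) rfl

theorem c1948 : Block F al 0 249472 170707 :=
  block_comb c1947 b1948 (Nat.zero_le _) (Nat.le_of_ble_eq_true rfl) rfl

theorem c1949 : Block F al 0 249600 170835 :=
  block_comb c1948 b1949 (Nat.zero_le _) (Nat.le_of_ble_eq_true rfl) rfl

theorem c1950 : Block F al 0 249728 170963 :=
  block_comb c1949 b1950 (Nat.zero_le _) (Nat.le_of_ble_eq_true rfl) rfl

theorem c1951 : Block F al 0 249856 171091 :=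
  block_comb c1950 b1951 (Nat.zero_le _) (Nat.le_of_ble_eq_true rfl) rfl

theorem c1952 : Block F al 0 249984 171219 :=
  block_comb c1951 b1952 (Nat.zero_le _) (Nat.le_of_ble_eq_true rfl) rfl

theorem c1953 : Block F al 0 250112 171347 :=
  block_comb c1952 b1953 (Nat.zero_le _) (Nat.le_of_ble_eq_true rfl) rfl

theorem c1954 : Block F al 0 250240 171475 :=
  block_comb c1953 b1954 (Nat.zero_le _) (Nat.le_of_ble_eq_true rfl) rfl

theorem c1955 : Block F al 0 250368 171603 :=
  block_comb c1954 b1955 (Nat.zero_le _) (Nat.le_of_ble_eq_true rfl) rfl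

theorem c1956 : Block F al 0 250496 171731 :=
  block_comb c1955 b1956 (Nat.zero_le _) (Nat.le_of_ble_eq_true rfl) rfl

theorem c1957 : Block F al 0 250624 171859 :=
  block_comb c1956 b1957 (Nat.zero_le _) (Nat.le_of_ble_eq_true rfl) rfl

theorem c1958 : Block F al 0 250752 171987 :=
  block_comb c1957 b1958 (Nat.zero_le _) (Nat.le_of_ble_eq_true rfl) rfl

theorem c1959 : Block F al 0 250880 172115 :=
  block_comb c1958 b1959 (Nat.zero_le _) (Nat.le_of_ble_eq_true rfl) rfl

theorem c1960 : Block F al 0 251008 172243 :=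
  block_comb c1959 b1960 (Nat.zero_le _) (Nat.le_of_ble_eq_true rfl) rfl

theorem c1961 : Block F al 0 251136 172371 :=
  block_comb c1960 b1961 (Nat.zero_le _) (Nat.le_of_ble_eq_true rfl) rfl

theorem c1962 : Block F al 0 251264 172499 :=
  block_comb c1961 b1962 (Nat.zero_le _) (Nat.le_of_ble_eq_true rfl) rfl

theorem c1963 : Block F al 0 251392 172627 :=
  block_comb c1962 b1963 (Nat.zero_le _) (Nat.le_of_ble_eq_true rfl) rfl

theorem c1964 : Block F al 0 251520 172755 :=
  block_comb c1963 b1964 (Nat.zero_le _) (Nat.le_of_ble_eq_true rfl) rfl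

theorem c1965 : Block F al 0 251648 172883 :=
  block_comb c1964 b1965 (Nat.zero_le _) (Nat.le_of_ble_eq_true rfl) rfl

theorem c1966 : Block F al 0 251776 173011 :=
  block_comb c1965 b1966 (Nat.zero_le _) (Nat.le_of_ble_eq_true rfl) rfl

theorem c1967 : Block F al 0 251904 173139 :=
  block_comb c1966 b1967 (Nat.zero_le _) (Nat.le_of_ble_eq_true rfl) rfl

theorem c1968 : Block F al 0 252032 173267 :=
  block_comb c1967 b1968 (Nat.zero_le _) (Nat.le_of_ble_eq_true rfl) rfl

theorem c1969 : Block F al 0 252160 173395 :=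
  block_comb c1968 b1969 (Nat.zero_le _) (Nat.le_of_ble_eq_true rfl) rfl

theorem c1970 : Block F al 0 252288 173523 :=
  block_comb c1969 b1970 (Nat.zero_le _) (Nat.le_of_ble_eq_true rfl) rfl

theorem c1971 : Block F al 0 252416 173651 :=
  block_comb c1970 b1971 (Nat.zero_le _) (Nat.le_of_ble_eq_true rfl) rfl

theorem c1972 : Block F al 0 252544 173779 :=
  block_comb c1971 b1972 (Nat.zero_le _) (Nat.le_of_ble_eq_true rfl) rfl

theorem c1973 : Block F al 0 252672 173907 :=
  block_comb c1972 b1973 (Nat.zero_le _) (Nat.le_of_ble_eq_true rfl) rfl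

theorem c1974 : Block F al 0 252800 174035 :=
  block_comb c1973 b1974 (Nat.zero_le _) (Nat.le_of_ble_eq_true rfl) rfl

theorem c1975 : Block F al 0 252928 174163 :=
  block_comb c1974 b1975 (Nat.zero_le _) (Nat.le_of_ble_eq_true rfl) rfl

theorem c1976 : Block F al 0 253056 174291 :=
  block_comb c1975 b1976 (Nat.zero_le _) (Nat.le_of_ble_eq_true rfl) rfl

theorem c1977 : Block F al 0 253184 174419 :=
  block_comb c1976 b1977 (Nat.zero_le _) (Nat.le_of_ble_eq_true rfl) rfl

theorem c1978 : Block F al 0 253312 174547 :=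
  block_comb c1977 b1978 (Nat.zero_le _) (Nat.le_of_ble_eq_true rfl) rfl

theorem c1979 : Block F al 0 253440 174675 :=
  block_comb c1978 b1979 (Nat.zero_le _) (Nat.le_of_ble_eq_true rfl) rfl

theorem c1980 : Block F al 0 253568 174803 :=
  block_comb c1979 b1980 (Nat.zero_le _) (Nat.le_of_ble_eq_true rfl) rfl

theorem c1981 : Block F al 0 253696 174931 :=
  block_comb c1980 b1981 (Nat.zero_le _) (Nat.le_of_ble_eq_true rfl) rfl

theorem c1982 : Block F al 0 253824 175059 :=
  block_comb c1981 b1982 (Nat.zero_le _) (Nat.le_of_ble_eq_true rfl) rfl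

theorem c1983 : Block F al 0 253952 175187 :=
  block_comb c1982 b1983 (Nat.zero_le _) (Nat.le_of_ble_eq_true rfl) rfl

theorem c1984 : Block F al 0 254080 175315 :=
  block_comb c1983 b1984 (Nat.zero_le _) (Nat.le_of_ble_eq_true rfl) rfl

theorem c1985 : Block F al 0 254208 175443 :=
  block_comb c1984 b1985 (Nat.zero_le _) (Nat.le_of_ble_eq_true rfl) rfl

theorem c1986 : Block F al 0 254336 175571 :=
  block_comb c1985 b1986 (Nat.zero_le _) (Nat.le_of_ble_eq_true rfl) rfl

theorem c1987 : Block F al 0 254464 175699 :=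
  block_comb c1986 b1987 (Nat.zero_le _) (Nat.le_of_ble_eq_true rfl) rfl

theorem c1988 : Block F al 0 254592 175827 :=
  block_comb c1987 b1988 (Nat.zero_le _) (Nat.le_of_ble_eq_true rfl) rfl

theorem c1989 : Block F al 0 254720 175955 :=
  block_comb c1988 b1989 (Nat.zero_le _) (Nat.le_of_ble_eq_true rfl) rfl

theorem c1990 : Block F al 0 254848 176083 :=
  block_comb c1989 b1990 (Nat.zero_le _) (Nat.le_of_ble_eq_true rfl) rfl

theorem c1991 : Block F al 0 254976 176211 :=
  block_comb c1990 b1991 (Nat.zero_le _) (Nat.le_of_ble_eq_true rfl) rfl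

theorem c1992 : Block F al 0 255104 176339 :=
  block_comb c1991 b1992 (Nat.zero_le _) (Nat.le_of_ble_eq_true rfl) rfl

theorem c1993 : Block F al 0 255232 176467 :=
  block_comb c1992 b1993 (Nat.zero_le _) (Nat.le_of_ble_eq_true rfl) rfl

theorem c1994 : Block F al 0 255360 176595 :=
  block_comb c1993 b1994 (Nat.zero_le _) (Nat.le_of_ble_eq_true rfl) rfl

theorem c1995 : Block F al 0 255488 176723 :=
  block_comb c1994 b1995 (Nat.zero_le _) (Nat.le_of_ble_eq_true rfl) rfl

theorem c1996 : Block F al 0 255616 176851 :=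
  block_comb c1995 b1996 (Nat.zero_le _) (Nat.le_of_ble_eq_true rfl) rfl

theorem c1997 : Block F al 0 255744 176979 :=
  block_comb c1996 b1997 (Nat.zero_le _) (Nat.le_of_ble_eq_true rfl) rfl

theorem c1998 : Block F al 0 255872 177107 :=
  block_comb c1997 b1998 (Nat.zero_le _) (Nat.le_of_ble_eq_true rfl) rfl

theorem c1999 : Block F al 0 256000 177235 :=
  block_comb c1998 b1999 (Nat.zero_le _) (Nat.le_of_ble_eq_true rfl) rfl

theorem c2000 : Block F al 0 256128 177363 :=
  block_comb c1999 b2000 (Nat.zero_le _) (Nat.le_of_ble_eq_true rfl) rfl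

theorem c2001 : Block F al 0 256256 177491 :=
  block_comb c2000 b2001 (Nat.zero_le _) (Nat.le_of_ble_eq_true rfl) rfl

theorem c2002 : Block F al 0 256384 177619 :=
  block_comb c2001 b2002 (Nat.zero_le _) (Nat.le_of_ble_eq_true rfl) rfl

theorem c2003 : Block F al 0 256512 177747 :=
  block_comb c2002 b2003 (Nat.zero_le _) (Nat.le_of_ble_eq_true rfl) rfl

theorem c2004 : Block F al 0 256640 177875 :=
  block_comb c2003 b2004 (Nat.zero_le _) (Nat.le_of_ble_eq_true rfl) rfl

theorem c2005 : Block F al 0 256768 178003 :=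
  block_comb c2004 b2005 (Nat.zero_le _) (Nat.le_of_ble_eq_true rfl) rfl

theorem c2006 : Block F al 0 256896 178131 :=
  block_comb c2005 b2006 (Nat.zero_le _) (Nat.le_of_ble_eq_true rfl) rfl

theorem c2007 : Block F al 0 257024 178259 :=
  block_comb c2006 b2007 (Nat.zero_le _) (Nat.le_of_ble_eq_true rfl) rfl

theorem c2008 : Block F al 0 257152 178387 :=
  block_comb c2007 b2008 (Nat.zero_le _) (Nat.le_of_ble_eq_true rfl) rfl

theorem c2009 : Block F al 0 257280 178515 :=
  block_comb c2008 b2009 (Nat.zero_le _) (Nat.le_of_ble_eq_true rfl) rfl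

theorem c2010 : Block F al 0 257408 178643 :=
  block_comb c2009 b2010 (Nat.zero_le _) (Nat.le_of_ble_eq_true rfl) rfl

theorem c2011 : Block F al 0 257536 178771 :=
  block_comb c2010 b2011 (Nat.zero_le _) (Nat.le_of_ble_eq_true rfl) rfl

theorem c2012 : Block F al 0 257664 178899 :=
  block_comb c2011 b2012 (Nat.zero_le _) (Nat.le_of_ble_eq_true rfl) rfl

theorem c2013 : Block F al 0 257792 179027 :=
  block_comb c2012 b2013 (Nat.zero_le _) (Nat.le_of_ble_eq_true rfl) rfl

theorem c2014 : Block F al 0 257920 179155 :=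
  block_comb c2013 b2014 (Nat.zero_le _) (Nat.le_of_ble_eq_true rfl) rfl

theorem c2015 : Block F al 0 258048 179283 :=
  block_comb c2014 b2015 (Nat.zero_le _) (Nat.le_of_ble_eq_true rfl) rfl

theorem c2016 : Block F al 0 258176 179411 :=
  block_comb c2015 b2016 (Nat.zero_le _) (Nat.le_of_ble_eq_true rfl) rfl

theorem c2017 : Block F al 0 258304 179539 :=
  block_comb c2016 b2017 (Nat.zero_le _) (Nat.le_of_ble_eq_true rfl) rfl

theorem c2018 : Block F al 0 258432 179667 :=
  block_comb c2017 b2018 (Nat.zero_le _) (Nat.le_of_ble_eq_true rfl) rfl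

theorem c2019 : Block F al 0 258560 179795 :=
  block_comb c2018 b2019 (Nat.zero_le _) (Nat.le_of_ble_eq_true rfl) rfl

theorem c2020 : Block F al 0 258688 179923 :=
  block_comb c2019 b2020 (Nat.zero_le _) (Nat.le_of_ble_eq_true rfl) rfl

theorem c2021 : Block F al 0 258816 180051 :=
  block_comb c2020 b2021 (Nat.zero_le _) (Nat.le_of_ble_eq_true rfl) rfl

theorem c2022 : Block F al 0 258944 180179 :=
  block_comb c2021 b2022 (Nat.zero_le _) (Nat.le_of_ble_eq_true rfl) rfl

theorem c2023 : Block F al 0 259072 180307 :=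
  block_comb c2022 b2023 (Nat.zero_le _) (Nat.le_of_ble_eq_true rfl) rfl

theorem c2024 : Block F al 0 259200 180435 :=
  block_comb c2023 b2024 (Nat.zero_le _) (Nat.le_of_ble_eq_true rfl) rfl

theorem c2025 : Block F al 0 259328 180563 :=
  block_comb c2024 b2025 (Nat.zero_le _) (Nat.le_of_ble_eq_true rfl) rfl

theorem c2026 : Block F al 0 259456 180691 :=
  block_comb c2025 b2026 (Nat.zero_le _) (Nat.le_of_ble_eq_true rfl) rfl

theorem c2027 : Block F al 0 259584 180819 :=
  block_comb c2026 b2027 (Nat.zero_le _) (Nat.le_of_ble_eq_true rfl) rfl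

theorem c2028 : Block F al 0 259712 180947 :=
  block_comb c2027 b2028 (Nat.zero_le _) (Nat.le_of_ble_eq_true rfl) rfl

theorem c2029 : Block F al 0 259840 181075 :=
  block_comb c2028 b2029 (Nat.zero_le _) (Nat.le_of_ble_eq_true rfl) rfl

theorem c2030 : Block F al 0 259968 181203 :=
  block_comb c2029 b2030 (Nat.zero_le _) (Nat.le_of_ble_eq_true rfl) rfl

theorem c2031 : Block F al 0 260096 181331 :=
  block_comb c2030 b2031 (Nat.zero_le _) (Nat.le_of_ble_eq_true rfl) rfl

theorem c2032 : Block F al 0 260224 181459 :=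
  block_comb c2031 b2032 (Nat.zero_le _) (Nat.le_of_ble_eq_true rfl) rfl

theorem c2033 : Block F al 0 260352 181587 :=
  block_comb c2032 b2033 (Nat.zero_le _) (Nat.le_of_ble_eq_true rfl) rfl

theorem c2034 : Block F al 0 260480 181715 :=
  block_comb c2033 b2034 (Nat.zero_le _) (Nat.le_of_ble_eq_true rfl) rfl

theorem c2035 : Block F al 0 260608 181843 :=
  block_comb c2034 b2035 (Nat.zero_le _) (Nat.le_of_ble_eq_true rfl) rfl

theorem c2036 : Block F al 0 260736 181971 :=
  block_comb c2035 b2036 (Nat.zero_le _) (Nat.le_of_ble_eq_true rfl) rfl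

theorem c2037 : Block F al 0 260864 182099 :=
  block_comb c2036 b2037 (Nat.zero_le _) (Nat.le_of_ble_eq_true rfl) rfl

theorem c2038 : Block F al 0 260992 182227 :=
  block_comb c2037 b2038 (Nat.zero_le _) (Nat.le_of_ble_eq_true rfl) rfl

theorem c2039 : Block F al 0 261120 182355 :=
  block_comb c2038 b2039 (Nat.zero_le _) (Nat.le_of_ble_eq_true rfl) rfl

theorem c2040 : Block F al 0 261248 182483 :=
  block_comb c2039 b2040 (Nat.zero_le _) (Nat.le_of_ble_eq_true rfl) rfl

theorem c2041 : Block F al 0 261376 182611 :=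
  block_comb c2040 b2041 (Nat.zero_le _) (Nat.le_of_ble_eq_true rfl) rfl

theorem c2042 : Block F al 0 261504 182739 :=
  block_comb c2041 b2042 (Nat.zero_le _) (Nat.le_of_ble_eq_true rfl) rfl

theorem c2043 : Block F al 0 261632 182867 :=
  block_comb c2042 b2043 (Nat.zero_le _) (Nat.le_of_ble_eq_true rfl) rfl

theorem c2044 : Block F al 0 261760 182995 :=
  block_comb c2043 b2044 (Nat.zero_le _) (Nat.le_of_ble_eq_true rfl) rfl

theorem c2045 : Block F al 0 261888 183123 :=
  block_comb c2044 b2045 (Nat.zero_le _) (Nat.le_of_ble_eq_true rfl) rfl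

theorem c2046 : Block F al 0 262016 183251 :=
  block_comb c2045 b2046 (Nat.zero_le _) (Nat.le_of_ble_eq_true rfl) rfl

theorem c2047 : Block F al 0 262144 183379 :=
  block_comb c2046 b2047 (Nat.zero_le _) (Nat.le_of_ble_eq_true rfl) rfl

theorem c2048 : Block F al 0 262272 183507 :=
  block_comb c2047 b2048 (Nat.zero_le _) (Nat.le_of_ble_eq_true rfl) rfl

theorem c2049 : Block F al 0 262400 183635 :=
  block_comb c2048 b2049 (Nat.zero_le _) (Nat.le_of_ble_eq_true rfl) rfl

theorem c2050 : Block F al 0 262528 183763 :=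
  block_comb c2049 b2050 (Nat.zero_le _) (Nat.le_of_ble_eq_true rfl) rfl

theorem c2051 : Block F al 0 262656 183891 :=
  block_comb c2050 b2051 (Nat.zero_le _) (Nat.le_of_ble_eq_true rfl) rfl

theorem c2052 : Block F al 0 262784 184019 :=
  block_comb c2051 b2052 (Nat.zero_le _) (Nat.le_of_ble_eq_true rfl) rfl

theorem c2053 : Block F al 0 262912 184147 :=
  block_comb c2052 b2053 (Nat.zero_le _) (Nat.le_of_ble_eq_true rfl) rfl

theorem c2054 : Block F al 0 263040 184275 :=
  block_comb c2053 b2054 (Nat.zero_le _) (Nat.le_of_ble_eq_true rfl) rfl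

theorem c2055 : Block F al 0 263168 184403 :=
  block_comb c2054 b2055 (Nat.zero_le _) (Nat.le_of_ble_eq_true rfl) rfl

theorem c2056 : Block F al 0 263296 184531 :=
  block_comb c2055 b2056 (Nat.zero_le _) (Nat.le_of_ble_eq_true rfl) rfl

theorem c2057 : Block F al 0 263424 184659 :=
  block_comb c2056 b2057 (Nat.zero_le _) (Nat.le_of_ble_eq_true rfl) rfl

theorem c2058 : Block F al 0 263552 184787 :=
  block_comb c2057 b2058 (Nat.zero_le _) (Nat.le_of_ble_eq_true rfl) rfl

theorem c2059 : Block F al 0 263680 184915 :=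
  block_comb c2058 b2059 (Nat.zero_le _) (Nat.le_of_ble_eq_true rfl) rfl

theorem c2060 : Block F al 0 263808 185043 :=
  block_comb c2059 b2060 (Nat.zero_le _) (Nat.le_of_ble_eq_true rfl) rfl

theorem c2061 : Block F al 0 263936 185171 :=
  block_comb c2060 b2061 (Nat.zero_le _) (Nat.le_of_ble_eq_true rfl) rfl

theorem c2062 : Block F al 0 264064 185299 :=
  block_comb c2061 b2062 (Nat.zero_le _) (Nat.le_of_ble_eq_true rfl) rfl

theorem c2063 : Block F al 0 264192 185427 :=
  block_comb c2062 b2063 (Nat.zero_le _) (Nat.le_of_ble_eq_true rfl) rfl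

theorem c2064 : Block F al 0 264320 185555 :=
  block_comb c2063 b2064 (Nat.zero_le _) (Nat.le_of_ble_eq_true rfl) rfl

theorem c2065 : Block F al 0 264448 185683 :=
  block_comb c2064 b2065 (Nat.zero_le _) (Nat.le_of_ble_eq_true rfl) rfl

theorem c2066 : Block F al 0 264576 185811 :=
  block_comb c2065 b2066 (Nat.zero_le _) (Nat.le_of_ble_eq_true rfl) rfl

theorem c2067 : Block F al 0 264704 185939 :=
  block_comb c2066 b2067 (Nat.zero_le _) (Nat.le_of_ble_eq_true rfl) rfl

theorem c2068 : Block F al 0 264832 186067 :=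
  block_comb c2067 b2068 (Nat.zero_le _) (Nat.le_of_ble_eq_true rfl) rfl

theorem c2069 : Block F al 0 264960 186195 :=
  block_comb c2068 b2069 (Nat.zero_le _) (Nat.le_of_ble_eq_true rfl) rfl

theorem c2070 : Block F al 0 265088 186323 :=
  block_comb c2069 b2070 (Nat.zero_le _) (Nat.le_of_ble_eq_true rfl) rfl

theorem c2071 : Block F al 0 265216 186451 :=
  block_comb c2070 b2071 (Nat.zero_le _) (Nat.le_of_ble_eq_true rfl) rfl

theorem c2072 : Block F al 0 265344 186579 :=
  block_comb c2071 b2072 (Nat.zero_le _) (Nat.le_of_ble_eq_true rfl) rfl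

theorem c2073 : Block F al 0 265472 186707 :=
  block_comb c2072 b2073 (Nat.zero_le _) (Nat.le_of_ble_eq_true rfl) rfl

theorem c2074 : Block F al 0 265600 186835 :=
  block_comb c2073 b2074 (Nat.zero_le _) (Nat.le_of_ble_eq_true rfl) rfl

theorem c2075 : Block F al 0 265728 186963 :=
  block_comb c2074 b2075 (Nat.zero_le _) (Nat.le_of_ble_eq_true rfl) rfl

theorem c2076 : Block F al 0 265856 187091 :=
  block_comb c2075 b2076 (Nat.zero_le _) (Nat.le_of_ble_eq_true rfl) rfl

theorem c2077 : Block F al 0 265984 187219 :=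
  block_comb c2076 b2077 (Nat.zero_le _) (Nat.le_of_ble_eq_true rfl) rfl

theorem c2078 : Block F al 0 266112 187347 :=
  block_comb c2077 b2078 (Nat.zero_le _) (Nat.le_of_ble_eq_true rfl) rfl

theorem c2079 : Block F al 0 266240 187475 :=
  block_comb c2078 b2079 (Nat.zero_le _) (Nat.le_of_ble_eq_true rfl) rfl

theorem c2080 : Block F al 0 266368 187603 :=
  block_comb c2079 b2080 (Nat.zero_le _) (Nat.le_of_ble_eq_true rfl) rfl

theorem c2081 : Block F al 0 266496 187731 :=
  block_comb c2080 b2081 (Nat.zero_le _) (Nat.le_of_ble_eq_true rfl) rfl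

theorem c2082 : Block F al 0 266624 187859 :=
  block_comb c2081 b2082 (Nat.zero_le _) (Nat.le_of_ble_eq_true rfl) rfl

theorem c2083 : Block F al 0 266752 187987 :=
  block_comb c2082 b2083 (Nat.zero_le _) (Nat.le_of_ble_eq_true rfl) rfl

theorem c2084 : Block F al 0 266880 188115 :=
  block_comb c2083 b2084 (Nat.zero_le _) (Nat.le_of_ble_eq_true rfl) rfl

theorem c2085 : Block F al 0 267008 188243 :=
  block_comb c2084 b2085 (Nat.zero_le _) (Nat.le_of_ble_eq_true rfl) rfl

theorem c2086 : Block F al 0 267136 188371 :=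
  block_comb c2085 b2086 (Nat.zero_le _) (Nat.le_of_ble_eq_true rfl) rfl

theorem c2087 : Block F al 0 267264 188499 :=
  block_comb c2086 b2087 (Nat.zero_le _) (Nat.le_of_ble_eq_true rfl) rfl

theorem c2088 : Block F al 0 267392 188627 :=
  block_comb c2087 b2088 (Nat.zero_le _) (Nat.le_of_ble_eq_true rfl) rfl

theorem c2089 : Block F al 0 267520 188755 :=
  block_comb c2088 b2089 (Nat.zero_le _) (Nat.le_of_ble_eq_true rfl) rfl

theorem c2090 : Block F al 0 267648 188883 :=
  block_comb c2089 b2090 (Nat.zero_le _) (Nat.le_of_ble_eq_true rfl) rfl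

theorem c2091 : Block F al 0 267776 189011 :=
  block_comb c2090 b2091 (Nat.zero_le _) (Nat.le_of_ble_eq_true rfl) rfl

theorem c2092 : Block F al 0 267904 189139 :=
  block_comb c2091 b2092 (Nat.zero_le _) (Nat.le_of_ble_eq_true rfl) rfl

theorem c2093 : Block F al 0 268032 189267 :=
  block_comb c2092 b2093 (Nat.zero_le _) (Nat.le_of_ble_eq_true rfl) rfl

theorem c2094 : Block F al 0 268160 189395 :=
  block_comb c2093 b2094 (Nat.zero_le _) (Nat.le_of_ble_eq_true rfl) rfl

theorem c2095 : Block F al 0 268288 189523 :=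
  block_comb c2094 b2095 (Nat.zero_le _) (Nat.le_of_ble_eq_true rfl) rfl

theorem c2096 : Block F al 0 268416 189651 :=
  block_comb c2095 b2096 (Nat.zero_le _) (Nat.le_of_ble_eq_true rfl) rfl

theorem c2097 : Block F al 0 268544 189779 :=
  block_comb c2096 b2097 (Nat.zero_le _) (Nat.le_of_ble_eq_true rfl) rfl

theorem c2098 : Block F al 0 268672 189907 :=
  block_comb c2097 b2098 (Nat.zero_le _) (Nat.le_of_ble_eq_true rfl) rfl

theorem c2099 : Block F al 0 268800 190035 :=
  block_comb c2098 b2099 (Nat.zero_le _) (Nat.le_of_ble_eq_true rfl) rfl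

theorem c2100 : Block F al 0 268928 190163 :=
  block_comb c2099 b2100 (Nat.zero_le _) (Nat.le_of_ble_eq_true rfl) rfl

theorem c2101 : Block F al 0 269056 190291 :=
  block_comb c2100 b2101 (Nat.zero_le _) (Nat.le_of_ble_eq_true rfl) rfl

theorem c2102 : Block F al 0 269184 190419 :=
  block_comb c2101 b2102 (Nat.zero_le _) (Nat.le_of_ble_eq_true rfl) rfl

theorem c2103 : Block F al 0 269312 190547 :=
  block_comb c2102 b2103 (Nat.zero_le _) (Nat.le_of_ble_eq_true rfl) rfl

theorem c2104 : Block F al 0 269440 190675 :=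
  block_comb c2103 b2104 (Nat.zero_le _) (Nat.le_of_ble_eq_true rfl) rfl

theorem c2105 : Block F al 0 269568 190803 :=
  block_comb c2104 b2105 (Nat.zero_le _) (Nat.le_of_ble_eq_true rfl) rfl

theorem c2106 : Block F al 0 269696 190931 :=
  block_comb c2105 b2106 (Nat.zero_le _) (Nat.le_of_ble_eq_true rfl) rfl

theorem c2107 : Block F al 0 269824 191059 :=
  block_comb c2106 b2107 (Nat.zero_le _) (Nat.le_of_ble_eq_true rfl) rfl

theorem c2108 : Block F al 0 269952 191187 :=
  block_comb c2107 b2108 (Nat.zero_le _) (Nat.le_of_ble_eq_true rfl) rfl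

theorem c2109 : Block F al 0 270080 191315 :=
  block_comb c2108 b2109 (Nat.zero_le _) (Nat.le_of_ble_eq_true rfl) rfl

theorem c2110 : Block F al 0 270208 191443 :=
  block_comb c2109 b2110 (Nat.zero_le _) (Nat.le_of_ble_eq_true rfl) rfl

theorem c2111 : Block F al 0 270336 191571 :=
  block_comb c2110 b2111 (Nat.zero_le _) (Nat.le_of_ble_eq_true rfl) rfl

theorem c2112 : Block F al 0 270464 191699 :=
  block_comb c2111 b2112 (Nat.zero_le _) (Nat.le_of_ble_eq_true rfl) rfl

theorem c2113 : Block F al 0 270592 191827 :=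
  block_comb c2112 b2113 (Nat.zero_le _) (Nat.le_of_ble_eq_true rfl) rfl

theorem c2114 : Block F al 0 270720 191955 :=
  block_comb c2113 b2114 (Nat.zero_le _) (Nat.le_of_ble_eq_true rfl) rfl

theorem c2115 : Block F al 0 270848 192083 :=
  block_comb c2114 b2115 (Nat.zero_le _) (Nat.le_of_ble_eq_true rfl) rfl

theorem c2116 : Block F al 0 270976 192211 :=
  block_comb c2115 b2116 (Nat.zero_le _) (Nat.le_of_ble_eq_true rfl) rfl

theorem c2117 : Block F al 0 271104 192339 :=
  block_comb c2116 b2117 (Nat.zero_le _) (Nat.le_of_ble_eq_true rfl) rfl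

theorem c2118 : Block F al 0 271232 192467 :=
  block_comb c2117 b2118 (Nat.zero_le _) (Nat.le_of_ble_eq_true rfl) rfl

theorem c2119 : Block F al 0 271360 192595 :=
  block_comb c2118 b2119 (Nat.zero_le _) (Nat.le_of_ble_eq_true rfl) rfl

theorem c2120 : Block F al 0 271488 192723 :=
  block_comb c2119 b2120 (Nat.zero_le _) (Nat.le_of_ble_eq_true rfl) rfl

theorem c2121 : Block F al 0 271616 192851 :=
  block_comb c2120 b2121 (Nat.zero_le _) (Nat.le_of_ble_eq_true rfl) rfl

theorem c2122 : Block F al 0 271744 192979 :=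
  block_comb c2121 b2122 (Nat.zero_le _) (Nat.le_of_ble_eq_true rfl) rfl

theorem c2123 : Block F al 0 271872 193107 :=
  block_comb c2122 b2123 (Nat.zero_le _) (Nat.le_of_ble_eq_true rfl) rfl

theorem c2124 : Block F al 0 272000 193235 :=
  block_comb c2123 b2124 (Nat.zero_le _) (Nat.le_of_ble_eq_true rfl) rfl

theorem c2125 : Block F al 0 272128 193363 :=
  block_comb c2124 b2125 (Nat.zero_le _) (Nat.le_of_ble_eq_true rfl) rfl

theorem c2126 : Block F al 0 272256 193491 :=
  block_comb c2125 b2126 (Nat.zero_le _) (Nat.le_of_ble_eq_true rfl) rfl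

theorem c2127 : Block F al 0 272384 193619 :=
  block_comb c2126 b2127 (Nat.zero_le _) (Nat.le_of_ble_eq_true rfl) rfl

theorem c2128 : Block F al 0 272512 193747 :=
  block_comb c2127 b2128 (Nat.zero_le _) (Nat.le_of_ble_eq_true rfl) rfl

theorem c2129 : Block F al 0 272640 193875 :=
  block_comb c2128 b2129 (Nat.zero_le _) (Nat.le_of_ble_eq_true rfl) rfl

theorem c2130 : Block F al 0 272768 194003 :=
  block_comb c2129 b2130 (Nat.zero_le _) (Nat.le_of_ble_eq_true rfl) rfl

theorem c2131 : Block F al 0 272896 194131 :=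
  block_comb c2130 b2131 (Nat.zero_le _) (Nat.le_of_ble_eq_true rfl) rfl

theorem c2132 : Block F al 0 273024 194259 :=
  block_comb c2131 b2132 (Nat.zero_le _) (Nat.le_of_ble_eq_true rfl) rfl

theorem c2133 : Block F al 0 273152 194387 :=
  block_comb c2132 b2133 (Nat.zero_le _) (Nat.le_of_ble_eq_true rfl) rfl

theorem c2134 : Block F al 0 273280 194515 :=
  block_comb c2133 b2134 (Nat.zero_le _) (Nat.le_of_ble_eq_true rfl) rfl

theorem c2135 : Block F al 0 273408 194643 :=
  block_comb c2134 b2135 (Nat.zero_le _) (Nat.le_of_ble_eq_true rfl) rfl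

theorem c2136 : Block F al 0 273536 194771 :=
  block_comb c2135 b2136 (Nat.zero_le _) (Nat.le_of_ble_eq_true rfl) rfl

theorem c2137 : Block F al 0 273664 194899 :=
  block_comb c2136 b2137 (Nat.zero_le _) (Nat.le_of_ble_eq_true rfl) rfl

theorem c2138 : Block F al 0 273792 195027 :=
  block_comb c2137 b2138 (Nat.zero_le _) (Nat.le_of_ble_eq_true rfl) rfl

theorem c2139 : Block F al 0 273920 195155 :=
  block_comb c2138 b2139 (Nat.zero_le _) (Nat.le_of_ble_eq_true rfl) rfl

theorem c2140 : Block F al 0 274048 195283 :=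
  block_comb c2139 b2140 (Nat.zero_le _) (Nat.le_of_ble_eq_true rfl) rfl

theorem c2141 : Block F al 0 274176 195411 :=
  block_comb c2140 b2141 (Nat.zero_le _) (Nat.le_of_ble_eq_true rfl) rfl

theorem c2142 : Block F al 0 274304 195539 :=
  block_comb c2141 b2142 (Nat.zero_le _) (Nat.le_of_ble_eq_true rfl) rfl

theorem c2143 : Block F al 0 274432 195667 :=
  block_comb c2142 b2143 (Nat.zero_le _) (Nat.le_of_ble_eq_true rfl) rfl

theorem c2144 : Block F al 0 274560 195795 :=
  block_comb c2143 b2144 (Nat.zero_le _) (Nat.le_of_ble_eq_true rfl) rfl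

theorem c2145 : Block F al 0 274688 195923 :=
  block_comb c2144 b2145 (Nat.zero_le _) (Nat.le_of_ble_eq_true rfl) rfl

theorem c2146 : Block F al 0 274816 196051 :=
  block_comb c2145 b2146 (Nat.zero_le _) (Nat.le_of_ble_eq_true rfl) rfl

theorem c2147 : Block F al 0 274944 196179 :=
  block_comb c2146 b2147 (Nat.zero_le _) (Nat.le_of_ble_eq_true rfl) rfl

theorem c2148 : Block F al 0 275072 196307 :=
  block_comb c2147 b2148 (Nat.zero_le _) (Nat.le_of_ble_eq_true rfl) rfl

theorem c2149 : Block F al 0 275200 196435 :=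
  block_comb c2148 b2149 (Nat.zero_le _) (Nat.le_of_ble_eq_true rfl) rfl

theorem c2150 : Block F al 0 275328 196563 :=
  block_comb c2149 b2150 (Nat.zero_le _) (Nat.le_of_ble_eq_true rfl) rfl

theorem c2151 : Block F al 0 275456 196691 :=
  block_comb c2150 b2151 (Nat.zero_le _) (Nat.le_of_ble_eq_true rfl) rfl

theorem c2152 : Block F al 0 275584 196819 :=
  block_comb c2151 b2152 (Nat.zero_le _) (Nat.le_of_ble_eq_true rfl) rfl

theorem c2153 : Block F al 0 275712 196947 :=
  block_comb c2152 b2153 (Nat.zero_le _) (Nat.le_of_ble_eq_true rfl) rfl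

theorem c2154 : Block F al 0 275840 197075 :=
  block_comb c2153 b2154 (Nat.zero_le _) (Nat.le_of_ble_eq_true rfl) rfl

theorem c2155 : Block F al 0 275968 197203 :=
  block_comb c2154 b2155 (Nat.zero_le _) (Nat.le_of_ble_eq_true rfl) rfl

theorem c2156 : Block F al 0 276096 197331 :=
  block_comb c2155 b2156 (Nat.zero_le _) (Nat.le_of_ble_eq_true rfl) rfl

theorem c2157 : Block F al 0 276224 197459 :=
  block_comb c2156 b2157 (Nat.zero_le _) (Nat.le_of_ble_eq_true rfl) rfl

theorem c2158 : Block F al 0 276352 197587 :=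
  block_comb c2157 b2158 (Nat.zero_le _) (Nat.le_of_ble_eq_true rfl) rfl

theorem c2159 : Block F al 0 276480 197715 :=
  block_comb c2158 b2159 (Nat.zero_le _) (Nat.le_of_ble_eq_true rfl) rfl

theorem c2160 : Block F al 0 276608 197843 :=
  block_comb c2159 b2160 (Nat.zero_le _) (Nat.le_of_ble_eq_true rfl) rfl

theorem c2161 : Block F al 0 276736 197971 :=
  block_comb c2160 b2161 (Nat.zero_le _) (Nat.le_of_ble_eq_true rfl) rfl

theorem c2162 : Block F al 0 276864 198099 :=
  block_comb c2161 b2162 (Nat.zero_le _) (Nat.le_of_ble_eq_true rfl) rfl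

theorem c2163 : Block F al 0 276992 198227 :=
  block_comb c2162 b2163 (Nat.zero_le _) (Nat.le_of_ble_eq_true rfl) rfl

theorem c2164 : Block F al 0 277120 198355 :=
  block_comb c2163 b2164 (Nat.zero_le _) (Nat.le_of_ble_eq_true rfl) rfl

theorem c2165 : Block F al 0 277248 198483 :=
  block_comb c2164 b2165 (Nat.zero_le _) (Nat.le_of_ble_eq_true rfl) rfl

theorem c2166 : Block F al 0 277376 198611 :=
  block_comb c2165 b2166 (Nat.zero_le _) (Nat.le_of_ble_eq_true rfl) rfl

theorem c2167 : Block F al 0 277504 198739 :=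
  block_comb c2166 b2167 (Nat.zero_le _) (Nat.le_of_ble_eq_true rfl) rfl

theorem c2168 : Block F al 0 277632 198867 :=
  block_comb c2167 b2168 (Nat.zero_le _) (Nat.le_of_ble_eq_true rfl) rfl

theorem c2169 : Block F al 0 277760 198995 :=
  block_comb c2168 b2169 (Nat.zero_le _) (Nat.le_of_ble_eq_true rfl) rfl

theorem c2170 : Block F al 0 277888 199123 :=
  block_comb c2169 b2170 (Nat.zero_le _) (Nat.le_of_ble_eq_true rfl) rfl

theorem c2171 : Block F al 0 278016 199251 :=
  block_comb c2170 b2171 (Nat.zero_le _) (Nat.le_of_ble_eq_true rfl) rfl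

theorem c2172 : Block F al 0 278144 199379 :=
  block_comb c2171 b2172 (Nat.zero_le _) (Nat.le_of_ble_eq_true rfl) rfl

theorem c2173 : Block F al 0 278272 199507 :=
  block_comb c2172 b2173 (Nat.zero_le _) (Nat.le_of_ble_eq_true rfl) rfl

theorem c2174 : Block F al 0 278400 199635 :=
  block_comb c2173 b2174 (Nat.zero_le _) (Nat.le_of_ble_eq_true rfl) rfl

theorem c2175 : Block F al 0 278528 199763 :=
  block_comb c2174 b2175 (Nat.zero_le _) (Nat.le_of_ble_eq_true rfl) rfl

theorem c2176 : Block F al 0 278656 199891 :=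
  block_comb c2175 b2176 (Nat.zero_le _) (Nat.le_of_ble_eq_true rfl) rfl

theorem c2177 : Block F al 0 278784 200019 :=
  block_comb c2176 b2177 (Nat.zero_le _) (Nat.le_of_ble_eq_true rfl) rfl

theorem c2178 : Block F al 0 278912 200147 :=
  block_comb c2177 b2178 (Nat.zero_le _) (Nat.le_of_ble_eq_true rfl) rfl

theorem c2179 : Block F al 0 279040 200275 :=
  block_comb c2178 b2179 (Nat.zero_le _) (Nat.le_of_ble_eq_true rfl) rfl

theorem c2180 : Block F al 0 279168 200403 :=
  block_comb c2179 b2180 (Nat.zero_le _) (Nat.le_of_ble_eq_true rfl) rfl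

theorem c2181 : Block F al 0 279296 200531 :=
  block_comb c2180 b2181 (Nat.zero_le _) (Nat.le_of_ble_eq_true rfl) rfl

theorem c2182 : Block F al 0 279424 200659 :=
  block_comb c2181 b2182 (Nat.zero_le _) (Nat.le_of_ble_eq_true rfl) rfl

theorem c2183 : Block F al 0 279552 200787 :=
  block_comb c2182 b2183 (Nat.zero_le _) (Nat.le_of_ble_eq_true rfl) rfl

theorem c2184 : Block F al 0 279680 200915 :=
  block_comb c2183 b2184 (Nat.zero_le _) (Nat.le_of_ble_eq_true rfl) rfl

theorem c2185 : Block F al 0 279808 201043 :=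
  block_comb c2184 b2185 (Nat.zero_le _) (Nat.le_of_ble_eq_true rfl) rfl

theorem c2186 : Block F al 0 279936 201171 :=
  block_comb c2185 b2186 (Nat.zero_le _) (Nat.le_of_ble_eq_true rfl) rfl

theorem c2187 : Block F al 0 280064 201299 :=
  block_comb c2186 b2187 (Nat.zero_le _) (Nat.le_of_ble_eq_true rfl) rfl

theorem c2188 : Block F al 0 280192 201427 :=
  block_comb c2187 b2188 (Nat.zero_le _) (Nat.le_of_ble_eq_true rfl) rfl

theorem c2189 : Block F al 0 280320 201555 :=
  block_comb c2188 b2189 (Nat.zero_le _) (Nat.le_of_ble_eq_true rfl) rfl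

theorem c2190 : Block F al 0 280448 201683 :=
  block_comb c2189 b2190 (Nat.zero_le _) (Nat.le_of_ble_eq_true rfl) rfl

theorem c2191 : Block F al 0 280576 201811 :=
  block_comb c2190 b2191 (Nat.zero_le _) (Nat.le_of_ble_eq_true rfl) rfl

theorem c2192 : Block F al 0 280704 201939 :=
  block_comb c2191 b2192 (Nat.zero_le _) (Nat.le_of_ble_eq_true rfl) rfl

theorem c2193 : Block F al 0 280832 202067 :=
  block_comb c2192 b2193 (Nat.zero_le _) (Nat.le_of_ble_eq_true rfl) rfl

theorem c2194 : Block F al 0 280960 202195 :=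
  block_comb c2193 b2194 (Nat.zero_le _) (Nat.le_of_ble_eq_true rfl) rfl

theorem c2195 : Block F al 0 281088 202323 :=
  block_comb c2194 b2195 (Nat.zero_le _) (Nat.le_of_ble_eq_true rfl) rfl

theorem c2196 : Block F al 0 281216 202451 :=
  block_comb c2195 b2196 (Nat.zero_le _) (Nat.le_of_ble_eq_true rfl) rfl

theorem c2197 : Block F al 0 281344 202579 :=
  block_comb c2196 b2197 (Nat.zero_le _) (Nat.le_of_ble_eq_true rfl) rfl

theorem c2198 : Block F al 0 281472 202707 :=
  block_comb c2197 b2198 (Nat.zero_le _) (Nat.le_of_ble_eq_true rfl) rfl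

theorem c2199 : Block F al 0 281600 202835 :=
  block_comb c2198 b2199 (Nat.zero_le _) (Nat.le_of_ble_eq_true rfl) rfl

theorem c2200 : Block F al 0 281728 202963 :=
  block_comb c2199 b2200 (Nat.zero_le _) (Nat.le_of_ble_eq_true rfl) rfl

theorem c2201 : Block F al 0 281856 203091 :=
  block_comb c2200 b2201 (Nat.zero_le _) (Nat.le_of_ble_eq_true rfl) rfl

theorem c2202 : Block F al 0 281984 203219 :=
  block_comb c2201 b2202 (Nat.zero_le _) (Nat.le_of_ble_eq_true rfl) rfl

theorem c2203 : Block F al 0 282112 203347 :=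
  block_comb c2202 b2203 (Nat.zero_le _) (Nat.le_of_ble_eq_true rfl) rfl

theorem c2204 : Block F al 0 282240 203475 :=
  block_comb c2203 b2204 (Nat.zero_le _) (Nat.le_of_ble_eq_true rfl) rfl

theorem c2205 : Block F al 0 282368 203603 :=
  block_comb c2204 b2205 (Nat.zero_le _) (Nat.le_of_ble_eq_true rfl) rfl

theorem c2206 : Block F al 0 282496 203731 :=
  block_comb c2205 b2206 (Nat.zero_le _) (Nat.le_of_ble_eq_true rfl) rfl

theorem c2207 : Block F al 0 282624 203859 :=
  block_comb c2206 b2207 (Nat.zero_le _) (Nat.le_of_ble_eq_true rfl) rfl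

theorem c2208 : Block F al 0 282752 203987 :=
  block_comb c2207 b2208 (Nat.zero_le _) (Nat.le_of_ble_eq_true rfl) rfl

theorem c2209 : Block F al 0 282880 204115 :=
  block_comb c2208 b2209 (Nat.zero_le _) (Nat.le_of_ble_eq_true rfl) rfl

theorem c2210 : Block F al 0 283008 204243 :=
  block_comb c2209 b2210 (Nat.zero_le _) (Nat.le_of_ble_eq_true rfl) rfl

theorem c2211 : Block F al 0 283136 204371 :=
  block_comb c2210 b2211 (Nat.zero_le _) (Nat.le_of_ble_eq_true rfl) rfl

theorem c2212 : Block F al 0 283264 204499 :=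
  block_comb c2211 b2212 (Nat.zero_le _) (Nat.le_of_ble_eq_true rfl) rfl

theorem c2213 : Block F al 0 283392 204627 :=
  block_comb c2212 b2213 (Nat.zero_le _) (Nat.le_of_ble_eq_true rfl) rfl

theorem c2214 : Block F al 0 283520 204755 :=
  block_comb c2213 b2214 (Nat.zero_le _) (Nat.le_of_ble_eq_true rfl) rfl

theorem c2215 : Block F al 0 283648 204883 :=
  block_comb c2214 b2215 (Nat.zero_le _) (Nat.le_of_ble_eq_true rfl) rfl

theorem c2216 : Block F al 0 283776 205011 :=
  block_comb c2215 b2216 (Nat.zero_le _) (Nat.le_of_ble_eq_true rfl) rfl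

theorem c2217 : Block F al 0 283904 205139 :=
  block_comb c2216 b2217 (Nat.zero_le _) (Nat.le_of_ble_eq_true rfl) rfl

theorem c2218 : Block F al 0 284032 205267 :=
  block_comb c2217 b2218 (Nat.zero_le _) (Nat.le_of_ble_eq_true rfl) rfl

theorem c2219 : Block F al 0 284160 205395 :=
  block_comb c2218 b2219 (Nat.zero_le _) (Nat.le_of_ble_eq_true rfl) rfl

theorem c2220 : Block F al 0 284288 205523 :=
  block_comb c2219 b2220 (Nat.zero_le _) (Nat.le_of_ble_eq_true rfl) rfl

theorem c2221 : Block F al 0 284416 205651 :=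
  block_comb c2220 b2221 (Nat.zero_le _) (Nat.le_of_ble_eq_true rfl) rfl

theorem c2222 : Block F al 0 284544 205779 :=
  block_comb c2221 b2222 (Nat.zero_le _) (Nat.le_of_ble_eq_true rfl) rfl

theorem c2223 : Block F al 0 284672 205907 :=
  block_comb c2222 b2223 (Nat.zero_le _) (Nat.le_of_ble_eq_true rfl) rfl

theorem c2224 : Block F al 0 284800 206035 :=
  block_comb c2223 b2224 (Nat.zero_le _) (Nat.le_of_ble_eq_true rfl) rfl

theorem c2225 : Block F al 0 284928 206163 :=
  block_comb c2224 b2225 (Nat.zero_le _) (Nat.le_of_ble_eq_true rfl) rfl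

theorem c2226 : Block F al 0 285056 206291 :=
  block_comb c2225 b2226 (Nat.zero_le _) (Nat.le_of_ble_eq_true rfl) rfl

theorem c2227 : Block F al 0 285184 206419 :=
  block_comb c2226 b2227 (Nat.zero_le _) (Nat.le_of_ble_eq_true rfl) rfl

theorem c2228 : Block F al 0 285312 206547 :=
  block_comb c2227 b2228 (Nat.zero_le _) (Nat.le_of_ble_eq_true rfl) rfl

theorem c2229 : Block F al 0 285440 206675 :=
  block_comb c2228 b2229 (Nat.zero_le _) (Nat.le_of_ble_eq_true rfl) rfl

theorem c2230 : Block F al 0 285568 206803 :=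
  block_comb c2229 b2230 (Nat.zero_le _) (Nat.le_of_ble_eq_true rfl) rfl

theorem c2231 : Block F al 0 285696 206931 :=
  block_comb c2230 b2231 (Nat.zero_le _) (Nat.le_of_ble_eq_true rfl) rfl

theorem c2232 : Block F al 0 285824 207059 :=
  block_comb c2231 b2232 (Nat.zero_le _) (Nat.le_of_ble_eq_true rfl) rfl

theorem c2233 : Block F al 0 285952 207187 :=
  block_comb c2232 b2233 (Nat.zero_le _) (Nat.le_of_ble_eq_true rfl) rfl

theorem c2234 : Block F al 0 286080 207315 :=
  block_comb c2233 b2234 (Nat.zero_le _) (Nat.le_of_ble_eq_true rfl) rfl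

theorem c2235 : Block F al 0 286208 207443 :=
  block_comb c2234 b2235 (Nat.zero_le _) (Nat.le_of_ble_eq_true rfl) rfl

theorem c2236 : Block F al 0 286336 207571 :=
  block_comb c2235 b2236 (Nat.zero_le _) (Nat.le_of_ble_eq_true rfl) rfl

theorem c2237 : Block F al 0 286464 207699 :=
  block_comb c2236 b2237 (Nat.zero_le _) (Nat.le_of_ble_eq_true rfl) rfl

theorem c2238 : Block F al 0 286592 207827 :=
  block_comb c2237 b2238 (Nat.zero_le _) (Nat.le_of_ble_eq_true rfl) rfl

theorem c2239 : Block F al 0 286720 207955 :=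
  block_comb c2238 b2239 (Nat.zero_le _) (Nat.le_of_ble_eq_true rfl) rfl

theorem c2240 : Block F al 0 286848 208083 :=
  block_comb c2239 b2240 (Nat.zero_le _) (Nat.le_of_ble_eq_true rfl) rfl

theorem c2241 : Block F al 0 286976 208211 :=
  block_comb c2240 b2241 (Nat.zero_le _) (Nat.le_of_ble_eq_true rfl) rfl

theorem c2242 : Block F al 0 287104 208339 :=
  block_comb c2241 b2242 (Nat.zero_le _) (Nat.le_of_ble_eq_true rfl) rfl

theorem c2243 : Block F al 0 287232 208467 :=
  block_comb c2242 b2243 (Nat.zero_le _) (Nat.le_of_ble_eq_true rfl) rfl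

theorem c2244 : Block F al 0 287360 208595 :=
  block_comb c2243 b2244 (Nat.zero_le _) (Nat.le_of_ble_eq_true rfl) rfl

theorem c2245 : Block F al 0 287488 208723 :=
  block_comb c2244 b2245 (Nat.zero_le _) (Nat.le_of_ble_eq_true rfl) rfl

theorem c2246 : Block F al 0 287616 208851 :=
  block_comb c2245 b2246 (Nat.zero_le _) (Nat.le_of_ble_eq_true rfl) rfl

theorem c2247 : Block F al 0 287744 208979 :=
  block_comb c2246 b2247 (Nat.zero_le _) (Nat.le_of_ble_eq_true rfl) rfl

theorem c2248 : Block F al 0 287872 209107 :=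
  block_comb c2247 b2248 (Nat.zero_le _) (Nat.le_of_ble_eq_true rfl) rfl

theorem c2249 : Block F al 0 288000 209235 :=
  block_comb c2248 b2249 (Nat.zero_le _) (Nat.le_of_ble_eq_true rfl) rfl

theorem c2250 : Block F al 0 288128 209363 :=
  block_comb c2249 b2250 (Nat.zero_le _) (Nat.le_of_ble_eq_true rfl) rfl

theorem c2251 : Block F al 0 288256 209491 :=
  block_comb c2250 b2251 (Nat.zero_le _) (Nat.le_of_ble_eq_true rfl) rfl

theorem c2252 : Block F al 0 288384 209619 :=
  block_comb c2251 b2252 (Nat.zero_le _) (Nat.le_of_ble_eq_true rfl) rfl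

theorem c2253 : Block F al 0 288512 209747 :=
  block_comb c2252 b2253 (Nat.zero_le _) (Nat.le_of_ble_eq_true rfl) rfl

theorem c2254 : Block F al 0 288640 209875 :=
  block_comb c2253 b2254 (Nat.zero_le _) (Nat.le_of_ble_eq_true rfl) rfl

theorem c2255 : Block F al 0 288768 210003 :=
  block_comb c2254 b2255 (Nat.zero_le _) (Nat.le_of_ble_eq_true rfl) rfl

theorem c2256 : Block F al 0 288896 210131 :=
  block_comb c2255 b2256 (Nat.zero_le _) (Nat.le_of_ble_eq_true rfl) rfl

theorem c2257 : Block F al 0 289024 210259 :=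
  block_comb c2256 b2257 (Nat.zero_le _) (Nat.le_of_ble_eq_true rfl) rfl

theorem c2258 : Block F al 0 289152 210387 :=
  block_comb c2257 b2258 (Nat.zero_le _) (Nat.le_of_ble_eq_true rfl) rfl

theorem c2259 : Block F al 0 289280 210515 :=
  block_comb c2258 b2259 (Nat.zero_le _) (Nat.le_of_ble_eq_true rfl) rfl

theorem c2260 : Block F al 0 289408 210643 :=
  block_comb c2259 b2260 (Nat.zero_le _) (Nat.le_of_ble_eq_true rfl) rfl

theorem c2261 : Block F al 0 289536 210771 :=
  block_comb c2260 b2261 (Nat.zero_le _) (Nat.le_of_ble_eq_true rfl) rfl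

theorem c2262 : Block F al 0 289664 210899 :=
  block_comb c2261 b2262 (Nat.zero_le _) (Nat.le_of_ble_eq_true rfl) rfl

theorem c2263 : Block F al 0 289792 211027 :=
  block_comb c2262 b2263 (Nat.zero_le _) (Nat.le_of_ble_eq_true rfl) rfl

theorem c2264 : Block F al 0 289920 211155 :=
  block_comb c2263 b2264 (Nat.zero_le _) (Nat.le_of_ble_eq_true rfl) rfl

theorem c2265 : Block F al 0 290048 211283 :=
  block_comb c2264 b2265 (Nat.zero_le _) (Nat.le_of_ble_eq_true rfl) rfl

theorem c2266 : Block F al 0 290176 211411 :=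
  block_comb c2265 b2266 (Nat.zero_le _) (Nat.le_of_ble_eq_true rfl) rfl

theorem c2267 : Block F al 0 290304 211539 :=
  block_comb c2266 b2267 (Nat.zero_le _) (Nat.le_of_ble_eq_true rfl) rfl

theorem c2268 : Block F al 0 290432 211667 :=
  block_comb c2267 b2268 (Nat.zero_le _) (Nat.le_of_ble_eq_true rfl) rfl

theorem c2269 : Block F al 0 290560 211795 :=
  block_comb c2268 b2269 (Nat.zero_le _) (Nat.le_of_ble_eq_true rfl) rfl

theorem c2270 : Block F al 0 290688 211923 :=
  block_comb c2269 b2270 (Nat.zero_le _) (Nat.le_of_ble_eq_true rfl) rfl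

theorem c2271 : Block F al 0 290816 212051 :=
  block_comb c2270 b2271 (Nat.zero_le _) (Nat.le_of_ble_eq_true rfl) rfl

theorem c2272 : Block F al 0 290944 212179 :=
  block_comb c2271 b2272 (Nat.zero_le _) (Nat.le_of_ble_eq_true rfl) rfl

theorem c2273 : Block F al 0 291072 212307 :=
  block_comb c2272 b2273 (Nat.zero_le _) (Nat.le_of_ble_eq_true rfl) rfl

theorem c2274 : Block F al 0 291200 212435 :=
  block_comb c2273 b2274 (Nat.zero_le _) (Nat.le_of_ble_eq_true rfl) rfl

theorem c2275 : Block F al 0 291328 212563 :=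
  block_comb c2274 b2275 (Nat.zero_le _) (Nat.le_of_ble_eq_true rfl) rfl

theorem c2276 : Block F al 0 291456 212691 :=
  block_comb c2275 b2276 (Nat.zero_le _) (Nat.le_of_ble_eq_true rfl) rfl

theorem c2277 : Block F al 0 291584 212819 :=
  block_comb c2276 b2277 (Nat.zero_le _) (Nat.le_of_ble_eq_true rfl) rfl

theorem c2278 : Block F al 0 291712 212947 :=
  block_comb c2277 b2278 (Nat.zero_le _) (Nat.le_of_ble_eq_true rfl) rfl

theorem c2279 : Block F al 0 291840 213075 :=
  block_comb c2278 b2279 (Nat.zero_le _) (Nat.le_of_ble_eq_true rfl) rfl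

theorem c2280 : Block F al 0 291968 213203 :=
  block_comb c2279 b2280 (Nat.zero_le _) (Nat.le_of_ble_eq_true rfl) rfl

theorem c2281 : Block F al 0 292096 213331 :=
  block_comb c2280 b2281 (Nat.zero_le _) (Nat.le_of_ble_eq_true rfl) rfl

theorem c2282 : Block F al 0 292224 213459 :=
  block_comb c2281 b2282 (Nat.zero_le _) (Nat.le_of_ble_eq_true rfl) rfl

theorem c2283 : Block F al 0 292352 213587 :=
  block_comb c2282 b2283 (Nat.zero_le _) (Nat.le_of_ble_eq_true rfl) rfl

theorem c2284 : Block F al 0 292480 213715 :=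
  block_comb c2283 b2284 (Nat.zero_le _) (Nat.le_of_ble_eq_true rfl) rfl

theorem c2285 : Block F al 0 292608 213843 :=
  block_comb c2284 b2285 (Nat.zero_le _) (Nat.le_of_ble_eq_true rfl) rfl

theorem c2286 : Block F al 0 292736 213971 :=
  block_comb c2285 b2286 (Nat.zero_le _) (Nat.le_of_ble_eq_true rfl) rfl

theorem c2287 : Block F al 0 292864 214099 :=
  block_comb c2286 b2287 (Nat.zero_le _) (Nat.le_of_ble_eq_true rfl) rfl

theorem c2288 : Block F al 0 292992 214227 :=
  block_comb c2287 b2288 (Nat.zero_le _) (Nat.le_of_ble_eq_true rfl) rfl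

theorem c2289 : Block F al 0 293120 214355 :=
  block_comb c2288 b2289 (Nat.zero_le _) (Nat.le_of_ble_eq_true rfl) rfl

theorem c2290 : Block F al 0 293248 214483 :=
  block_comb c2289 b2290 (Nat.zero_le _) (Nat.le_of_ble_eq_true rfl) rfl

theorem c2291 : Block F al 0 293376 214611 :=
  block_comb c2290 b2291 (Nat.zero_le _) (Nat.le_of_ble_eq_true rfl) rfl

theorem c2292 : Block F al 0 293504 214739 :=
  block_comb c2291 b2292 (Nat.zero_le _) (Nat.le_of_ble_eq_true rfl) rfl

theorem c2293 : Block F al 0 293632 214867 :=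
  block_comb c2292 b2293 (Nat.zero_le _) (Nat.le_of_ble_eq_true rfl) rfl

theorem c2294 : Block F al 0 293760 214995 :=
  block_comb c2293 b2294 (Nat.zero_le _) (Nat.le_of_ble_eq_true rfl) rfl

theorem c2295 : Block F al 0 293888 215123 :=
  block_comb c2294 b2295 (Nat.zero_le _) (Nat.le_of_ble_eq_true rfl) rfl

theorem c2296 : Block F al 0 294016 215251 :=
  block_comb c2295 b2296 (Nat.zero_le _) (Nat.le_of_ble_eq_true rfl) rfl

theorem c2297 : Block F al 0 294144 215379 :=
  block_comb c2296 b2297 (Nat.zero_le _) (Nat.le_of_ble_eq_true rfl) rfl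

theorem c2298 : Block F al 0 294272 215507 :=
  block_comb c2297 b2298 (Nat.zero_le _) (Nat.le_of_ble_eq_true rfl) rfl

theorem c2299 : Block F al 0 294400 215635 :=
  block_comb c2298 b2299 (Nat.zero_le _) (Nat.le_of_ble_eq_true rfl) rfl

theorem c2300 : Block F al 0 294528 215763 :=
  block_comb c2299 b2300 (Nat.zero_le _) (Nat.le_of_ble_eq_true rfl) rfl

theorem c2301 : Block F al 0 294656 215891 :=
  block_comb c2300 b2301 (Nat.zero_le _) (Nat.le_of_ble_eq_true rfl) rfl

theorem c2302 : Block F al 0 294784 216019 :=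
  block_comb c2301 b2302 (Nat.zero_le _) (Nat.le_of_ble_eq_true rfl) rfl

theorem c2303 : Block F al 0 294912 216147 :=
  block_comb c2302 b2303 (Nat.zero_le _) (Nat.le_of_ble_eq_true rfl) rfl

theorem c2304 : Block F al 0 295040 216275 :=
  block_comb c2303 b2304 (Nat.zero_le _) (Nat.le_of_ble_eq_true rfl) rfl

theorem c2305 : Block F al 0 295168 216403 :=
  block_comb c2304 b2305 (Nat.zero_le _) (Nat.le_of_ble_eq_true rfl) rfl

theorem c2306 : Block F al 0 295296 216531 :=
  block_comb c2305 b2306 (Nat.zero_le _) (Nat.le_of_ble_eq_true rfl) rfl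

theorem c2307 : Block F al 0 295424 216659 :=
  block_comb c2306 b2307 (Nat.zero_le _) (Nat.le_of_ble_eq_true rfl) rfl

theorem c2308 : Block F al 0 295552 216787 :=
  block_comb c2307 b2308 (Nat.zero_le _) (Nat.le_of_ble_eq_true rfl) rfl

theorem c2309 : Block F al 0 295680 216915 :=
  block_comb c2308 b2309 (Nat.zero_le _) (Nat.le_of_ble_eq_true rfl) rfl

theorem c2310 : Block F al 0 295808 217043 :=
  block_comb c2309 b2310 (Nat.zero_le _) (Nat.le_of_ble_eq_true rfl) rfl

theorem c2311 : Block F al 0 295936 217171 :=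
  block_comb c2310 b2311 (Nat.zero_le _) (Nat.le_of_ble_eq_true rfl) rfl

theorem c2312 : Block F al 0 296064 217299 :=
  block_comb c2311 b2312 (Nat.zero_le _) (Nat.le_of_ble_eq_true rfl) rfl

theorem c2313 : Block F al 0 296192 217427 :=
  block_comb c2312 b2313 (Nat.zero_le _) (Nat.le_of_ble_eq_true rfl) rfl

theorem c2314 : Block F al 0 296320 217555 :=
  block_comb c2313 b2314 (Nat.zero_le _) (Nat.le_of_ble_eq_true rfl) rfl

theorem c2315 : Block F al 0 296448 217683 :=
  block_comb c2314 b2315 (Nat.zero_le _) (Nat.le_of_ble_eq_true rfl) rfl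

theorem c2316 : Block F al 0 296576 217811 :=
  block_comb c2315 b2316 (Nat.zero_le _) (Nat.le_of_ble_eq_true rfl) rfl

theorem c2317 : Block F al 0 296704 217939 :=
  block_comb c2316 b2317 (Nat.zero_le _) (Nat.le_of_ble_eq_true rfl) rfl

theorem c2318 : Block F al 0 296832 218067 :=
  block_comb c2317 b2318 (Nat.zero_le _) (Nat.le_of_ble_eq_true rfl) rfl

theorem c2319 : Block F al 0 296960 218195 :=
  block_comb c2318 b2319 (Nat.zero_le _) (Nat.le_of_ble_eq_true rfl) rfl

theorem c2320 : Block F al 0 297088 218323 :=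
  block_comb c2319 b2320 (Nat.zero_le _) (Nat.le_of_ble_eq_true rfl) rfl

theorem c2321 : Block F al 0 297216 218451 :=
  block_comb c2320 b2321 (Nat.zero_le _) (Nat.le_of_ble_eq_true rfl) rfl

theorem c2322 : Block F al 0 297344 218579 :=
  block_comb c2321 b2322 (Nat.zero_le _) (Nat.le_of_ble_eq_true rfl) rfl

theorem c2323 : Block F al 0 297472 218707 :=
  block_comb c2322 b2323 (Nat.zero_le _) (Nat.le_of_ble_eq_true rfl) rfl

theorem c2324 : Block F al 0 297600 218835 :=
  block_comb c2323 b2324 (Nat.zero_le _) (Nat.le_of_ble_eq_true rfl) rfl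

theorem c2325 : Block F al 0 297728 218963 :=
  block_comb c2324 b2325 (Nat.zero_le _) (Nat.le_of_ble_eq_true rfl) rfl

theorem c2326 : Block F al 0 297856 219091 :=
  block_comb c2325 b2326 (Nat.zero_le _) (Nat.le_of_ble_eq_true rfl) rfl

theorem c2327 : Block F al 0 297984 219219 :=
  block_comb c2326 b2327 (Nat.zero_le _) (Nat.le_of_ble_eq_true rfl) rfl

theorem c2328 : Block F al 0 298112 219347 :=
  block_comb c2327 b2328 (Nat.zero_le _) (Nat.le_of_ble_eq_true rfl) rfl

theorem c2329 : Block F al 0 298240 219475 :=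
  block_comb c2328 b2329 (Nat.zero_le _) (Nat.le_of_ble_eq_true rfl) rfl

theorem c2330 : Block F al 0 298368 219603 :=
  block_comb c2329 b2330 (Nat.zero_le _) (Nat.le_of_ble_eq_true rfl) rfl

theorem c2331 : Block F al 0 298496 219731 :=
  block_comb c2330 b2331 (Nat.zero_le _) (Nat.le_of_ble_eq_true rfl) rfl

theorem c2332 : Block F al 0 298624 219859 :=
  block_comb c2331 b2332 (Nat.zero_le _) (Nat.le_of_ble_eq_true rfl) rfl

theorem c2333 : Block F al 0 298752 219987 :=
  block_comb c2332 b2333 (Nat.zero_le _) (Nat.le_of_ble_eq_true rfl) rfl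

theorem c2334 : Block F al 0 298880 220115 :=
  block_comb c2333 b2334 (Nat.zero_le _) (Nat.le_of_ble_eq_true rfl) rfl

theorem c2335 : Block F al 0 299008 220243 :=
  block_comb c2334 b2335 (Nat.zero_le _) (Nat.le_of_ble_eq_true rfl) rfl

theorem c2336 : Block F al 0 299136 220371 :=
  block_comb c2335 b2336 (Nat.zero_le _) (Nat.le_of_ble_eq_true rfl) rfl

theorem c2337 : Block F al 0 299264 220499 :=
  block_comb c2336 b2337 (Nat.zero_le _) (Nat.le_of_ble_eq_true rfl) rfl

theorem c2338 : Block F al 0 299392 220627 :=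
  block_comb c2337 b2338 (Nat.zero_le _) (Nat.le_of_ble_eq_true rfl) rfl

theorem c2339 : Block F al 0 299520 220755 :=
  block_comb c2338 b2339 (Nat.zero_le _) (Nat.le_of_ble_eq_true rfl) rfl

theorem c2340 : Block F al 0 299648 220883 :=
  block_comb c2339 b2340 (Nat.zero_le _) (Nat.le_of_ble_eq_true rfl) rfl

theorem c2341 : Block F al 0 299776 221011 :=
  block_comb c2340 b2341 (Nat.zero_le _) (Nat.le_of_ble_eq_true rfl) rfl

theorem c2342 : Block F al 0 299904 221139 :=
  block_comb c2341 b2342 (Nat.zero_le _) (Nat.le_of_ble_eq_true rfl) rfl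

theorem c2343 : Block F al 0 300032 221267 :=
  block_comb c2342 b2343 (Nat.zero_le _) (Nat.le_of_ble_eq_true rfl) rfl

theorem c2344 : Block F al 0 300160 221395 :=
  block_comb c2343 b2344 (Nat.zero_le _) (Nat.le_of_ble_eq_true rfl) rfl

theorem c2345 : Block F al 0 300288 221523 :=
  block_comb c2344 b2345 (Nat.zero_le _) (Nat.le_of_ble_eq_true rfl) rfl

theorem c2346 : Block F al 0 300416 221651 :=
  block_comb c2345 b2346 (Nat.zero_le _) (Nat.le_of_ble_eq_true rfl) rfl

theorem c2347 : Block F al 0 300544 221779 :=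
  block_comb c2346 b2347 (Nat.zero_le _) (Nat.le_of_ble_eq_true rfl) rfl

theorem c2348 : Block F al 0 300672 221907 :=
  block_comb c2347 b2348 (Nat.zero_le _) (Nat.le_of_ble_eq_true rfl) rfl

theorem c2349 : Block F al 0 300800 222035 :=
  block_comb c2348 b2349 (Nat.zero_le _) (Nat.le_of_ble_eq_true rfl) rfl

theorem c2350 : Block F al 0 300928 222163 :=
  block_comb c2349 b2350 (Nat.zero_le _) (Nat.le_of_ble_eq_true rfl) rfl

theorem c2351 : Block F al 0 301056 222291 :=
  block_comb c2350 b2351 (Nat.zero_le _) (Nat.le_of_ble_eq_true rfl) rfl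

theorem c2352 : Block F al 0 301184 222419 :=
  block_comb c2351 b2352 (Nat.zero_le _) (Nat.le_of_ble_eq_true rfl) rfl

theorem c2353 : Block F al 0 301312 222547 :=
  block_comb c2352 b2353 (Nat.zero_le _) (Nat.le_of_ble_eq_true rfl) rfl

theorem c2354 : Block F al 0 301440 222675 :=
  block_comb c2353 b2354 (Nat.zero_le _) (Nat.le_of_ble_eq_true rfl) rfl

theorem c2355 : Block F al 0 301568 222803 :=
  block_comb c2354 b2355 (Nat.zero_le _) (Nat.le_of_ble_eq_true rfl) rfl

theorem c2356 : Block F al 0 301696 222931 :=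
  block_comb c2355 b2356 (Nat.zero_le _) (Nat.le_of_ble_eq_true rfl) rfl

theorem c2357 : Block F al 0 301824 223059 :=
  block_comb c2356 b2357 (Nat.zero_le _) (Nat.le_of_ble_eq_true rfl) rfl

theorem c2358 : Block F al 0 301952 223187 :=
  block_comb c2357 b2358 (Nat.zero_le _) (Nat.le_of_ble_eq_true rfl) rfl

theorem c2359 : Block F al 0 302080 223315 :=
  block_comb c2358 b2359 (Nat.zero_le _) (Nat.le_of_ble_eq_true rfl) rfl

theorem c2360 : Block F al 0 302208 223443 :=
  block_comb c2359 b2360 (Nat.zero_le _) (Nat.le_of_ble_eq_true rfl) rfl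

theorem c2361 : Block F al 0 302336 223571 :=
  block_comb c2360 b2361 (Nat.zero_le _) (Nat.le_of_ble_eq_true rfl) rfl

theorem c2362 : Block F al 0 302464 223699 :=
  block_comb c2361 b2362 (Nat.zero_le _) (Nat.le_of_ble_eq_true rfl) rfl

theorem c2363 : Block F al 0 302592 223827 :=
  block_comb c2362 b2363 (Nat.zero_le _) (Nat.le_of_ble_eq_true rfl) rfl

theorem c2364 : Block F al 0 302720 223955 :=
  block_comb c2363 b2364 (Nat.zero_le _) (Nat.le_of_ble_eq_true rfl) rfl

theorem c2365 : Block F al 0 302848 224083 :=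
  block_comb c2364 b2365 (Nat.zero_le _) (Nat.le_of_ble_eq_true rfl) rfl

theorem c2366 : Block F al 0 302976 224211 :=
  block_comb c2365 b2366 (Nat.zero_le _) (Nat.le_of_ble_eq_true rfl) rfl

theorem c2367 : Block F al 0 303104 224339 :=
  block_comb c2366 b2367 (Nat.zero_le _) (Nat.le_of_ble_eq_true rfl) rfl

theorem c2368 : Block F al 0 303232 224467 :=
  block_comb c2367 b2368 (Nat.zero_le _) (Nat.le_of_ble_eq_true rfl) rfl

theorem c2369 : Block F al 0 303360 224595 :=
  block_comb c2368 b2369 (Nat.zero_le _) (Nat.le_of_ble_eq_true rfl) rfl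

theorem c2370 : Block F al 0 303488 224723 :=
  block_comb c2369 b2370 (Nat.zero_le _) (Nat.le_of_ble_eq_true rfl) rfl

theorem c2371 : Block F al 0 303616 224851 :=
  block_comb c2370 b2371 (Nat.zero_le _) (Nat.le_of_ble_eq_true rfl) rfl

theorem c2372 : Block F al 0 303744 224979 :=
  block_comb c2371 b2372 (Nat.zero_le _) (Nat.le_of_ble_eq_true rfl) rfl

theorem c2373 : Block F al 0 303872 225107 :=
  block_comb c2372 b2373 (Nat.zero_le _) (Nat.le_of_ble_eq_true rfl) rfl

theorem c2374 : Block F al 0 304000 225235 :=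
  block_comb c2373 b2374 (Nat.zero_le _) (Nat.le_of_ble_eq_true rfl) rfl

theorem c2375 : Block F al 0 304128 225363 :=
  block_comb c2374 b2375 (Nat.zero_le _) (Nat.le_of_ble_eq_true rfl) rfl

theorem c2376 : Block F al 0 304256 225491 :=
  block_comb c2375 b2376 (Nat.zero_le _) (Nat.le_of_ble_eq_true rfl) rfl

theorem c2377 : Block F al 0 304384 225619 :=
  block_comb c2376 b2377 (Nat.zero_le _) (Nat.le_of_ble_eq_true rfl) rfl

theorem c2378 : Block F al 0 304512 225747 :=
  block_comb c2377 b2378 (Nat.zero_le _) (Nat.le_of_ble_eq_true rfl) rfl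

theorem c2379 : Block F al 0 304640 225875 :=
  block_comb c2378 b2379 (Nat.zero_le _) (Nat.le_of_ble_eq_true rfl) rfl

theorem c2380 : Block F al 0 304768 226003 :=
  block_comb c2379 b2380 (Nat.zero_le _) (Nat.le_of_ble_eq_true rfl) rfl

theorem c2381 : Block F al 0 304896 226131 :=
  block_comb c2380 b2381 (Nat.zero_le _) (Nat.le_of_ble_eq_true rfl) rfl

theorem c2382 : Block F al 0 305024 226259 :=
  block_comb c2381 b2382 (Nat.zero_le _) (Nat.le_of_ble_eq_true rfl) rfl

theorem c2383 : Block F al 0 305152 226387 :=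
  block_comb c2382 b2383 (Nat.zero_le _) (Nat.le_of_ble_eq_true rfl) rfl

theorem c2384 : Block F al 0 305280 226515 :=
  block_comb c2383 b2384 (Nat.zero_le _) (Nat.le_of_ble_eq_true rfl) rfl

theorem c2385 : Block F al 0 305408 226643 :=
  block_comb c2384 b2385 (Nat.zero_le _) (Nat.le_of_ble_eq_true rfl) rfl

theorem c2386 : Block F al 0 305536 226771 :=
  block_comb c2385 b2386 (Nat.zero_le _) (Nat.le_of_ble_eq_true rfl) rfl

theorem c2387 : Block F al 0 305664 226899 :=
  block_comb c2386 b2387 (Nat.zero_le _) (Nat.le_of_ble_eq_true rfl) rfl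

theorem c2388 : Block F al 0 305792 227027 :=
  block_comb c2387 b2388 (Nat.zero_le _) (Nat.le_of_ble_eq_true rfl) rfl

theorem c2389 : Block F al 0 305920 227155 :=
  block_comb c2388 b2389 (Nat.zero_le _) (Nat.le_of_ble_eq_true rfl) rfl

theorem c2390 : Block F al 0 306048 227283 :=
  block_comb c2389 b2390 (Nat.zero_le _) (Nat.le_of_ble_eq_true rfl) rfl

theorem c2391 : Block F al 0 306176 227411 :=
  block_comb c2390 b2391 (Nat.zero_le _) (Nat.le_of_ble_eq_true rfl) rfl

theorem c2392 : Block F al 0 306304 227539 :=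
  block_comb c2391 b2392 (Nat.zero_le _) (Nat.le_of_ble_eq_true rfl) rfl

theorem c2393 : Block F al 0 306432 227667 :=
  block_comb c2392 b2393 (Nat.zero_le _) (Nat.le_of_ble_eq_true rfl) rfl

theorem c2394 : Block F al 0 306560 227795 :=
  block_comb c2393 b2394 (Nat.zero_le _) (Nat.le_of_ble_eq_true rfl) rfl

theorem c2395 : Block F al 0 306688 227923 :=
  block_comb c2394 b2395 (Nat.zero_le _) (Nat.le_of_ble_eq_true rfl) rfl

theorem c2396 : Block F al 0 306816 228051 :=
  block_comb c2395 b2396 (Nat.zero_le _) (Nat.le_of_ble_eq_true rfl) rfl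

theorem c2397 : Block F al 0 306944 228179 :=
  block_comb c2396 b2397 (Nat.zero_le _) (Nat.le_of_ble_eq_true rfl) rfl

theorem c2398 : Block F al 0 307072 228307 :=
  block_comb c2397 b2398 (Nat.zero_le _) (Nat.le_of_ble_eq_true rfl) rfl

theorem c2399 : Block F al 0 307200 228435 :=
  block_comb c2398 b2399 (Nat.zero_le _) (Nat.le_of_ble_eq_true rfl) rfl

theorem c2400 : Block F al 0 307328 228563 :=
  block_comb c2399 b2400 (Nat.zero_le _) (Nat.le_of_ble_eq_true rfl) rfl

theorem c2401 : Block F al 0 307456 228691 :=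
  block_comb c2400 b2401 (Nat.zero_le _) (Nat.le_of_ble_eq_true rfl) rfl

theorem c2402 : Block F al 0 307584 228819 :=
  block_comb c2401 b2402 (Nat.zero_le _) (Nat.le_of_ble_eq_true rfl) rfl

theorem c2403 : Block F al 0 307712 228947 :=
  block_comb c2402 b2403 (Nat.zero_le _) (Nat.le_of_ble_eq_true rfl) rfl

theorem c2404 : Block F al 0 307840 229075 :=
  block_comb c2403 b2404 (Nat.zero_le _) (Nat.le_of_ble_eq_true rfl) rfl

theorem c2405 : Block F al 0 307968 229203 :=
  block_comb c2404 b2405 (Nat.zero_le _) (Nat.le_of_ble_eq_true rfl) rfl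

theorem c2406 : Block F al 0 308096 229331 :=
  block_comb c2405 b2406 (Nat.zero_le _) (Nat.le_of_ble_eq_true rfl) rfl

theorem c2407 : Block F al 0 308224 229459 :=
  block_comb c2406 b2407 (Nat.zero_le _) (Nat.le_of_ble_eq_true rfl) rfl

theorem c2408 : Block F al 0 308352 229587 :=
  block_comb c2407 b2408 (Nat.zero_le _) (Nat.le_of_ble_eq_true rfl) rfl

theorem c2409 : Block F al 0 308480 229715 :=
  block_comb c2408 b2409 (Nat.zero_le _) (Nat.le_of_ble_eq_true rfl) rfl

theorem c2410 : Block F al 0 308608 229843 :=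
  block_comb c2409 b2410 (Nat.zero_le _) (Nat.le_of_ble_eq_true rfl) rfl

theorem c2411 : Block F al 0 308736 229971 :=
  block_comb c2410 b2411 (Nat.zero_le _) (Nat.le_of_ble_eq_true rfl) rfl

theorem c2412 : Block F al 0 308864 230099 :=
  block_comb c2411 b2412 (Nat.zero_le _) (Nat.le_of_ble_eq_true rfl) rfl

theorem c2413 : Block F al 0 308992 230227 :=
  block_comb c2412 b2413 (Nat.zero_le _) (Nat.le_of_ble_eq_true rfl) rfl

theorem c2414 : Block F al 0 309120 230355 :=
  block_comb c2413 b2414 (Nat.zero_le _) (Nat.le_of_ble_eq_true rfl) rfl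

theorem c2415 : Block F al 0 309248 230483 :=
  block_comb c2414 b2415 (Nat.zero_le _) (Nat.le_of_ble_eq_true rfl) rfl

theorem c2416 : Block F al 0 309376 230611 :=
  block_comb c2415 b2416 (Nat.zero_le _) (Nat.le_of_ble_eq_true rfl) rfl

theorem c2417 : Block F al 0 309504 230739 :=
  block_comb c2416 b2417 (Nat.zero_le _) (Nat.le_of_ble_eq_true rfl) rfl

theorem c2418 : Block F al 0 309632 230867 :=
  block_comb c2417 b2418 (Nat.zero_le _) (Nat.le_of_ble_eq_true rfl) rfl

theorem c2419 : Block F al 0 309760 230995 :=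
  block_comb c2418 b2419 (Nat.zero_le _) (Nat.le_of_ble_eq_true rfl) rfl

theorem c2420 : Block F al 0 309888 231123 :=
  block_comb c2419 b2420 (Nat.zero_le _) (Nat.le_of_ble_eq_true rfl) rfl

theorem c2421 : Block F al 0 310016 231251 :=
  block_comb c2420 b2421 (Nat.zero_le _) (Nat.le_of_ble_eq_true rfl) rfl

theorem c2422 : Block F al 0 310144 231379 :=
  block_comb c2421 b2422 (Nat.zero_le _) (Nat.le_of_ble_eq_true rfl) rfl

theorem c2423 : Block F al 0 310272 231507 :=
  block_comb c2422 b2423 (Nat.zero_le _) (Nat.le_of_ble_eq_true rfl) rfl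

theorem c2424 : Block F al 0 310400 231635 :=
  block_comb c2423 b2424 (Nat.zero_le _) (Nat.le_of_ble_eq_true rfl) rfl

theorem c2425 : Block F al 0 310528 231763 :=
  block_comb c2424 b2425 (Nat.zero_le _) (Nat.le_of_ble_eq_true rfl) rfl

theorem c2426 : Block F al 0 310656 231891 :=
  block_comb c2425 b2426 (Nat.zero_le _) (Nat.le_of_ble_eq_true rfl) rfl

theorem c2427 : Block F al 0 310784 232019 :=
  block_comb c2426 b2427 (Nat.zero_le _) (Nat.le_of_ble_eq_true rfl) rfl

theorem c2428 : Block F al 0 310912 232147 :=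
  block_comb c2427 b2428 (Nat.zero_le _) (Nat.le_of_ble_eq_true rfl) rfl

theorem c2429 : Block F al 0 311040 232275 :=
  block_comb c2428 b2429 (Nat.zero_le _) (Nat.le_of_ble_eq_true rfl) rfl

theorem c2430 : Block F al 0 311168 232403 :=
  block_comb c2429 b2430 (Nat.zero_le _) (Nat.le_of_ble_eq_true rfl) rfl

theorem c2431 : Block F al 0 311296 232531 :=
  block_comb c2430 b2431 (Nat.zero_le _) (Nat.le_of_ble_eq_true rfl) rfl

theorem c2432 : Block F al 0 311424 232659 :=
  block_comb c2431 b2432 (Nat.zero_le _) (Nat.le_of_ble_eq_true rfl) rfl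

theorem c2433 : Block F al 0 311552 232787 :=
  block_comb c2432 b2433 (Nat.zero_le _) (Nat.le_of_ble_eq_true rfl) rfl

theorem c2434 : Block F al 0 311680 232915 :=
  block_comb c2433 b2434 (Nat.zero_le _) (Nat.le_of_ble_eq_true rfl) rfl

theorem c2435 : Block F al 0 311808 233043 :=
  block_comb c2434 b2435 (Nat.zero_le _) (Nat.le_of_ble_eq_true rfl) rfl

theorem c2436 : Block F al 0 311936 233171 :=
  block_comb c2435 b2436 (Nat.zero_le _) (Nat.le_of_ble_eq_true rfl) rfl

theorem c2437 : Block F al 0 312064 233299 :=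
  block_comb c2436 b2437 (Nat.zero_le _) (Nat.le_of_ble_eq_true rfl) rfl

theorem c2438 : Block F al 0 312192 233427 :=
  block_comb c2437 b2438 (Nat.zero_le _) (Nat.le_of_ble_eq_true rfl) rfl

theorem c2439 : Block F al 0 312320 233555 :=
  block_comb c2438 b2439 (Nat.zero_le _) (Nat.le_of_ble_eq_true rfl) rfl

theorem c2440 : Block F al 0 312448 233683 :=
  block_comb c2439 b2440 (Nat.zero_le _) (Nat.le_of_ble_eq_true rfl) rfl

theorem c2441 : Block F al 0 312576 233811 :=
  block_comb c2440 b2441 (Nat.zero_le _) (Nat.le_of_ble_eq_true rfl) rfl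

theorem c2442 : Block F al 0 312704 233939 :=
  block_comb c2441 b2442 (Nat.zero_le _) (Nat.le_of_ble_eq_true rfl) rfl

theorem c2443 : Block F al 0 312832 234067 :=
  block_comb c2442 b2443 (Nat.zero_le _) (Nat.le_of_ble_eq_true rfl) rfl

theorem c2444 : Block F al 0 312960 234195 :=
  block_comb c2443 b2444 (Nat.zero_le _) (Nat.le_of_ble_eq_true rfl) rfl

theorem c2445 : Block F al 0 313088 234323 :=
  block_comb c2444 b2445 (Nat.zero_le _) (Nat.le_of_ble_eq_true rfl) rfl

theorem c2446 : Block F al 0 313216 234451 :=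
  block_comb c2445 b2446 (Nat.zero_le _) (Nat.le_of_ble_eq_true rfl) rfl

theorem c2447 : Block F al 0 313344 234579 :=
  block_comb c2446 b2447 (Nat.zero_le _) (Nat.le_of_ble_eq_true rfl) rfl

theorem c2448 : Block F al 0 313472 234707 :=
  block_comb c2447 b2448 (Nat.zero_le _) (Nat.le_of_ble_eq_true rfl) rfl

theorem c2449 : Block F al 0 313600 234835 :=
  block_comb c2448 b2449 (Nat.zero_le _) (Nat.le_of_ble_eq_true rfl) rfl

theorem c2450 : Block F al 0 313728 234963 :=
  block_comb c2449 b2450 (Nat.zero_le _) (Nat.le_of_ble_eq_true rfl) rfl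

theorem c2451 : Block F al 0 313856 235091 :=
  block_comb c2450 b2451 (Nat.zero_le _) (Nat.le_of_ble_eq_true rfl) rfl

theorem c2452 : Block F al 0 313984 235219 :=
  block_comb c2451 b2452 (Nat.zero_le _) (Nat.le_of_ble_eq_true rfl) rfl

theorem c2453 : Block F al 0 314112 235347 :=
  block_comb c2452 b2453 (Nat.zero_le _) (Nat.le_of_ble_eq_true rfl) rfl

theorem c2454 : Block F al 0 314240 235475 :=
  block_comb c2453 b2454 (Nat.zero_le _) (Nat.le_of_ble_eq_true rfl) rfl

theorem c2455 : Block F al 0 314368 235603 :=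
  block_comb c2454 b2455 (Nat.zero_le _) (Nat.le_of_ble_eq_true rfl) rfl

theorem c2456 : Block F al 0 314496 235731 :=
  block_comb c2455 b2456 (Nat.zero_le _) (Nat.le_of_ble_eq_true rfl) rfl

theorem c2457 : Block F al 0 314624 235859 :=
  block_comb c2456 b2457 (Nat.zero_le _) (Nat.le_of_ble_eq_true rfl) rfl

theorem c2458 : Block F al 0 314752 235987 :=
  block_comb c2457 b2458 (Nat.zero_le _) (Nat.le_of_ble_eq_true rfl) rfl

theorem c2459 : Block F al 0 314880 236115 :=
  block_comb c2458 b2459 (Nat.zero_le _) (Nat.le_of_ble_eq_true rfl) rfl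

theorem c2460 : Block F al 0 315008 236243 :=
  block_comb c2459 b2460 (Nat.zero_le _) (Nat.le_of_ble_eq_true rfl) rfl

theorem c2461 : Block F al 0 315136 236371 :=
  block_comb c2460 b2461 (Nat.zero_le _) (Nat.le_of_ble_eq_true rfl) rfl

theorem c2462 : Block F al 0 315264 236499 :=
  block_comb c2461 b2462 (Nat.zero_le _) (Nat.le_of_ble_eq_true rfl) rfl

theorem c2463 : Block F al 0 315392 236627 :=
  block_comb c2462 b2463 (Nat.zero_le _) (Nat.le_of_ble_eq_true rfl) rfl

theorem c2464 : Block F al 0 315520 236755 :=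
  block_comb c2463 b2464 (Nat.zero_le _) (Nat.le_of_ble_eq_true rfl) rfl

theorem c2465 : Block F al 0 315648 236883 :=
  block_comb c2464 b2465 (Nat.zero_le _) (Nat.le_of_ble_eq_true rfl) rfl

theorem c2466 : Block F al 0 315776 237011 :=
  block_comb c2465 b2466 (Nat.zero_le _) (Nat.le_of_ble_eq_true rfl) rfl

theorem c2467 : Block F al 0 315904 237139 :=
  block_comb c2466 b2467 (Nat.zero_le _) (Nat.le_of_ble_eq_true rfl) rfl

theorem c2468 : Block F al 0 316032 237267 :=
  block_comb c2467 b2468 (Nat.zero_le _) (Nat.le_of_ble_eq_true rfl) rfl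

theorem c2469 : Block F al 0 316160 237395 :=
  block_comb c2468 b2469 (Nat.zero_le _) (Nat.le_of_ble_eq_true rfl) rfl

theorem c2470 : Block F al 0 316288 237523 :=
  block_comb c2469 b2470 (Nat.zero_le _) (Nat.le_of_ble_eq_true rfl) rfl

theorem c2471 : Block F al 0 316416 237651 :=
  block_comb c2470 b2471 (Nat.zero_le _) (Nat.le_of_ble_eq_true rfl) rfl

theorem c2472 : Block F al 0 316544 237779 :=
  block_comb c2471 b2472 (Nat.zero_le _) (Nat.le_of_ble_eq_true rfl) rfl

theorem c2473 : Block F al 0 316672 237907 :=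
  block_comb c2472 b2473 (Nat.zero_le _) (Nat.le_of_ble_eq_true rfl) rfl

theorem c2474 : Block F al 0 316800 238035 :=
  block_comb c2473 b2474 (Nat.zero_le _) (Nat.le_of_ble_eq_true rfl) rfl

theorem c2475 : Block F al 0 316928 238163 :=
  block_comb c2474 b2475 (Nat.zero_le _) (Nat.le_of_ble_eq_true rfl) rfl

theorem c2476 : Block F al 0 317056 238291 :=
  block_comb c2475 b2476 (Nat.zero_le _) (Nat.le_of_ble_eq_true rfl) rfl

theorem c2477 : Block F al 0 317184 238419 :=
  block_comb c2476 b2477 (Nat.zero_le _) (Nat.le_of_ble_eq_true rfl) rfl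

theorem c2478 : Block F al 0 317312 238547 :=
  block_comb c2477 b2478 (Nat.zero_le _) (Nat.le_of_ble_eq_true rfl) rfl

theorem c2479 : Block F al 0 317440 238675 :=
  block_comb c2478 b2479 (Nat.zero_le _) (Nat.le_of_ble_eq_true rfl) rfl

theorem c2480 : Block F al 0 317568 238803 :=
  block_comb c2479 b2480 (Nat.zero_le _) (Nat.le_of_ble_eq_true rfl) rfl

theorem c2481 : Block F al 0 317696 238931 :=
  block_comb c2480 b2481 (Nat.zero_le _) (Nat.le_of_ble_eq_true rfl) rfl

theorem c2482 : Block F al 0 317824 239059 :=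
  block_comb c2481 b2482 (Nat.zero_le _) (Nat.le_of_ble_eq_true rfl) rfl

theorem c2483 : Block F al 0 317952 239187 :=
  block_comb c2482 b2483 (Nat.zero_le _) (Nat.le_of_ble_eq_true rfl) rfl

theorem c2484 : Block F al 0 318080 239315 :=
  block_comb c2483 b2484 (Nat.zero_le _) (Nat.le_of_ble_eq_true rfl) rfl

theorem c2485 : Block F al 0 318208 239443 :=
  block_comb c2484 b2485 (Nat.zero_le _) (Nat.le_of_ble_eq_true rfl) rfl

theorem c2486 : Block F al 0 318336 239571 :=
  block_comb c2485 b2486 (Nat.zero_le _) (Nat.le_of_ble_eq_true rfl) rfl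

theorem c2487 : Block F al 0 318464 239699 :=
  block_comb c2486 b2487 (Nat.zero_le _) (Nat.le_of_ble_eq_true rfl) rfl

theorem c2488 : Block F al 0 318592 239827 :=
  block_comb c2487 b2488 (Nat.zero_le _) (Nat.le_of_ble_eq_true rfl) rfl

theorem c2489 : Block F al 0 318720 239955 :=
  block_comb c2488 b2489 (Nat.zero_le _) (Nat.le_of_ble_eq_true rfl) rfl

theorem c2490 : Block F al 0 318848 240083 :=
  block_comb c2489 b2490 (Nat.zero_le _) (Nat.le_of_ble_eq_true rfl) rfl

theorem c2491 : Block F al 0 318976 240211 :=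
  block_comb c2490 b2491 (Nat.zero_le _) (Nat.le_of_ble_eq_true rfl) rfl

theorem c2492 : Block F al 0 319104 240339 :=
  block_comb c2491 b2492 (Nat.zero_le _) (Nat.le_of_ble_eq_true rfl) rfl

theorem c2493 : Block F al 0 319232 240467 :=
  block_comb c2492 b2493 (Nat.zero_le _) (Nat.le_of_ble_eq_true rfl) rfl

theorem c2494 : Block F al 0 319360 240595 :=
  block_comb c2493 b2494 (Nat.zero_le _) (Nat.le_of_ble_eq_true rfl) rfl

theorem c2495 : Block F al 0 319488 240723 :=
  block_comb c2494 b2495 (Nat.zero_le _) (Nat.le_of_ble_eq_true rfl) rfl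

theorem c2496 : Block F al 0 319616 240851 :=
  block_comb c2495 b2496 (Nat.zero_le _) (Nat.le_of_ble_eq_true rfl) rfl

theorem c2497 : Block F al 0 319744 240979 :=
  block_comb c2496 b2497 (Nat.zero_le _) (Nat.le_of_ble_eq_true rfl) rfl

theorem c2498 : Block F al 0 319872 241107 :=
  block_comb c2497 b2498 (Nat.zero_le _) (Nat.le_of_ble_eq_true rfl) rfl

theorem c2499 : Block F al 0 320000 241235 :=
  block_comb c2498 b2499 (Nat.zero_le _) (Nat.le_of_ble_eq_true rfl) rfl

theorem c2500 : Block F al 0 320128 241363 :=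
  block_comb c2499 b2500 (Nat.zero_le _) (Nat.le_of_ble_eq_true rfl) rfl

theorem c2501 : Block F al 0 320256 241491 :=
  block_comb c2500 b2501 (Nat.zero_le _) (Nat.le_of_ble_eq_true rfl) rfl

theorem c2502 : Block F al 0 320384 241619 :=
  block_comb c2501 b2502 (Nat.zero_le _) (Nat.le_of_ble_eq_true rfl) rfl

theorem c2503 : Block F al 0 320512 241747 :=
  block_comb c2502 b2503 (Nat.zero_le _) (Nat.le_of_ble_eq_true rfl) rfl

theorem c2504 : Block F al 0 320640 241875 :=
  block_comb c2503 b2504 (Nat.zero_le _) (Nat.le_of_ble_eq_true rfl) rfl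

theorem c2505 : Block F al 0 320768 242003 :=
  block_comb c2504 b2505 (Nat.zero_le _) (Nat.le_of_ble_eq_true rfl) rfl

theorem c2506 : Block F al 0 320896 242131 :=
  block_comb c2505 b2506 (Nat.zero_le _) (Nat.le_of_ble_eq_true rfl) rfl

theorem c2507 : Block F al 0 321024 242259 :=
  block_comb c2506 b2507 (Nat.zero_le _) (Nat.le_of_ble_eq_true rfl) rfl

theorem c2508 : Block F al 0 321152 242387 :=
  block_comb c2507 b2508 (Nat.zero_le _) (Nat.le_of_ble_eq_true rfl) rfl

theorem c2509 : Block F al 0 321280 242515 :=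
  block_comb c2508 b2509 (Nat.zero_le _) (Nat.le_of_ble_eq_true rfl) rfl

theorem c2510 : Block F al 0 321408 242643 :=
  block_comb c2509 b2510 (Nat.zero_le _) (Nat.le_of_ble_eq_true rfl) rfl

theorem c2511 : Block F al 0 321536 242771 :=
  block_comb c2510 b2511 (Nat.zero_le _) (Nat.le_of_ble_eq_true rfl) rfl

theorem c2512 : Block F al 0 321664 242899 :=
  block_comb c2511 b2512 (Nat.zero_le _) (Nat.le_of_ble_eq_true rfl) rfl

theorem c2513 : Block F al 0 321792 243027 :=
  block_comb c2512 b2513 (Nat.zero_le _) (Nat.le_of_ble_eq_true rfl) rfl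

theorem c2514 : Block F al 0 321920 243155 :=
  block_comb c2513 b2514 (Nat.zero_le _) (Nat.le_of_ble_eq_true rfl) rfl

theorem c2515 : Block F al 0 322048 243283 :=
  block_comb c2514 b2515 (Nat.zero_le _) (Nat.le_of_ble_eq_true rfl) rfl

theorem c2516 : Block F al 0 322176 243411 :=
  block_comb c2515 b2516 (Nat.zero_le _) (Nat.le_of_ble_eq_true rfl) rfl

theorem c2517 : Block F al 0 322304 243539 :=
  block_comb c2516 b2517 (Nat.zero_le _) (Nat.le_of_ble_eq_true rfl) rfl

theorem c2518 : Block F al 0 322432 243667 :=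
  block_comb c2517 b2518 (Nat.zero_le _) (Nat.le_of_ble_eq_true rfl) rfl

theorem c2519 : Block F al 0 322560 243795 :=
  block_comb c2518 b2519 (Nat.zero_le _) (Nat.le_of_ble_eq_true rfl) rfl

theorem c2520 : Block F al 0 322688 243923 :=
  block_comb c2519 b2520 (Nat.zero_le _) (Nat.le_of_ble_eq_true rfl) rfl

theorem c2521 : Block F al 0 322816 244051 :=
  block_comb c2520 b2521 (Nat.zero_le _) (Nat.le_of_ble_eq_true rfl) rfl

theorem c2522 : Block F al 0 322944 244179 :=
  block_comb c2521 b2522 (Nat.zero_le _) (Nat.le_of_ble_eq_true rfl) rfl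

theorem c2523 : Block F al 0 323072 244307 :=
  block_comb c2522 b2523 (Nat.zero_le _) (Nat.le_of_ble_eq_true rfl) rfl

theorem c2524 : Block F al 0 323200 244435 :=
  block_comb c2523 b2524 (Nat.zero_le _) (Nat.le_of_ble_eq_true rfl) rfl

theorem c2525 : Block F al 0 323328 244563 :=
  block_comb c2524 b2525 (Nat.zero_le _) (Nat.le_of_ble_eq_true rfl) rfl

theorem c2526 : Block F al 0 323456 244691 :=
  block_comb c2525 b2526 (Nat.zero_le _) (Nat.le_of_ble_eq_true rfl) rfl

theorem c2527 : Block F al 0 323584 244819 :=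
  block_comb c2526 b2527 (Nat.zero_le _) (Nat.le_of_ble_eq_true rfl) rfl

theorem c2528 : Block F al 0 323712 244947 :=
  block_comb c2527 b2528 (Nat.zero_le _) (Nat.le_of_ble_eq_true rfl) rfl

theorem c2529 : Block F al 0 323840 245075 :=
  block_comb c2528 b2529 (Nat.zero_le _) (Nat.le_of_ble_eq_true rfl) rfl

theorem c2530 : Block F al 0 323968 245203 :=
  block_comb c2529 b2530 (Nat.zero_le _) (Nat.le_of_ble_eq_true rfl) rfl

theorem c2531 : Block F al 0 324096 245331 :=
  block_comb c2530 b2531 (Nat.zero_le _) (Nat.le_of_ble_eq_true rfl) rfl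

theorem c2532 : Block F al 0 324224 245459 :=
  block_comb c2531 b2532 (Nat.zero_le _) (Nat.le_of_ble_eq_true rfl) rfl

theorem c2533 : Block F al 0 324352 245587 :=
  block_comb c2532 b2533 (Nat.zero_le _) (Nat.le_of_ble_eq_true rfl) rfl

theorem c2534 : Block F al 0 324480 245715 :=
  block_comb c2533 b2534 (Nat.zero_le _) (Nat.le_of_ble_eq_true rfl) rfl

theorem c2535 : Block F al 0 324608 245843 :=
  block_comb c2534 b2535 (Nat.zero_le _) (Nat.le_of_ble_eq_true rfl) rfl

theorem c2536 : Block F al 0 324736 245971 :=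
  block_comb c2535 b2536 (Nat.zero_le _) (Nat.le_of_ble_eq_true rfl) rfl

theorem c2537 : Block F al 0 324864 246099 :=
  block_comb c2536 b2537 (Nat.zero_le _) (Nat.le_of_ble_eq_true rfl) rfl

theorem c2538 : Block F al 0 324992 246227 :=
  block_comb c2537 b2538 (Nat.zero_le _) (Nat.le_of_ble_eq_true rfl) rfl

theorem c2539 : Block F al 0 325120 246355 :=
  block_comb c2538 b2539 (Nat.zero_le _) (Nat.le_of_ble_eq_true rfl) rfl

theorem c2540 : Block F al 0 325248 246483 :=
  block_comb c2539 b2540 (Nat.zero_le _) (Nat.le_of_ble_eq_true rfl) rfl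

theorem c2541 : Block F al 0 325376 246611 :=
  block_comb c2540 b2541 (Nat.zero_le _) (Nat.le_of_ble_eq_true rfl) rfl

theorem c2542 : Block F al 0 325504 246739 :=
  block_comb c2541 b2542 (Nat.zero_le _) (Nat.le_of_ble_eq_true rfl) rfl

theorem c2543 : Block F al 0 325632 246867 :=
  block_comb c2542 b2543 (Nat.zero_le _) (Nat.le_of_ble_eq_true rfl) rfl

theorem c2544 : Block F al 0 325760 246995 :=
  block_comb c2543 b2544 (Nat.zero_le _) (Nat.le_of_ble_eq_true rfl) rfl

theorem c2545 : Block F al 0 325888 247123 :=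
  block_comb c2544 b2545 (Nat.zero_le _) (Nat.le_of_ble_eq_true rfl) rfl

theorem c2546 : Block F al 0 326016 247251 :=
  block_comb c2545 b2546 (Nat.zero_le _) (Nat.le_of_ble_eq_true rfl) rfl

theorem c2547 : Block F al 0 326144 247379 :=
  block_comb c2546 b2547 (Nat.zero_le _) (Nat.le_of_ble_eq_true rfl) rfl

theorem c2548 : Block F al 0 326272 247507 :=
  block_comb c2547 b2548 (Nat.zero_le _) (Nat.le_of_ble_eq_true rfl) rfl

theorem c2549 : Block F al 0 326400 247635 :=
  block_comb c2548 b2549 (Nat.zero_le _) (Nat.le_of_ble_eq_true rfl) rfl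

theorem c2550 : Block F al 0 326528 247763 :=
  block_comb c2549 b2550 (Nat.zero_le _) (Nat.le_of_ble_eq_true rfl) rfl

theorem c2551 : Block F al 0 326656 247891 :=
  block_comb c2550 b2551 (Nat.zero_le _) (Nat.le_of_ble_eq_true rfl) rfl

theorem c2552 : Block F al 0 326784 248019 :=
  block_comb c2551 b2552 (Nat.zero_le _) (Nat.le_of_ble_eq_true rfl) rfl

theorem c2553 : Block F al 0 326912 248147 :=
  block_comb c2552 b2553 (Nat.zero_le _) (Nat.le_of_ble_eq_true rfl) rfl

theorem c2554 : Block F al 0 327040 248275 :=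
  block_comb c2553 b2554 (Nat.zero_le _) (Nat.le_of_ble_eq_true rfl) rfl

theorem c2555 : Block F al 0 327168 248403 :=
  block_comb c2554 b2555 (Nat.zero_le _) (Nat.le_of_ble_eq_true rfl) rfl

theorem c2556 : Block F al 0 327296 248531 :=
  block_comb c2555 b2556 (Nat.zero_le _) (Nat.le_of_ble_eq_true rfl) rfl

theorem c2557 : Block F al 0 327424 248659 :=
  block_comb c2556 b2557 (Nat.zero_le _) (Nat.le_of_ble_eq_true rfl) rfl

theorem c2558 : Block F al 0 327552 248787 :=
  block_comb c2557 b2558 (Nat.zero_le _) (Nat.le_of_ble_eq_true rfl) rfl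

theorem c2559 : Block F al 0 327680 248915 :=
  block_comb c2558 b2559 (Nat.zero_le _) (Nat.le_of_ble_eq_true rfl) rfl

theorem c2560 : Block F al 0 327808 249043 :=
  block_comb c2559 b2560 (Nat.zero_le _) (Nat.le_of_ble_eq_true rfl) rfl

theorem c2561 : Block F al 0 327936 249171 :=
  block_comb c2560 b2561 (Nat.zero_le _) (Nat.le_of_ble_eq_true rfl) rfl

theorem c2562 : Block F al 0 328064 249299 :=
  block_comb c2561 b2562 (Nat.zero_le _) (Nat.le_of_ble_eq_true rfl) rfl

theorem c2563 : Block F al 0 328192 249427 :=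
  block_comb c2562 b2563 (Nat.zero_le _) (Nat.le_of_ble_eq_true rfl) rfl

theorem c2564 : Block F al 0 328320 249555 :=
  block_comb c2563 b2564 (Nat.zero_le _) (Nat.le_of_ble_eq_true rfl) rfl

theorem c2565 : Block F al 0 328448 249683 :=
  block_comb c2564 b2565 (Nat.zero_le _) (Nat.le_of_ble_eq_true rfl) rfl

theorem c2566 : Block F al 0 328576 249811 :=
  block_comb c2565 b2566 (Nat.zero_le _) (Nat.le_of_ble_eq_true rfl) rfl

theorem c2567 : Block F al 0 328704 249939 :=
  block_comb c2566 b2567 (Nat.zero_le _) (Nat.le_of_ble_eq_true rfl) rfl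

theorem c2568 : Block F al 0 328832 250067 :=
  block_comb c2567 b2568 (Nat.zero_le _) (Nat.le_of_ble_eq_true rfl) rfl

theorem c2569 : Block F al 0 328960 250195 :=
  block_comb c2568 b2569 (Nat.zero_le _) (Nat.le_of_ble_eq_true rfl) rfl

theorem c2570 : Block F al 0 329088 250323 :=
  block_comb c2569 b2570 (Nat.zero_le _) (Nat.le_of_ble_eq_true rfl) rfl

theorem c2571 : Block F al 0 329216 250451 :=
  block_comb c2570 b2571 (Nat.zero_le _) (Nat.le_of_ble_eq_true rfl) rfl

theorem c2572 : Block F al 0 329344 250579 :=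
  block_comb c2571 b2572 (Nat.zero_le _) (Nat.le_of_ble_eq_true rfl) rfl

theorem c2573 : Block F al 0 329472 250707 :=
  block_comb c2572 b2573 (Nat.zero_le _) (Nat.le_of_ble_eq_true rfl) rfl

theorem c2574 : Block F al 0 329600 250835 :=
  block_comb c2573 b2574 (Nat.zero_le _) (Nat.le_of_ble_eq_true rfl) rfl

theorem c2575 : Block F al 0 329728 250963 :=
  block_comb c2574 b2575 (Nat.zero_le _) (Nat.le_of_ble_eq_true rfl) rfl

theorem c2576 : Block F al 0 329856 251091 :=
  block_comb c2575 b2576 (Nat.zero_le _) (Nat.le_of_ble_eq_true rfl) rfl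

theorem c2577 : Block F al 0 329984 251219 :=
  block_comb c2576 b2577 (Nat.zero_le _) (Nat.le_of_ble_eq_true rfl) rfl

theorem c2578 : Block F al 0 330112 251347 :=
  block_comb c2577 b2578 (Nat.zero_le _) (Nat.le_of_ble_eq_true rfl) rfl

theorem c2579 : Block F al 0 330240 251475 :=
  block_comb c2578 b2579 (Nat.zero_le _) (Nat.le_of_ble_eq_true rfl) rfl

theorem c2580 : Block F al 0 330368 251603 :=
  block_comb c2579 b2580 (Nat.zero_le _) (Nat.le_of_ble_eq_true rfl) rfl

theorem c2581 : Block F al 0 330496 251731 :=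
  block_comb c2580 b2581 (Nat.zero_le _) (Nat.le_of_ble_eq_true rfl) rfl

theorem c2582 : Block F al 0 330624 251859 :=
  block_comb c2581 b2582 (Nat.zero_le _) (Nat.le_of_ble_eq_true rfl) rfl

theorem c2583 : Block F al 0 330752 251987 :=
  block_comb c2582 b2583 (Nat.zero_le _) (Nat.le_of_ble_eq_true rfl) rfl

theorem c2584 : Block F al 0 330880 252115 :=
  block_comb c2583 b2584 (Nat.zero_le _) (Nat.le_of_ble_eq_true rfl) rfl

theorem c2585 : Block F al 0 331008 252243 :=
  block_comb c2584 b2585 (Nat.zero_le _) (Nat.le_of_ble_eq_true rfl) rfl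

theorem c2586 : Block F al 0 331136 252371 :=
  block_comb c2585 b2586 (Nat.zero_le _) (Nat.le_of_ble_eq_true rfl) rfl

theorem c2587 : Block F al 0 331264 252499 :=
  block_comb c2586 b2587 (Nat.zero_le _) (Nat.le_of_ble_eq_true rfl) rfl

theorem c2588 : Block F al 0 331392 252627 :=
  block_comb c2587 b2588 (Nat.zero_le _) (Nat.le_of_ble_eq_true rfl) rfl

theorem c2589 : Block F al 0 331520 252755 :=
  block_comb c2588 b2589 (Nat.zero_le _) (Nat.le_of_ble_eq_true rfl) rfl

theorem c2590 : Block F al 0 331648 252883 :=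
  block_comb c2589 b2590 (Nat.zero_le _) (Nat.le_of_ble_eq_true rfl) rfl

theorem c2591 : Block F al 0 331776 253011 :=
  block_comb c2590 b2591 (Nat.zero_le _) (Nat.le_of_ble_eq_true rfl) rfl

theorem c2592 : Block F al 0 331904 253139 :=
  block_comb c2591 b2592 (Nat.zero_le _) (Nat.le_of_ble_eq_true rfl) rfl

theorem c2593 : Block F al 0 332032 253267 :=
  block_comb c2592 b2593 (Nat.zero_le _) (Nat.le_of_ble_eq_true rfl) rfl

theorem c2594 : Block F al 0 332160 253395 :=
  block_comb c2593 b2594 (Nat.zero_le _) (Nat.le_of_ble_eq_true rfl) rfl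

theorem c2595 : Block F al 0 332288 253523 :=
  block_comb c2594 b2595 (Nat.zero_le _) (Nat.le_of_ble_eq_true rfl) rfl

theorem c2596 : Block F al 0 332416 253651 :=
  block_comb c2595 b2596 (Nat.zero_le _) (Nat.le_of_ble_eq_true rfl) rfl

theorem c2597 : Block F al 0 332544 253779 :=
  block_comb c2596 b2597 (Nat.zero_le _) (Nat.le_of_ble_eq_true rfl) rfl

theorem c2598 : Block F al 0 332672 253907 :=
  block_comb c2597 b2598 (Nat.zero_le _) (Nat.le_of_ble_eq_true rfl) rfl

theorem c2599 : Block F al 0 332800 254035 :=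
  block_comb c2598 b2599 (Nat.zero_le _) (Nat.le_of_ble_eq_true rfl) rfl

theorem c2600 : Block F al 0 332928 254163 :=
  block_comb c2599 b2600 (Nat.zero_le _) (Nat.le_of_ble_eq_true rfl) rfl

theorem c2601 : Block F al 0 333056 254291 :=
  block_comb c2600 b2601 (Nat.zero_le _) (Nat.le_of_ble_eq_true rfl) rfl

theorem c2602 : Block F al 0 333184 254419 :=
  block_comb c2601 b2602 (Nat.zero_le _) (Nat.le_of_ble_eq_true rfl) rfl

theorem c2603 : Block F al 0 333312 254547 :=
  block_comb c2602 b2603 (Nat.zero_le _) (Nat.le_of_ble_eq_true rfl) rfl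

theorem c2604 : Block F al 0 333440 254675 :=
  block_comb c2603 b2604 (Nat.zero_le _) (Nat.le_of_ble_eq_true rfl) rfl

theorem c2605 : Block F al 0 333568 254803 :=
  block_comb c2604 b2605 (Nat.zero_le _) (Nat.le_of_ble_eq_true rfl) rfl

theorem c2606 : Block F al 0 333696 254931 :=
  block_comb c2605 b2606 (Nat.zero_le _) (Nat.le_of_ble_eq_true rfl) rfl

theorem c2607 : Block F al 0 333824 255059 :=
  block_comb c2606 b2607 (Nat.zero_le _) (Nat.le_of_ble_eq_true rfl) rfl

theorem c2608 : Block F al 0 333952 255187 :=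
  block_comb c2607 b2608 (Nat.zero_le _) (Nat.le_of_ble_eq_true rfl) rfl

theorem c2609 : Block F al 0 334080 255315 :=
  block_comb c2608 b2609 (Nat.zero_le _) (Nat.le_of_ble_eq_true rfl) rfl

theorem c2610 : Block F al 0 334208 255443 :=
  block_comb c2609 b2610 (Nat.zero_le _) (Nat.le_of_ble_eq_true rfl) rfl

theorem c2611 : Block F al 0 334336 255571 :=
  block_comb c2610 b2611 (Nat.zero_le _) (Nat.le_of_ble_eq_true rfl) rfl

theorem c2612 : Block F al 0 334464 255699 :=
  block_comb c2611 b2612 (Nat.zero_le _) (Nat.le_of_ble_eq_true rfl) rfl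

theorem c2613 : Block F al 0 334592 255827 :=
  block_comb c2612 b2613 (Nat.zero_le _) (Nat.le_of_ble_eq_true rfl) rfl

theorem c2614 : Block F al 0 334720 255955 :=
  block_comb c2613 b2614 (Nat.zero_le _) (Nat.le_of_ble_eq_true rfl) rfl

theorem c2615 : Block F al 0 334848 256083 :=
  block_comb c2614 b2615 (Nat.zero_le _) (Nat.le_of_ble_eq_true rfl) rfl

theorem c2616 : Block F al 0 334976 256211 :=
  block_comb c2615 b2616 (Nat.zero_le _) (Nat.le_of_ble_eq_true rfl) rfl

theorem c2617 : Block F al 0 335104 256339 :=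
  block_comb c2616 b2617 (Nat.zero_le _) (Nat.le_of_ble_eq_true rfl) rfl

theorem c2618 : Block F al 0 335232 256467 :=
  block_comb c2617 b2618 (Nat.zero_le _) (Nat.le_of_ble_eq_true rfl) rfl

theorem c2619 : Block F al 0 335360 256595 :=
  block_comb c2618 b2619 (Nat.zero_le _) (Nat.le_of_ble_eq_true rfl) rfl

theorem c2620 : Block F al 0 335488 256723 :=
  block_comb c2619 b2620 (Nat.zero_le _) (Nat.le_of_ble_eq_true rfl) rfl

theorem c2621 : Block F al 0 335616 256851 :=
  block_comb c2620 b2621 (Nat.zero_le _) (Nat.le_of_ble_eq_true rfl) rfl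

theorem c2622 : Block F al 0 335744 256979 :=
  block_comb c2621 b2622 (Nat.zero_le _) (Nat.le_of_ble_eq_true rfl) rfl

theorem c2623 : Block F al 0 335872 257107 :=
  block_comb c2622 b2623 (Nat.zero_le _) (Nat.le_of_ble_eq_true rfl) rfl

theorem c2624 : Block F al 0 336000 257235 :=
  block_comb c2623 b2624 (Nat.zero_le _) (Nat.le_of_ble_eq_true rfl) rfl

theorem c2625 : Block F al 0 336128 257363 :=
  block_comb c2624 b2625 (Nat.zero_le _) (Nat.le_of_ble_eq_true rfl) rfl

theorem c2626 : Block F al 0 336256 257491 :=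
  block_comb c2625 b2626 (Nat.zero_le _) (Nat.le_of_ble_eq_true rfl) rfl

theorem c2627 : Block F al 0 336384 257619 :=
  block_comb c2626 b2627 (Nat.zero_le _) (Nat.le_of_ble_eq_true rfl) rfl

theorem c2628 : Block F al 0 336512 257747 :=
  block_comb c2627 b2628 (Nat.zero_le _) (Nat.le_of_ble_eq_true rfl) rfl

theorem c2629 : Block F al 0 336640 257875 :=
  block_comb c2628 b2629 (Nat.zero_le _) (Nat.le_of_ble_eq_true rfl) rfl

theorem c2630 : Block F al 0 336768 258003 :=
  block_comb c2629 b2630 (Nat.zero_le _) (Nat.le_of_ble_eq_true rfl) rfl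

theorem c2631 : Block F al 0 336896 258131 :=
  block_comb c2630 b2631 (Nat.zero_le _) (Nat.le_of_ble_eq_true rfl) rfl

theorem c2632 : Block F al 0 337024 258259 :=
  block_comb c2631 b2632 (Nat.zero_le _) (Nat.le_of_ble_eq_true rfl) rfl

theorem c2633 : Block F al 0 337152 258387 :=
  block_comb c2632 b2633 (Nat.zero_le _) (Nat.le_of_ble_eq_true rfl) rfl

theorem c2634 : Block F al 0 337280 258515 :=
  block_comb c2633 b2634 (Nat.zero_le _) (Nat.le_of_ble_eq_true rfl) rfl

theorem c2635 : Block F al 0 337408 258643 :=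
  block_comb c2634 b2635 (Nat.zero_le _) (Nat.le_of_ble_eq_true rfl) rfl

theorem c2636 : Block F al 0 337536 258771 :=
  block_comb c2635 b2636 (Nat.zero_le _) (Nat.le_of_ble_eq_true rfl) rfl

theorem c2637 : Block F al 0 337664 258899 :=
  block_comb c2636 b2637 (Nat.zero_le _) (Nat.le_of_ble_eq_true rfl) rfl

theorem c2638 : Block F al 0 337792 259027 :=
  block_comb c2637 b2638 (Nat.zero_le _) (Nat.le_of_ble_eq_true rfl) rfl

theorem c2639 : Block F al 0 337920 259155 :=
  block_comb c2638 b2639 (Nat.zero_le _) (Nat.le_of_ble_eq_true rfl) rfl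

theorem c2640 : Block F al 0 338048 259283 :=
  block_comb c2639 b2640 (Nat.zero_le _) (Nat.le_of_ble_eq_true rfl) rfl

theorem c2641 : Block F al 0 338176 259411 :=
  block_comb c2640 b2641 (Nat.zero_le _) (Nat.le_of_ble_eq_true rfl) rfl

theorem c2642 : Block F al 0 338304 259539 :=
  block_comb c2641 b2642 (Nat.zero_le _) (Nat.le_of_ble_eq_true rfl) rfl

theorem c2643 : Block F al 0 338432 259667 :=
  block_comb c2642 b2643 (Nat.zero_le _) (Nat.le_of_ble_eq_true rfl) rfl

theorem c2644 : Block F al 0 338560 259795 :=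
  block_comb c2643 b2644 (Nat.zero_le _) (Nat.le_of_ble_eq_true rfl) rfl

theorem c2645 : Block F al 0 338688 259923 :=
  block_comb c2644 b2645 (Nat.zero_le _) (Nat.le_of_ble_eq_true rfl) rfl

theorem c2646 : Block F al 0 338816 260051 :=
  block_comb c2645 b2646 (Nat.zero_le _) (Nat.le_of_ble_eq_true rfl) rfl

theorem c2647 : Block F al 0 338944 260179 :=
  block_comb c2646 b2647 (Nat.zero_le _) (Nat.le_of_ble_eq_true rfl) rfl

theorem c2648 : Block F al 0 339072 260307 :=
  block_comb c2647 b2648 (Nat.zero_le _) (Nat.le_of_ble_eq_true rfl) rfl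

theorem c2649 : Block F al 0 339200 260435 :=
  block_comb c2648 b2649 (Nat.zero_le _) (Nat.le_of_ble_eq_true rfl) rfl

theorem c2650 : Block F al 0 339328 260563 :=
  block_comb c2649 b2650 (Nat.zero_le _) (Nat.le_of_ble_eq_true rfl) rfl

theorem c2651 : Block F al 0 339456 260691 :=
  block_comb c2650 b2651 (Nat.zero_le _) (Nat.le_of_ble_eq_true rfl) rfl

theorem c2652 : Block F al 0 339584 260819 :=
  block_comb c2651 b2652 (Nat.zero_le _) (Nat.le_of_ble_eq_true rfl) rfl

theorem c2653 : Block F al 0 339712 260947 :=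
  block_comb c2652 b2653 (Nat.zero_le _) (Nat.le_of_ble_eq_true rfl) rfl

theorem c2654 : Block F al 0 339840 261075 :=
  block_comb c2653 b2654 (Nat.zero_le _) (Nat.le_of_ble_eq_true rfl) rfl

theorem c2655 : Block F al 0 339968 261203 :=
  block_comb c2654 b2655 (Nat.zero_le _) (Nat.le_of_ble_eq_true rfl) rfl

theorem c2656 : Block F al 0 340096 261331 :=
  block_comb c2655 b2656 (Nat.zero_le _) (Nat.le_of_ble_eq_true rfl) rfl

theorem c2657 : Block F al 0 340224 261459 :=
  block_comb c2656 b2657 (Nat.zero_le _) (Nat.le_of_ble_eq_true rfl) rfl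

theorem c2658 : Block F al 0 340352 261587 :=
  block_comb c2657 b2658 (Nat.zero_le _) (Nat.le_of_ble_eq_true rfl) rfl

theorem c2659 : Block F al 0 340480 261715 :=
  block_comb c2658 b2659 (Nat.zero_le _) (Nat.le_of_ble_eq_true rfl) rfl

theorem c2660 : Block F al 0 340608 261843 :=
  block_comb c2659 b2660 (Nat.zero_le _) (Nat.le_of_ble_eq_true rfl) rfl

theorem c2661 : Block F al 0 340736 261971 :=
  block_comb c2660 b2661 (Nat.zero_le _) (Nat.le_of_ble_eq_true rfl) rfl

theorem c2662 : Block F al 0 340864 262099 :=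
  block_comb c2661 b2662 (Nat.zero_le _) (Nat.le_of_ble_eq_true rfl) rfl

theorem c2663 : Block F al 0 340992 262227 :=
  block_comb c2662 b2663 (Nat.zero_le _) (Nat.le_of_ble_eq_true rfl) rfl

theorem c2664 : Block F al 0 341120 262355 :=
  block_comb c2663 b2664 (Nat.zero_le _) (Nat.le_of_ble_eq_true rfl) rfl

theorem c2665 : Block F al 0 341248 262483 :=
  block_comb c2664 b2665 (Nat.zero_le _) (Nat.le_of_ble_eq_true rfl) rfl

theorem c2666 : Block F al 0 341376 262611 :=
  block_comb c2665 b2666 (Nat.zero_le _) (Nat.le_of_ble_eq_true rfl) rfl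

theorem c2667 : Block F al 0 341504 262739 :=
  block_comb c2666 b2667 (Nat.zero_le _) (Nat.le_of_ble_eq_true rfl) rfl

theorem c2668 : Block F al 0 341632 262867 :=
  block_comb c2667 b2668 (Nat.zero_le _) (Nat.le_of_ble_eq_true rfl) rfl

theorem c2669 : Block F al 0 341760 262995 :=
  block_comb c2668 b2669 (Nat.zero_le _) (Nat.le_of_ble_eq_true rfl) rfl

theorem c2670 : Block F al 0 341888 263123 :=
  block_comb c2669 b2670 (Nat.zero_le _) (Nat.le_of_ble_eq_true rfl) rfl

theorem c2671 : Block F al 0 342016 263251 :=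
  block_comb c2670 b2671 (Nat.zero_le _) (Nat.le_of_ble_eq_true rfl) rfl

theorem c2672 : Block F al 0 342144 263379 :=
  block_comb c2671 b2672 (Nat.zero_le _) (Nat.le_of_ble_eq_true rfl) rfl

theorem c2673 : Block F al 0 342272 263507 :=
  block_comb c2672 b2673 (Nat.zero_le _) (Nat.le_of_ble_eq_true rfl) rfl

theorem c2674 : Block F al 0 342400 263635 :=
  block_comb c2673 b2674 (Nat.zero_le _) (Nat.le_of_ble_eq_true rfl) rfl

theorem c2675 : Block F al 0 342528 263763 :=
  block_comb c2674 b2675 (Nat.zero_le _) (Nat.le_of_ble_eq_true rfl) rfl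

theorem c2676 : Block F al 0 342656 263891 :=
  block_comb c2675 b2676 (Nat.zero_le _) (Nat.le_of_ble_eq_true rfl) rfl

theorem c2677 : Block F al 0 342784 264019 :=
  block_comb c2676 b2677 (Nat.zero_le _) (Nat.le_of_ble_eq_true rfl) rfl

theorem c2678 : Block F al 0 342912 264147 :=
  block_comb c2677 b2678 (Nat.zero_le _) (Nat.le_of_ble_eq_true rfl) rfl

theorem c2679 : Block F al 0 343040 264275 :=
  block_comb c2678 b2679 (Nat.zero_le _) (Nat.le_of_ble_eq_true rfl) rfl

theorem c2680 : Block F al 0 343168 264403 :=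
  block_comb c2679 b2680 (Nat.zero_le _) (Nat.le_of_ble_eq_true rfl) rfl

theorem c2681 : Block F al 0 343296 264531 :=
  block_comb c2680 b2681 (Nat.zero_le _) (Nat.le_of_ble_eq_true rfl) rfl

theorem c2682 : Block F al 0 343424 264659 :=
  block_comb c2681 b2682 (Nat.zero_le _) (Nat.le_of_ble_eq_true rfl) rfl

theorem c2683 : Block F al 0 343552 264787 :=
  block_comb c2682 b2683 (Nat.zero_le _) (Nat.le_of_ble_eq_true rfl) rfl

theorem c2684 : Block F al 0 343680 264915 :=
  block_comb c2683 b2684 (Nat.zero_le _) (Nat.le_of_ble_eq_true rfl) rfl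

theorem c2685 : Block F al 0 343808 265043 :=
  block_comb c2684 b2685 (Nat.zero_le _) (Nat.le_of_ble_eq_true rfl) rfl

theorem c2686 : Block F al 0 343936 265171 :=
  block_comb c2685 b2686 (Nat.zero_le _) (Nat.le_of_ble_eq_true rfl) rfl

theorem c2687 : Block F al 0 344064 265299 :=
  block_comb c2686 b2687 (Nat.zero_le _) (Nat.le_of_ble_eq_true rfl) rfl

theorem c2688 : Block F al 0 344192 265427 :=
  block_comb c2687 b2688 (Nat.zero_le _) (Nat.le_of_ble_eq_true rfl) rfl

theorem c2689 : Block F al 0 344320 265555 :=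
  block_comb c2688 b2689 (Nat.zero_le _) (Nat.le_of_ble_eq_true rfl) rfl

theorem c2690 : Block F al 0 344448 265683 :=
  block_comb c2689 b2690 (Nat.zero_le _) (Nat.le_of_ble_eq_true rfl) rfl

theorem c2691 : Block F al 0 344576 265811 :=
  block_comb c2690 b2691 (Nat.zero_le _) (Nat.le_of_ble_eq_true rfl) rfl

theorem c2692 : Block F al 0 344704 265939 :=
  block_comb c2691 b2692 (Nat.zero_le _) (Nat.le_of_ble_eq_true rfl) rfl

theorem c2693 : Block F al 0 344832 266067 :=
  block_comb c2692 b2693 (Nat.zero_le _) (Nat.le_of_ble_eq_true rfl) rfl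

theorem c2694 : Block F al 0 344960 266195 :=
  block_comb c2693 b2694 (Nat.zero_le _) (Nat.le_of_ble_eq_true rfl) rfl

theorem c2695 : Block F al 0 345088 266323 :=
  block_comb c2694 b2695 (Nat.zero_le _) (Nat.le_of_ble_eq_true rfl) rfl

theorem c2696 : Block F al 0 345216 266451 :=
  block_comb c2695 b2696 (Nat.zero_le _) (Nat.le_of_ble_eq_true rfl) rfl

theorem c2697 : Block F al 0 345344 266579 :=
  block_comb c2696 b2697 (Nat.zero_le _) (Nat.le_of_ble_eq_true rfl) rfl

theorem c2698 : Block F al 0 345472 266707 :=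
  block_comb c2697 b2698 (Nat.zero_le _) (Nat.le_of_ble_eq_true rfl) rfl

theorem c2699 : Block F al 0 345600 266835 :=
  block_comb c2698 b2699 (Nat.zero_le _) (Nat.le_of_ble_eq_true rfl) rfl

theorem c2700 : Block F al 0 345728 266963 :=
  block_comb c2699 b2700 (Nat.zero_le _) (Nat.le_of_ble_eq_true rfl) rfl

theorem c2701 : Block F al 0 345856 267091 :=
  block_comb c2700 b2701 (Nat.zero_le _) (Nat.le_of_ble_eq_true rfl) rfl

theorem c2702 : Block F al 0 345984 267219 :=
  block_comb c2701 b2702 (Nat.zero_le _) (Nat.le_of_ble_eq_true rfl) rfl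

theorem c2703 : Block F al 0 346112 267347 :=
  block_comb c2702 b2703 (Nat.zero_le _) (Nat.le_of_ble_eq_true rfl) rfl

theorem c2704 : Block F al 0 346240 267475 :=
  block_comb c2703 b2704 (Nat.zero_le _) (Nat.le_of_ble_eq_true rfl) rfl

theorem c2705 : Block F al 0 346368 267603 :=
  block_comb c2704 b2705 (Nat.zero_le _) (Nat.le_of_ble_eq_true rfl) rfl

theorem c2706 : Block F al 0 346496 267731 :=
  block_comb c2705 b2706 (Nat.zero_le _) (Nat.le_of_ble_eq_true rfl) rfl

theorem c2707 : Block F al 0 346624 267859 :=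
  block_comb c2706 b2707 (Nat.zero_le _) (Nat.le_of_ble_eq_true rfl) rfl

theorem c2708 : Block F al 0 346752 267987 :=
  block_comb c2707 b2708 (Nat.zero_le _) (Nat.le_of_ble_eq_true rfl) rfl

theorem c2709 : Block F al 0 346880 268115 :=
  block_comb c2708 b2709 (Nat.zero_le _) (Nat.le_of_ble_eq_true rfl) rfl

theorem c2710 : Block F al 0 347008 268243 :=
  block_comb c2709 b2710 (Nat.zero_le _) (Nat.le_of_ble_eq_true rfl) rfl

theorem c2711 : Block F al 0 347136 268371 :=
  block_comb c2710 b2711 (Nat.zero_le _) (Nat.le_of_ble_eq_true rfl) rfl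

theorem c2712 : Block F al 0 347264 268499 :=
  block_comb c2711 b2712 (Nat.zero_le _) (Nat.le_of_ble_eq_true rfl) rfl

theorem c2713 : Block F al 0 347392 268627 :=
  block_comb c2712 b2713 (Nat.zero_le _) (Nat.le_of_ble_eq_true rfl) rfl

theorem c2714 : Block F al 0 347520 268755 :=
  block_comb c2713 b2714 (Nat.zero_le _) (Nat.le_of_ble_eq_true rfl) rfl

theorem c2715 : Block F al 0 347648 268883 :=
  block_comb c2714 b2715 (Nat.zero_le _) (Nat.le_of_ble_eq_true rfl) rfl

theorem c2716 : Block F al 0 347776 269011 :=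
  block_comb c2715 b2716 (Nat.zero_le _) (Nat.le_of_ble_eq_true rfl) rfl

theorem c2717 : Block F al 0 347904 269139 :=
  block_comb c2716 b2717 (Nat.zero_le _) (Nat.le_of_ble_eq_true rfl) rfl

theorem c2718 : Block F al 0 348032 269267 :=
  block_comb c2717 b2718 (Nat.zero_le _) (Nat.le_of_ble_eq_true rfl) rfl

theorem c2719 : Block F al 0 348160 269395 :=
  block_comb c2718 b2719 (Nat.zero_le _) (Nat.le_of_ble_eq_true rfl) rfl

theorem c2720 : Block F al 0 348288 269523 :=
  block_comb c2719 b2720 (Nat.zero_le _) (Nat.le_of_ble_eq_true rfl) rfl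

theorem c2721 : Block F al 0 348416 269651 :=
  block_comb c2720 b2721 (Nat.zero_le _) (Nat.le_of_ble_eq_true rfl) rfl

theorem c2722 : Block F al 0 348544 269779 :=
  block_comb c2721 b2722 (Nat.zero_le _) (Nat.le_of_ble_eq_true rfl) rfl

theorem c2723 : Block F al 0 348672 269907 :=
  block_comb c2722 b2723 (Nat.zero_le _) (Nat.le_of_ble_eq_true rfl) rfl

theorem c2724 : Block F al 0 348800 270035 :=
  block_comb c2723 b2724 (Nat.zero_le _) (Nat.le_of_ble_eq_true rfl) rfl

theorem c2725 : Block F al 0 348928 270163 :=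
  block_comb c2724 b2725 (Nat.zero_le _) (Nat.le_of_ble_eq_true rfl) rfl

theorem c2726 : Block F al 0 349056 270291 :=
  block_comb c2725 b2726 (Nat.zero_le _) (Nat.le_of_ble_eq_true rfl) rfl

theorem c2727 : Block F al 0 349184 270419 :=
  block_comb c2726 b2727 (Nat.zero_le _) (Nat.le_of_ble_eq_true rfl) rfl

theorem c2728 : Block F al 0 349312 270547 :=
  block_comb c2727 b2728 (Nat.zero_le _) (Nat.le_of_ble_eq_true rfl) rfl

theorem c2729 : Block F al 0 349440 270675 :=
  block_comb c2728 b2729 (Nat.zero_le _) (Nat.le_of_ble_eq_true rfl) rfl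

theorem c2730 : Block F al 0 349568 270803 :=
  block_comb c2729 b2730 (Nat.zero_le _) (Nat.le_of_ble_eq_true rfl) rfl

theorem c2731 : Block F al 0 349696 270931 :=
  block_comb c2730 b2731 (Nat.zero_le _) (Nat.le_of_ble_eq_true rfl) rfl

theorem c2732 : Block F al 0 349824 271059 :=
  block_comb c2731 b2732 (Nat.zero_le _) (Nat.le_of_ble_eq_true rfl) rfl

theorem c2733 : Block F al 0 349952 271187 :=
  block_comb c2732 b2733 (Nat.zero_le _) (Nat.le_of_ble_eq_true rfl) rfl

theorem c2734 : Block F al 0 350080 271315 :=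
  block_comb c2733 b2734 (Nat.zero_le _) (Nat.le_of_ble_eq_true rfl) rfl

theorem c2735 : Block F al 0 350208 271443 :=
  block_comb c2734 b2735 (Nat.zero_le _) (Nat.le_of_ble_eq_true rfl) rfl

theorem c2736 : Block F al 0 350336 271571 :=
  block_comb c2735 b2736 (Nat.zero_le _) (Nat.le_of_ble_eq_true rfl) rfl

theorem c2737 : Block F al 0 350464 271699 :=
  block_comb c2736 b2737 (Nat.zero_le _) (Nat.le_of_ble_eq_true rfl) rfl

theorem c2738 : Block F al 0 350592 271827 :=
  block_comb c2737 b2738 (Nat.zero_le _) (Nat.le_of_ble_eq_true rfl) rfl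

theorem c2739 : Block F al 0 350720 271955 :=
  block_comb c2738 b2739 (Nat.zero_le _) (Nat.le_of_ble_eq_true rfl) rfl

theorem c2740 : Block F al 0 350848 272083 :=
  block_comb c2739 b2740 (Nat.zero_le _) (Nat.le_of_ble_eq_true rfl) rfl

theorem c2741 : Block F al 0 350976 272211 :=
  block_comb c2740 b2741 (Nat.zero_le _) (Nat.le_of_ble_eq_true rfl) rfl

theorem c2742 : Block F al 0 351104 272339 :=
  block_comb c2741 b2742 (Nat.zero_le _) (Nat.le_of_ble_eq_true rfl) rfl

theorem c2743 : Block F al 0 351232 272467 :=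
  block_comb c2742 b2743 (Nat.zero_le _) (Nat.le_of_ble_eq_true rfl) rfl

theorem c2744 : Block F al 0 351360 272595 :=
  block_comb c2743 b2744 (Nat.zero_le _) (Nat.le_of_ble_eq_true rfl) rfl

theorem c2745 : Block F al 0 351488 272723 :=
  block_comb c2744 b2745 (Nat.zero_le _) (Nat.le_of_ble_eq_true rfl) rfl

theorem c2746 : Block F al 0 351616 272851 :=
  block_comb c2745 b2746 (Nat.zero_le _) (Nat.le_of_ble_eq_true rfl) rfl

theorem c2747 : Block F al 0 351744 272979 :=
  block_comb c2746 b2747 (Nat.zero_le _) (Nat.le_of_ble_eq_true rfl) rfl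

theorem c2748 : Block F al 0 351872 273107 :=
  block_comb c2747 b2748 (Nat.zero_le _) (Nat.le_of_ble_eq_true rfl) rfl

theorem c2749 : Block F al 0 352000 273235 :=
  block_comb c2748 b2749 (Nat.zero_le _) (Nat.le_of_ble_eq_true rfl) rfl

theorem c2750 : Block F al 0 352128 273363 :=
  block_comb c2749 b2750 (Nat.zero_le _) (Nat.le_of_ble_eq_true rfl) rfl

theorem c2751 : Block F al 0 352256 273491 :=
  block_comb c2750 b2751 (Nat.zero_le _) (Nat.le_of_ble_eq_true rfl) rfl

theorem c2752 : Block F al 0 352384 273619 :=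
  block_comb c2751 b2752 (Nat.zero_le _) (Nat.le_of_ble_eq_true rfl) rfl

theorem c2753 : Block F al 0 352512 273747 :=
  block_comb c2752 b2753 (Nat.zero_le _) (Nat.le_of_ble_eq_true rfl) rfl

theorem c2754 : Block F al 0 352640 273875 :=
  block_comb c2753 b2754 (Nat.zero_le _) (Nat.le_of_ble_eq_true rfl) rfl

theorem c2755 : Block F al 0 352768 274003 :=
  block_comb c2754 b2755 (Nat.zero_le _) (Nat.le_of_ble_eq_true rfl) rfl

theorem c2756 : Block F al 0 352896 274131 :=
  block_comb c2755 b2756 (Nat.zero_le _) (Nat.le_of_ble_eq_true rfl) rfl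

theorem c2757 : Block F al 0 353024 274259 :=
  block_comb c2756 b2757 (Nat.zero_le _) (Nat.le_of_ble_eq_true rfl) rfl

theorem c2758 : Block F al 0 353152 274387 :=
  block_comb c2757 b2758 (Nat.zero_le _) (Nat.le_of_ble_eq_true rfl) rfl

theorem c2759 : Block F al 0 353280 274515 :=
  block_comb c2758 b2759 (Nat.zero_le _) (Nat.le_of_ble_eq_true rfl) rfl

theorem c2760 : Block F al 0 353408 274643 :=
  block_comb c2759 b2760 (Nat.zero_le _) (Nat.le_of_ble_eq_true rfl) rfl

theorem c2761 : Block F al 0 353536 274771 :=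
  block_comb c2760 b2761 (Nat.zero_le _) (Nat.le_of_ble_eq_true rfl) rfl

theorem c2762 : Block F al 0 353664 274899 :=
  block_comb c2761 b2762 (Nat.zero_le _) (Nat.le_of_ble_eq_true rfl) rfl

theorem c2763 : Block F al 0 353792 275027 :=
  block_comb c2762 b2763 (Nat.zero_le _) (Nat.le_of_ble_eq_true rfl) rfl

theorem c2764 : Block F al 0 353920 275155 :=
  block_comb c2763 b2764 (Nat.zero_le _) (Nat.le_of_ble_eq_true rfl) rfl

theorem c2765 : Block F al 0 354048 275283 :=
  block_comb c2764 b2765 (Nat.zero_le _) (Nat.le_of_ble_eq_true rfl) rfl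

theorem c2766 : Block F al 0 354176 275411 :=
  block_comb c2765 b2766 (Nat.zero_le _) (Nat.le_of_ble_eq_true rfl) rfl

theorem c2767 : Block F al 0 354304 275539 :=
  block_comb c2766 b2767 (Nat.zero_le _) (Nat.le_of_ble_eq_true rfl) rfl

theorem c2768 : Block F al 0 354432 275667 :=
  block_comb c2767 b2768 (Nat.zero_le _) (Nat.le_of_ble_eq_true rfl) rfl

theorem c2769 : Block F al 0 354560 275795 :=
  block_comb c2768 b2769 (Nat.zero_le _) (Nat.le_of_ble_eq_true rfl) rfl

theorem c2770 : Block F al 0 354688 275923 :=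
  block_comb c2769 b2770 (Nat.zero_le _) (Nat.le_of_ble_eq_true rfl) rfl

theorem c2771 : Block F al 0 354816 276051 :=
  block_comb c2770 b2771 (Nat.zero_le _) (Nat.le_of_ble_eq_true rfl) rfl

theorem c2772 : Block F al 0 354944 276179 :=
  block_comb c2771 b2772 (Nat.zero_le _) (Nat.le_of_ble_eq_true rfl) rfl

theorem c2773 : Block F al 0 355072 276307 :=
  block_comb c2772 b2773 (Nat.zero_le _) (Nat.le_of_ble_eq_true rfl) rfl

theorem c2774 : Block F al 0 355200 276435 :=
  block_comb c2773 b2774 (Nat.zero_le _) (Nat.le_of_ble_eq_true rfl) rfl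

theorem c2775 : Block F al 0 355328 276563 :=
  block_comb c2774 b2775 (Nat.zero_le _) (Nat.le_of_ble_eq_true rfl) rfl

theorem c2776 : Block F al 0 355456 276691 :=
  block_comb c2775 b2776 (Nat.zero_le _) (Nat.le_of_ble_eq_true rfl) rfl

theorem c2777 : Block F al 0 355584 276819 :=
  block_comb c2776 b2777 (Nat.zero_le _) (Nat.le_of_ble_eq_true rfl) rfl

theorem c2778 : Block F al 0 355712 276947 :=
  block_comb c2777 b2778 (Nat.zero_le _) (Nat.le_of_ble_eq_true rfl) rfl

theorem c2779 : Block F al 0 355840 277075 :=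
  block_comb c2778 b2779 (Nat.zero_le _) (Nat.le_of_ble_eq_true rfl) rfl

theorem c2780 : Block F al 0 355968 277203 :=
  block_comb c2779 b2780 (Nat.zero_le _) (Nat.le_of_ble_eq_true rfl) rfl

theorem c2781 : Block F al 0 356096 277331 :=
  block_comb c2780 b2781 (Nat.zero_le _) (Nat.le_of_ble_eq_true rfl) rfl

theorem c2782 : Block F al 0 356224 277459 :=
  block_comb c2781 b2782 (Nat.zero_le _) (Nat.le_of_ble_eq_true rfl) rfl

theorem c2783 : Block F al 0 356352 277587 :=
  block_comb c2782 b2783 (Nat.zero_le _) (Nat.le_of_ble_eq_true rfl) rfl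

theorem c2784 : Block F al 0 356480 277715 :=
  block_comb c2783 b2784 (Nat.zero_le _) (Nat.le_of_ble_eq_true rfl) rfl

theorem c2785 : Block F al 0 356608 277843 :=
  block_comb c2784 b2785 (Nat.zero_le _) (Nat.le_of_ble_eq_true rfl) rfl

theorem c2786 : Block F al 0 356736 277971 :=
  block_comb c2785 b2786 (Nat.zero_le _) (Nat.le_of_ble_eq_true rfl) rfl

theorem c2787 : Block F al 0 356864 278099 :=
  block_comb c2786 b2787 (Nat.zero_le _) (Nat.le_of_ble_eq_true rfl) rfl

theorem c2788 : Block F al 0 356992 278227 :=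
  block_comb c2787 b2788 (Nat.zero_le _) (Nat.le_of_ble_eq_true rfl) rfl

theorem c2789 : Block F al 0 357120 278355 :=
  block_comb c2788 b2789 (Nat.zero_le _) (Nat.le_of_ble_eq_true rfl) rfl

theorem c2790 : Block F al 0 357248 278483 :=
  block_comb c2789 b2790 (Nat.zero_le _) (Nat.le_of_ble_eq_true rfl) rfl

theorem c2791 : Block F al 0 357376 278611 :=
  block_comb c2790 b2791 (Nat.zero_le _) (Nat.le_of_ble_eq_true rfl) rfl

theorem c2792 : Block F al 0 357504 278739 :=
  block_comb c2791 b2792 (Nat.zero_le _) (Nat.le_of_ble_eq_true rfl) rfl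

theorem c2793 : Block F al 0 357632 278867 :=
  block_comb c2792 b2793 (Nat.zero_le _) (Nat.le_of_ble_eq_true rfl) rfl

theorem c2794 : Block F al 0 357760 278995 :=
  block_comb c2793 b2794 (Nat.zero_le _) (Nat.le_of_ble_eq_true rfl) rfl

theorem c2795 : Block F al 0 357888 279123 :=
  block_comb c2794 b2795 (Nat.zero_le _) (Nat.le_of_ble_eq_true rfl) rfl

theorem c2796 : Block F al 0 358016 279251 :=
  block_comb c2795 b2796 (Nat.zero_le _) (Nat.le_of_ble_eq_true rfl) rfl

theorem c2797 : Block F al 0 358144 279379 :=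
  block_comb c2796 b2797 (Nat.zero_le _) (Nat.le_of_ble_eq_true rfl) rfl

theorem c2798 : Block F al 0 358272 279507 :=
  block_comb c2797 b2798 (Nat.zero_le _) (Nat.le_of_ble_eq_true rfl) rfl

theorem c2799 : Block F al 0 358400 279635 :=
  block_comb c2798 b2799 (Nat.zero_le _) (Nat.le_of_ble_eq_true rfl) rfl

theorem c2800 : Block F al 0 358528 279763 :=
  block_comb c2799 b2800 (Nat.zero_le _) (Nat.le_of_ble_eq_true rfl) rfl

theorem c2801 : Block F al 0 358656 279891 :=
  block_comb c2800 b2801 (Nat.zero_le _) (Nat.le_of_ble_eq_true rfl) rfl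

theorem c2802 : Block F al 0 358784 280019 :=
  block_comb c2801 b2802 (Nat.zero_le _) (Nat.le_of_ble_eq_true rfl) rfl

theorem c2803 : Block F al 0 358912 280147 :=
  block_comb c2802 b2803 (Nat.zero_le _) (Nat.le_of_ble_eq_true rfl) rfl

theorem c2804 : Block F al 0 359040 280275 :=
  block_comb c2803 b2804 (Nat.zero_le _) (Nat.le_of_ble_eq_true rfl) rfl

theorem c2805 : Block F al 0 359168 280403 :=
  block_comb c2804 b2805 (Nat.zero_le _) (Nat.le_of_ble_eq_true rfl) rfl

theorem c2806 : Block F al 0 359296 280531 :=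
  block_comb c2805 b2806 (Nat.zero_le _) (Nat.le_of_ble_eq_true rfl) rfl

theorem c2807 : Block F al 0 359424 280659 :=
  block_comb c2806 b2807 (Nat.zero_le _) (Nat.le_of_ble_eq_true rfl) rfl

theorem c2808 : Block F al 0 359552 280787 :=
  block_comb c2807 b2808 (Nat.zero_le _) (Nat.le_of_ble_eq_true rfl) rfl

theorem c2809 : Block F al 0 359680 280915 :=
  block_comb c2808 b2809 (Nat.zero_le _) (Nat.le_of_ble_eq_true rfl) rfl

theorem c2810 : Block F al 0 359808 281043 :=
  block_comb c2809 b2810 (Nat.zero_le _) (Nat.le_of_ble_eq_true rfl) rfl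

theorem c2811 : Block F al 0 359936 281171 :=
  block_comb c2810 b2811 (Nat.zero_le _) (Nat.le_of_ble_eq_true rfl) rfl

theorem c2812 : Block F al 0 360064 281299 :=
  block_comb c2811 b2812 (Nat.zero_le _) (Nat.le_of_ble_eq_true rfl) rfl

theorem c2813 : Block F al 0 360192 281427 :=
  block_comb c2812 b2813 (Nat.zero_le _) (Nat.le_of_ble_eq_true rfl) rfl

theorem c2814 : Block F al 0 360320 281555 :=
  block_comb c2813 b2814 (Nat.zero_le _) (Nat.le_of_ble_eq_true rfl) rfl

theorem c2815 : Block F al 0 360448 281683 :=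
  block_comb c2814 b2815 (Nat.zero_le _) (Nat.le_of_ble_eq_true rfl) rfl

theorem c2816 : Block F al 0 360576 281811 :=
  block_comb c2815 b2816 (Nat.zero_le _) (Nat.le_of_ble_eq_true rfl) rfl

theorem c2817 : Block F al 0 360704 281939 :=
  block_comb c2816 b2817 (Nat.zero_le _) (Nat.le_of_ble_eq_true rfl) rfl

theorem c2818 : Block F al 0 360832 282067 :=
  block_comb c2817 b2818 (Nat.zero_le _) (Nat.le_of_ble_eq_true rfl) rfl

theorem c2819 : Block F al 0 360960 282195 :=
  block_comb c2818 b2819 (Nat.zero_le _) (Nat.le_of_ble_eq_true rfl) rfl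

theorem c2820 : Block F al 0 361088 282323 :=
  block_comb c2819 b2820 (Nat.zero_le _) (Nat.le_of_ble_eq_true rfl) rfl

theorem c2821 : Block F al 0 361216 282451 :=
  block_comb c2820 b2821 (Nat.zero_le _) (Nat.le_of_ble_eq_true rfl) rfl

theorem c2822 : Block F al 0 361344 282579 :=
  block_comb c2821 b2822 (Nat.zero_le _) (Nat.le_of_ble_eq_true rfl) rfl

theorem c2823 : Block F al 0 361472 282707 :=
  block_comb c2822 b2823 (Nat.zero_le _) (Nat.le_of_ble_eq_true rfl) rfl

theorem c2824 : Block F al 0 361600 282835 :=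
  block_comb c2823 b2824 (Nat.zero_le _) (Nat.le_of_ble_eq_true rfl) rfl

theorem c2825 : Block F al 0 361728 282963 :=
  block_comb c2824 b2825 (Nat.zero_le _) (Nat.le_of_ble_eq_true rfl) rfl

theorem c2826 : Block F al 0 361856 283091 :=
  block_comb c2825 b2826 (Nat.zero_le _) (Nat.le_of_ble_eq_true rfl) rfl

theorem c2827 : Block F al 0 361984 283219 :=
  block_comb c2826 b2827 (Nat.zero_le _) (Nat.le_of_ble_eq_true rfl) rfl

theorem c2828 : Block F al 0 362112 283347 :=
  block_comb c2827 b2828 (Nat.zero_le _) (Nat.le_of_ble_eq_true rfl) rfl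

theorem c2829 : Block F al 0 362240 283475 :=
  block_comb c2828 b2829 (Nat.zero_le _) (Nat.le_of_ble_eq_true rfl) rfl

theorem c2830 : Block F al 0 362368 283603 :=
  block_comb c2829 b2830 (Nat.zero_le _) (Nat.le_of_ble_eq_true rfl) rfl

theorem c2831 : Block F al 0 362496 283731 :=
  block_comb c2830 b2831 (Nat.zero_le _) (Nat.le_of_ble_eq_true rfl) rfl

theorem c2832 : Block F al 0 362624 283859 :=
  block_comb c2831 b2832 (Nat.zero_le _) (Nat.le_of_ble_eq_true rfl) rfl

theorem c2833 : Block F al 0 362752 283987 :=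
  block_comb c2832 b2833 (Nat.zero_le _) (Nat.le_of_ble_eq_true rfl) rfl

theorem c2834 : Block F al 0 362880 284115 :=
  block_comb c2833 b2834 (Nat.zero_le _) (Nat.le_of_ble_eq_true rfl) rfl

theorem c2835 : Block F al 0 363008 284243 :=
  block_comb c2834 b2835 (Nat.zero_le _) (Nat.le_of_ble_eq_true rfl) rfl

theorem c2836 : Block F al 0 363136 284371 :=
  block_comb c2835 b2836 (Nat.zero_le _) (Nat.le_of_ble_eq_true rfl) rfl

theorem c2837 : Block F al 0 363264 284499 :=
  block_comb c2836 b2837 (Nat.zero_le _) (Nat.le_of_ble_eq_true rfl) rfl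

theorem c2838 : Block F al 0 363392 284627 :=
  block_comb c2837 b2838 (Nat.zero_le _) (Nat.le_of_ble_eq_true rfl) rfl

theorem c2839 : Block F al 0 363520 284755 :=
  block_comb c2838 b2839 (Nat.zero_le _) (Nat.le_of_ble_eq_true rfl) rfl

theorem c2840 : Block F al 0 363648 284883 :=
  block_comb c2839 b2840 (Nat.zero_le _) (Nat.le_of_ble_eq_true rfl) rfl

theorem c2841 : Block F al 0 363776 285011 :=
  block_comb c2840 b2841 (Nat.zero_le _) (Nat.le_of_ble_eq_true rfl) rfl

theorem c2842 : Block F al 0 363904 285139 :=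
  block_comb c2841 b2842 (Nat.zero_le _) (Nat.le_of_ble_eq_true rfl) rfl

theorem c2843 : Block F al 0 364032 285267 :=
  block_comb c2842 b2843 (Nat.zero_le _) (Nat.le_of_ble_eq_true rfl) rfl

theorem c2844 : Block F al 0 364160 285395 :=
  block_comb c2843 b2844 (Nat.zero_le _) (Nat.le_of_ble_eq_true rfl) rfl

theorem c2845 : Block F al 0 364288 285523 :=
  block_comb c2844 b2845 (Nat.zero_le _) (Nat.le_of_ble_eq_true rfl) rfl

theorem c2846 : Block F al 0 364416 285651 :=
  block_comb c2845 b2846 (Nat.zero_le _) (Nat.le_of_ble_eq_true rfl) rfl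

theorem c2847 : Block F al 0 364544 285779 :=
  block_comb c2846 b2847 (Nat.zero_le _) (Nat.le_of_ble_eq_true rfl) rfl

theorem c2848 : Block F al 0 364672 285907 :=
  block_comb c2847 b2848 (Nat.zero_le _) (Nat.le_of_ble_eq_true rfl) rfl

theorem c2849 : Block F al 0 364800 286035 :=
  block_comb c2848 b2849 (Nat.zero_le _) (Nat.le_of_ble_eq_true rfl) rfl

theorem c2850 : Block F al 0 364928 286163 :=
  block_comb c2849 b2850 (Nat.zero_le _) (Nat.le_of_ble_eq_true rfl) rfl

theorem c2851 : Block F al 0 365056 286291 :=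
  block_comb c2850 b2851 (Nat.zero_le _) (Nat.le_of_ble_eq_true rfl) rfl

theorem c2852 : Block F al 0 365184 286419 :=
  block_comb c2851 b2852 (Nat.zero_le _) (Nat.le_of_ble_eq_true rfl) rfl

theorem c2853 : Block F al 0 365312 286547 :=
  block_comb c2852 b2853 (Nat.zero_le _) (Nat.le_of_ble_eq_true rfl) rfl

theorem c2854 : Block F al 0 365440 286675 :=
  block_comb c2853 b2854 (Nat.zero_le _) (Nat.le_of_ble_eq_true rfl) rfl

theorem c2855 : Block F al 0 365568 286803 :=
  block_comb c2854 b2855 (Nat.zero_le _) (Nat.le_of_ble_eq_true rfl) rfl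

theorem c2856 : Block F al 0 365696 286931 :=
  block_comb c2855 b2856 (Nat.zero_le _) (Nat.le_of_ble_eq_true rfl) rfl

theorem c2857 : Block F al 0 365824 287059 :=
  block_comb c2856 b2857 (Nat.zero_le _) (Nat.le_of_ble_eq_true rfl) rfl

theorem c2858 : Block F al 0 365952 287187 :=
  block_comb c2857 b2858 (Nat.zero_le _) (Nat.le_of_ble_eq_true rfl) rfl

theorem c2859 : Block F al 0 366080 287315 :=
  block_comb c2858 b2859 (Nat.zero_le _) (Nat.le_of_ble_eq_true rfl) rfl

theorem c2860 : Block F al 0 366208 287443 :=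
  block_comb c2859 b2860 (Nat.zero_le _) (Nat.le_of_ble_eq_true rfl) rfl

theorem c2861 : Block F al 0 366336 287571 :=
  block_comb c2860 b2861 (Nat.zero_le _) (Nat.le_of_ble_eq_true rfl) rfl

theorem c2862 : Block F al 0 366464 287699 :=
  block_comb c2861 b2862 (Nat.zero_le _) (Nat.le_of_ble_eq_true rfl) rfl

theorem c2863 : Block F al 0 366592 287827 :=
  block_comb c2862 b2863 (Nat.zero_le _) (Nat.le_of_ble_eq_true rfl) rfl

theorem c2864 : Block F al 0 366720 287955 :=
  block_comb c2863 b2864 (Nat.zero_le _) (Nat.le_of_ble_eq_true rfl) rfl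

theorem c2865 : Block F al 0 366848 288083 :=
  block_comb c2864 b2865 (Nat.zero_le _) (Nat.le_of_ble_eq_true rfl) rfl

theorem c2866 : Block F al 0 366976 288211 :=
  block_comb c2865 b2866 (Nat.zero_le _) (Nat.le_of_ble_eq_true rfl) rfl

theorem c2867 : Block F al 0 367104 288339 :=
  block_comb c2866 b2867 (Nat.zero_le _) (Nat.le_of_ble_eq_true rfl) rfl

theorem c2868 : Block F al 0 367232 288467 :=
  block_comb c2867 b2868 (Nat.zero_le _) (Nat.le_of_ble_eq_true rfl) rfl

theorem c2869 : Block F al 0 367360 288595 :=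
  block_comb c2868 b2869 (Nat.zero_le _) (Nat.le_of_ble_eq_true rfl) rfl

theorem c2870 : Block F al 0 367488 288723 :=
  block_comb c2869 b2870 (Nat.zero_le _) (Nat.le_of_ble_eq_true rfl) rfl

theorem c2871 : Block F al 0 367616 288851 :=
  block_comb c2870 b2871 (Nat.zero_le _) (Nat.le_of_ble_eq_true rfl) rfl

theorem c2872 : Block F al 0 367744 288979 :=
  block_comb c2871 b2872 (Nat.zero_le _) (Nat.le_of_ble_eq_true rfl) rfl

theorem c2873 : Block F al 0 367872 289107 :=
  block_comb c2872 b2873 (Nat.zero_le _) (Nat.le_of_ble_eq_true rfl) rfl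

theorem c2874 : Block F al 0 368000 289235 :=
  block_comb c2873 b2874 (Nat.zero_le _) (Nat.le_of_ble_eq_true rfl) rfl

theorem c2875 : Block F al 0 368128 289363 :=
  block_comb c2874 b2875 (Nat.zero_le _) (Nat.le_of_ble_eq_true rfl) rfl

theorem c2876 : Block F al 0 368256 289491 :=
  block_comb c2875 b2876 (Nat.zero_le _) (Nat.le_of_ble_eq_true rfl) rfl

theorem c2877 : Block F al 0 368384 289619 :=
  block_comb c2876 b2877 (Nat.zero_le _) (Nat.le_of_ble_eq_true rfl) rfl

theorem c2878 : Block F al 0 368512 289747 :=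
  block_comb c2877 b2878 (Nat.zero_le _) (Nat.le_of_ble_eq_true rfl) rfl

theorem c2879 : Block F al 0 368640 289875 :=
  block_comb c2878 b2879 (Nat.zero_le _) (Nat.le_of_ble_eq_true rfl) rfl

theorem c2880 : Block F al 0 368768 290003 :=
  block_comb c2879 b2880 (Nat.zero_le _) (Nat.le_of_ble_eq_true rfl) rfl

theorem c2881 : Block F al 0 368896 290131 :=
  block_comb c2880 b2881 (Nat.zero_le _) (Nat.le_of_ble_eq_true rfl) rfl

theorem c2882 : Block F al 0 369024 290259 :=
  block_comb c2881 b2882 (Nat.zero_le _) (Nat.le_of_ble_eq_true rfl) rfl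

theorem c2883 : Block F al 0 369152 290387 :=
  block_comb c2882 b2883 (Nat.zero_le _) (Nat.le_of_ble_eq_true rfl) rfl

theorem c2884 : Block F al 0 369280 290515 :=
  block_comb c2883 b2884 (Nat.zero_le _) (Nat.le_of_ble_eq_true rfl) rfl

theorem c2885 : Block F al 0 369408 290643 :=
  block_comb c2884 b2885 (Nat.zero_le _) (Nat.le_of_ble_eq_true rfl) rfl

theorem c2886 : Block F al 0 369536 290771 :=
  block_comb c2885 b2886 (Nat.zero_le _) (Nat.le_of_ble_eq_true rfl) rfl

theorem c2887 : Block F al 0 369664 290899 :=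
  block_comb c2886 b2887 (Nat.zero_le _) (Nat.le_of_ble_eq_true rfl) rfl

theorem c2888 : Block F al 0 369792 291027 :=
  block_comb c2887 b2888 (Nat.zero_le _) (Nat.le_of_ble_eq_true rfl) rfl

theorem c2889 : Block F al 0 369920 291155 :=
  block_comb c2888 b2889 (Nat.zero_le _) (Nat.le_of_ble_eq_true rfl) rfl

theorem c2890 : Block F al 0 370048 291283 :=
  block_comb c2889 b2890 (Nat.zero_le _) (Nat.le_of_ble_eq_true rfl) rfl

theorem c2891 : Block F al 0 370176 291411 :=
  block_comb c2890 b2891 (Nat.zero_le _) (Nat.le_of_ble_eq_true rfl) rfl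

theorem c2892 : Block F al 0 370304 291539 :=
  block_comb c2891 b2892 (Nat.zero_le _) (Nat.le_of_ble_eq_true rfl) rfl

theorem c2893 : Block F al 0 370432 291667 :=
  block_comb c2892 b2893 (Nat.zero_le _) (Nat.le_of_ble_eq_true rfl) rfl

theorem c2894 : Block F al 0 370560 291795 :=
  block_comb c2893 b2894 (Nat.zero_le _) (Nat.le_of_ble_eq_true rfl) rfl

theorem c2895 : Block F al 0 370688 291923 :=
  block_comb c2894 b2895 (Nat.zero_le _) (Nat.le_of_ble_eq_true rfl) rfl

theorem c2896 : Block F al 0 370816 292051 :=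
  block_comb c2895 b2896 (Nat.zero_le _) (Nat.le_of_ble_eq_true rfl) rfl

theorem c2897 : Block F al 0 370944 292179 :=
  block_comb c2896 b2897 (Nat.zero_le _) (Nat.le_of_ble_eq_true rfl) rfl

theorem c2898 : Block F al 0 371072 292307 :=
  block_comb c2897 b2898 (Nat.zero_le _) (Nat.le_of_ble_eq_true rfl) rfl

theorem c2899 : Block F al 0 371200 292435 :=
  block_comb c2898 b2899 (Nat.zero_le _) (Nat.le_of_ble_eq_true rfl) rfl

theorem c2900 : Block F al 0 371328 292563 :=
  block_comb c2899 b2900 (Nat.zero_le _) (Nat.le_of_ble_eq_true rfl) rfl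

theorem c2901 : Block F al 0 371456 292691 :=
  block_comb c2900 b2901 (Nat.zero_le _) (Nat.le_of_ble_eq_true rfl) rfl

theorem c2902 : Block F al 0 371584 292819 :=
  block_comb c2901 b2902 (Nat.zero_le _) (Nat.le_of_ble_eq_true rfl) rfl

theorem c2903 : Block F al 0 371712 292947 :=
  block_comb c2902 b2903 (Nat.zero_le _) (Nat.le_of_ble_eq_true rfl) rfl

theorem c2904 : Block F al 0 371840 293075 :=
  block_comb c2903 b2904 (Nat.zero_le _) (Nat.le_of_ble_eq_true rfl) rfl

theorem c2905 : Block F al 0 371968 293203 :=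
  block_comb c2904 b2905 (Nat.zero_le _) (Nat.le_of_ble_eq_true rfl) rfl

theorem c2906 : Block F al 0 372096 293331 :=
  block_comb c2905 b2906 (Nat.zero_le _) (Nat.le_of_ble_eq_true rfl) rfl

theorem c2907 : Block F al 0 372224 293459 :=
  block_comb c2906 b2907 (Nat.zero_le _) (Nat.le_of_ble_eq_true rfl) rfl

theorem c2908 : Block F al 0 372352 293587 :=
  block_comb c2907 b2908 (Nat.zero_le _) (Nat.le_of_ble_eq_true rfl) rfl

theorem c2909 : Block F al 0 372480 293715 :=
  block_comb c2908 b2909 (Nat.zero_le _) (Nat.le_of_ble_eq_true rfl) rfl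

theorem c2910 : Block F al 0 372608 293843 :=
  block_comb c2909 b2910 (Nat.zero_le _) (Nat.le_of_ble_eq_true rfl) rfl

theorem c2911 : Block F al 0 372736 293971 :=
  block_comb c2910 b2911 (Nat.zero_le _) (Nat.le_of_ble_eq_true rfl) rfl

theorem c2912 : Block F al 0 372864 294099 :=
  block_comb c2911 b2912 (Nat.zero_le _) (Nat.le_of_ble_eq_true rfl) rfl

theorem c2913 : Block F al 0 372992 294227 :=
  block_comb c2912 b2913 (Nat.zero_le _) (Nat.le_of_ble_eq_true rfl) rfl

theorem c2914 : Block F al 0 373120 294355 :=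
  block_comb c2913 b2914 (Nat.zero_le _) (Nat.le_of_ble_eq_true rfl) rfl

theorem c2915 : Block F al 0 373248 294483 :=
  block_comb c2914 b2915 (Nat.zero_le _) (Nat.le_of_ble_eq_true rfl) rfl

theorem c2916 : Block F al 0 373376 294611 :=
  block_comb c2915 b2916 (Nat.zero_le _) (Nat.le_of_ble_eq_true rfl) rfl

theorem c2917 : Block F al 0 373504 294739 :=
  block_comb c2916 b2917 (Nat.zero_le _) (Nat.le_of_ble_eq_true rfl) rfl

theorem c2918 : Block F al 0 373632 294867 :=
  block_comb c2917 b2918 (Nat.zero_le _) (Nat.le_of_ble_eq_true rfl) rfl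

theorem c2919 : Block F al 0 373760 294995 :=
  block_comb c2918 b2919 (Nat.zero_le _) (Nat.le_of_ble_eq_true rfl) rfl

theorem c2920 : Block F al 0 373888 295123 :=
  block_comb c2919 b2920 (Nat.zero_le _) (Nat.le_of_ble_eq_true rfl) rfl

theorem c2921 : Block F al 0 374016 295251 :=
  block_comb c2920 b2921 (Nat.zero_le _) (Nat.le_of_ble_eq_true rfl) rfl

theorem c2922 : Block F al 0 374144 295379 :=
  block_comb c2921 b2922 (Nat.zero_le _) (Nat.le_of_ble_eq_true rfl) rfl

theorem c2923 : Block F al 0 374272 295507 :=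
  block_comb c2922 b2923 (Nat.zero_le _) (Nat.le_of_ble_eq_true rfl) rfl

theorem c2924 : Block F al 0 374400 295635 :=
  block_comb c2923 b2924 (Nat.zero_le _) (Nat.le_of_ble_eq_true rfl) rfl

theorem c2925 : Block F al 0 374528 295763 :=
  block_comb c2924 b2925 (Nat.zero_le _) (Nat.le_of_ble_eq_true rfl) rfl

theorem c2926 : Block F al 0 374656 295891 :=
  block_comb c2925 b2926 (Nat.zero_le _) (Nat.le_of_ble_eq_true rfl) rfl

theorem c2927 : Block F al 0 374784 296019 :=
  block_comb c2926 b2927 (Nat.zero_le _) (Nat.le_of_ble_eq_true rfl) rfl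

theorem c2928 : Block F al 0 374912 296147 :=
  block_comb c2927 b2928 (Nat.zero_le _) (Nat.le_of_ble_eq_true rfl) rfl

theorem c2929 : Block F al 0 375040 296275 :=
  block_comb c2928 b2929 (Nat.zero_le _) (Nat.le_of_ble_eq_true rfl) rfl

theorem c2930 : Block F al 0 375168 296403 :=
  block_comb c2929 b2930 (Nat.zero_le _) (Nat.le_of_ble_eq_true rfl) rfl

theorem c2931 : Block F al 0 375296 296531 :=
  block_comb c2930 b2931 (Nat.zero_le _) (Nat.le_of_ble_eq_true rfl) rfl

theorem c2932 : Block F al 0 375424 296659 :=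
  block_comb c2931 b2932 (Nat.zero_le _) (Nat.le_of_ble_eq_true rfl) rfl

theorem c2933 : Block F al 0 375552 296787 :=
  block_comb c2932 b2933 (Nat.zero_le _) (Nat.le_of_ble_eq_true rfl) rfl

theorem c2934 : Block F al 0 375680 296915 :=
  block_comb c2933 b2934 (Nat.zero_le _) (Nat.le_of_ble_eq_true rfl) rfl

theorem c2935 : Block F al 0 375808 297043 :=
  block_comb c2934 b2935 (Nat.zero_le _) (Nat.le_of_ble_eq_true rfl) rfl

theorem c2936 : Block F al 0 375936 297171 :=
  block_comb c2935 b2936 (Nat.zero_le _) (Nat.le_of_ble_eq_true rfl) rfl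

theorem c2937 : Block F al 0 376064 297299 :=
  block_comb c2936 b2937 (Nat.zero_le _) (Nat.le_of_ble_eq_true rfl) rfl

theorem c2938 : Block F al 0 376192 297427 :=
  block_comb c2937 b2938 (Nat.zero_le _) (Nat.le_of_ble_eq_true rfl) rfl

theorem c2939 : Block F al 0 376320 297555 :=
  block_comb c2938 b2939 (Nat.zero_le _) (Nat.le_of_ble_eq_true rfl) rfl

theorem c2940 : Block F al 0 376448 297683 :=
  block_comb c2939 b2940 (Nat.zero_le _) (Nat.le_of_ble_eq_true rfl) rfl

theorem c2941 : Block F al 0 376576 297811 :=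
  block_comb c2940 b2941 (Nat.zero_le _) (Nat.le_of_ble_eq_true rfl) rfl

theorem c2942 : Block F al 0 376704 297939 :=
  block_comb c2941 b2942 (Nat.zero_le _) (Nat.le_of_ble_eq_true rfl) rfl

theorem c2943 : Block F al 0 376832 298067 :=
  block_comb c2942 b2943 (Nat.zero_le _) (Nat.le_of_ble_eq_true rfl) rfl

theorem c2944 : Block F al 0 376960 298195 :=
  block_comb c2943 b2944 (Nat.zero_le _) (Nat.le_of_ble_eq_true rfl) rfl

theorem c2945 : Block F al 0 377088 298323 :=
  block_comb c2944 b2945 (Nat.zero_le _) (Nat.le_of_ble_eq_true rfl) rfl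

theorem c2946 : Block F al 0 377216 298451 :=
  block_comb c2945 b2946 (Nat.zero_le _) (Nat.le_of_ble_eq_true rfl) rfl

theorem c2947 : Block F al 0 377344 298579 :=
  block_comb c2946 b2947 (Nat.zero_le _) (Nat.le_of_ble_eq_true rfl) rfl

theorem c2948 : Block F al 0 377472 298707 :=
  block_comb c2947 b2948 (Nat.zero_le _) (Nat.le_of_ble_eq_true rfl) rfl

theorem c2949 : Block F al 0 377600 298835 :=
  block_comb c2948 b2949 (Nat.zero_le _) (Nat.le_of_ble_eq_true rfl) rfl

theorem c2950 : Block F al 0 377728 298963 :=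
  block_comb c2949 b2950 (Nat.zero_le _) (Nat.le_of_ble_eq_true rfl) rfl

theorem c2951 : Block F al 0 377856 299091 :=
  block_comb c2950 b2951 (Nat.zero_le _) (Nat.le_of_ble_eq_true rfl) rfl

theorem c2952 : Block F al 0 377984 299219 :=
  block_comb c2951 b2952 (Nat.zero_le _) (Nat.le_of_ble_eq_true rfl) rfl

theorem c2953 : Block F al 0 378112 299347 :=
  block_comb c2952 b2953 (Nat.zero_le _) (Nat.le_of_ble_eq_true rfl) rfl

theorem c2954 : Block F al 0 378240 299475 :=
  block_comb c2953 b2954 (Nat.zero_le _) (Nat.le_of_ble_eq_true rfl) rfl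

theorem c2955 : Block F al 0 378368 299603 :=
  block_comb c2954 b2955 (Nat.zero_le _) (Nat.le_of_ble_eq_true rfl) rfl

theorem c2956 : Block F al 0 378496 299731 :=
  block_comb c2955 b2956 (Nat.zero_le _) (Nat.le_of_ble_eq_true rfl) rfl

theorem c2957 : Block F al 0 378624 299859 :=
  block_comb c2956 b2957 (Nat.zero_le _) (Nat.le_of_ble_eq_true rfl) rfl

theorem c2958 : Block F al 0 378752 299987 :=
  block_comb c2957 b2958 (Nat.zero_le _) (Nat.le_of_ble_eq_true rfl) rfl

theorem c2959 : Block F al 0 378880 300115 :=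
  block_comb c2958 b2959 (Nat.zero_le _) (Nat.le_of_ble_eq_true rfl) rfl

theorem c2960 : Block F al 0 379008 300243 :=
  block_comb c2959 b2960 (Nat.zero_le _) (Nat.le_of_ble_eq_true rfl) rfl

theorem c2961 : Block F al 0 379136 300371 :=
  block_comb c2960 b2961 (Nat.zero_le _) (Nat.le_of_ble_eq_true rfl) rfl

theorem c2962 : Block F al 0 379264 300499 :=
  block_comb c2961 b2962 (Nat.zero_le _) (Nat.le_of_ble_eq_true rfl) rfl

theorem c2963 : Block F al 0 379392 300627 :=
  block_comb c2962 b2963 (Nat.zero_le _) (Nat.le_of_ble_eq_true rfl) rfl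

theorem c2964 : Block F al 0 379520 300755 :=
  block_comb c2963 b2964 (Nat.zero_le _) (Nat.le_of_ble_eq_true rfl) rfl

theorem c2965 : Block F al 0 379648 300883 :=
  block_comb c2964 b2965 (Nat.zero_le _) (Nat.le_of_ble_eq_true rfl) rfl

theorem c2966 : Block F al 0 379776 301011 :=
  block_comb c2965 b2966 (Nat.zero_le _) (Nat.le_of_ble_eq_true rfl) rfl

theorem c2967 : Block F al 0 379904 301139 :=
  block_comb c2966 b2967 (Nat.zero_le _) (Nat.le_of_ble_eq_true rfl) rfl

theorem c2968 : Block F al 0 380032 301267 :=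
  block_comb c2967 b2968 (Nat.zero_le _) (Nat.le_of_ble_eq_true rfl) rfl

theorem c2969 : Block F al 0 380160 301395 :=
  block_comb c2968 b2969 (Nat.zero_le _) (Nat.le_of_ble_eq_true rfl) rfl

theorem c2970 : Block F al 0 380288 301523 :=
  block_comb c2969 b2970 (Nat.zero_le _) (Nat.le_of_ble_eq_true rfl) rfl

theorem c2971 : Block F al 0 380416 301651 :=
  block_comb c2970 b2971 (Nat.zero_le _) (Nat.le_of_ble_eq_true rfl) rfl

theorem c2972 : Block F al 0 380544 301779 :=
  block_comb c2971 b2972 (Nat.zero_le _) (Nat.le_of_ble_eq_true rfl) rfl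

theorem c2973 : Block F al 0 380672 301907 :=
  block_comb c2972 b2973 (Nat.zero_le _) (Nat.le_of_ble_eq_true rfl) rfl

theorem c2974 : Block F al 0 380800 302035 :=
  block_comb c2973 b2974 (Nat.zero_le _) (Nat.le_of_ble_eq_true rfl) rfl

theorem c2975 : Block F al 0 380928 302163 :=
  block_comb c2974 b2975 (Nat.zero_le _) (Nat.le_of_ble_eq_true rfl) rfl

theorem c2976 : Block F al 0 381056 302291 :=
  block_comb c2975 b2976 (Nat.zero_le _) (Nat.le_of_ble_eq_true rfl) rfl

theorem c2977 : Block F al 0 381184 302419 :=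
  block_comb c2976 b2977 (Nat.zero_le _) (Nat.le_of_ble_eq_true rfl) rfl

theorem c2978 : Block F al 0 381312 302547 :=
  block_comb c2977 b2978 (Nat.zero_le _) (Nat.le_of_ble_eq_true rfl) rfl

theorem c2979 : Block F al 0 381440 302675 :=
  block_comb c2978 b2979 (Nat.zero_le _) (Nat.le_of_ble_eq_true rfl) rfl

theorem c2980 : Block F al 0 381568 302803 :=
  block_comb c2979 b2980 (Nat.zero_le _) (Nat.le_of_ble_eq_true rfl) rfl

theorem c2981 : Block F al 0 381696 302931 :=
  block_comb c2980 b2981 (Nat.zero_le _) (Nat.le_of_ble_eq_true rfl) rfl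

theorem c2982 : Block F al 0 381824 303059 :=
  block_comb c2981 b2982 (Nat.zero_le _) (Nat.le_of_ble_eq_true rfl) rfl

theorem c2983 : Block F al 0 381952 303187 :=
  block_comb c2982 b2983 (Nat.zero_le _) (Nat.le_of_ble_eq_true rfl) rfl

theorem c2984 : Block F al 0 382080 303315 :=
  block_comb c2983 b2984 (Nat.zero_le _) (Nat.le_of_ble_eq_true rfl) rfl

theorem c2985 : Block F al 0 382208 303443 :=
  block_comb c2984 b2985 (Nat.zero_le _) (Nat.le_of_ble_eq_true rfl) rfl

theorem c2986 : Block F al 0 382336 303571 :=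
  block_comb c2985 b2986 (Nat.zero_le _) (Nat.le_of_ble_eq_true rfl) rfl

theorem c2987 : Block F al 0 382464 303699 :=
  block_comb c2986 b2987 (Nat.zero_le _) (Nat.le_of_ble_eq_true rfl) rfl

theorem c2988 : Block F al 0 382592 303827 :=
  block_comb c2987 b2988 (Nat.zero_le _) (Nat.le_of_ble_eq_true rfl) rfl

theorem c2989 : Block F al 0 382720 303955 :=
  block_comb c2988 b2989 (Nat.zero_le _) (Nat.le_of_ble_eq_true rfl) rfl

theorem c2990 : Block F al 0 382848 304083 :=
  block_comb c2989 b2990 (Nat.zero_le _) (Nat.le_of_ble_eq_true rfl) rfl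

theorem c2991 : Block F al 0 382976 304211 :=
  block_comb c2990 b2991 (Nat.zero_le _) (Nat.le_of_ble_eq_true rfl) rfl

theorem c2992 : Block F al 0 383104 304339 :=
  block_comb c2991 b2992 (Nat.zero_le _) (Nat.le_of_ble_eq_true rfl) rfl

theorem c2993 : Block F al 0 383232 304467 :=
  block_comb c2992 b2993 (Nat.zero_le _) (Nat.le_of_ble_eq_true rfl) rfl

theorem c2994 : Block F al 0 383360 304595 :=
  block_comb c2993 b2994 (Nat.zero_le _) (Nat.le_of_ble_eq_true rfl) rfl

theorem c2995 : Block F al 0 383488 304723 :=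
  block_comb c2994 b2995 (Nat.zero_le _) (Nat.le_of_ble_eq_true rfl) rfl

theorem c2996 : Block F al 0 383616 304851 :=
  block_comb c2995 b2996 (Nat.zero_le _) (Nat.le_of_ble_eq_true rfl) rfl

theorem c2997 : Block F al 0 383744 304979 :=
  block_comb c2996 b2997 (Nat.zero_le _) (Nat.le_of_ble_eq_true rfl) rfl

theorem c2998 : Block F al 0 383872 305107 :=
  block_comb c2997 b2998 (Nat.zero_le _) (Nat.le_of_ble_eq_true rfl) rfl

theorem c2999 : Block F al 0 384000 305235 :=
  block_comb c2998 b2999 (Nat.zero_le _) (Nat.le_of_ble_eq_true rfl) rfl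

theorem c3000 : Block F al 0 384128 305363 :=
  block_comb c2999 b3000 (Nat.zero_le _) (Nat.le_of_ble_eq_true rfl) rfl

theorem c3001 : Block F al 0 384256 305491 :=
  block_comb c3000 b3001 (Nat.zero_le _) (Nat.le_of_ble_eq_true rfl) rfl

theorem c3002 : Block F al 0 384384 305619 :=
  block_comb c3001 b3002 (Nat.zero_le _) (Nat.le_of_ble_eq_true rfl) rfl

theorem c3003 : Block F al 0 384512 305747 :=
  block_comb c3002 b3003 (Nat.zero_le _) (Nat.le_of_ble_eq_true rfl) rfl

theorem c3004 : Block F al 0 384640 305875 :=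
  block_comb c3003 b3004 (Nat.zero_le _) (Nat.le_of_ble_eq_true rfl) rfl

theorem c3005 : Block F al 0 384768 306003 :=
  block_comb c3004 b3005 (Nat.zero_le _) (Nat.le_of_ble_eq_true rfl) rfl

theorem c3006 : Block F al 0 384896 306131 :=
  block_comb c3005 b3006 (Nat.zero_le _) (Nat.le_of_ble_eq_true rfl) rfl

theorem c3007 : Block F al 0 385024 306259 :=
  block_comb c3006 b3007 (Nat.zero_le _) (Nat.le_of_ble_eq_true rfl) rfl

theorem c3008 : Block F al 0 385152 306387 :=
  block_comb c3007 b3008 (Nat.zero_le _) (Nat.le_of_ble_eq_true rfl) rfl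

theorem c3009 : Block F al 0 385280 306515 :=
  block_comb c3008 b3009 (Nat.zero_le _) (Nat.le_of_ble_eq_true rfl) rfl

theorem c3010 : Block F al 0 385408 306643 :=
  block_comb c3009 b3010 (Nat.zero_le _) (Nat.le_of_ble_eq_true rfl) rfl

theorem c3011 : Block F al 0 385536 306771 :=
  block_comb c3010 b3011 (Nat.zero_le _) (Nat.le_of_ble_eq_true rfl) rfl

theorem c3012 : Block F al 0 385664 306899 :=
  block_comb c3011 b3012 (Nat.zero_le _) (Nat.le_of_ble_eq_true rfl) rfl

theorem c3013 : Block F al 0 385792 306936 :=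
  block_comb c3012 b3013 (Nat.zero_le _) (Nat.le_of_ble_eq_true rfl) rfl

end Cfsg.Agent.TcData.Fi24.I306936
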