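import Mathlib
import Cfsg.Agent.TcData.Fi24.I306936.Tab

set_option autoImplicit false
set_option Elab.async false
set_option maxRecDepth 100000
set_option linter.all false

namespace Cfsg.Agent.TcData.Fi24.I306936

open Cfsg.Spor Cfsg.Agent.Lib.TcFacts Cfsg.Agent.Lib.TcBits Cfsg.Agent.Lib.TcPres Cfsg.Spor.Fi24 Cfsg.Agent.TcData.Fi24

theorem b664 : Block F al 84992 85120 93 :=
  block_of_check (k := 7) rfl (by decide +kernel)

theorem b665 : Block F al 85120 85248 119 :=
  block_of_check (k := 7) rfl (by decide +kernel)

theorem b666 : Block F al 85248 85376 119 :=
  block_of_check (k := 7) rfl (by decide +kernel)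

theorem b667 : Block F al 85376 85504 125 :=
  block_of_check (k := 7) rfl (by decide +kernel)

theorem b668 : Block F al 85504 85632 86 :=
  block_of_check (k := 7) rfl (by decide +kernel)

theorem b669 : Block F al 85632 85760 69 :=
  block_of_check (k := 7) rfl (by decide +kernel)

theorem b670 : Block F al 85760 85888 53 :=
  block_of_check (k := 7) rfl (by decide +kernel)

theorem b671 : Block F al 85888 86016 104 :=
  block_of_check (k := 7) rfl (by decide +kernel)

theorem b672 : Block F al 86016 86144 31 :=
  block_of_check (k := 7) rfl (by decide +kernel)

theorem b673 : Block F al 86144 86272 88 :=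
  block_of_check (k := 7) rfl (by decide +kernel)

theorem b674 : Block F al 86272 86400 123 :=
  block_of_check (k := 7) rfl (by decide +kernel)

theorem b675 : Block F al 86400 86528 107 :=
  block_of_check (k := 7) rfl (by decide +kernel)

theorem b676 : Block F al 86528 86656 122 :=
  block_of_check (k := 7) rfl (by decide +kernel)

theorem b677 : Block F al 86656 86784 104 :=
  block_of_check (k := 7) rfl (by decide +kernel)

theorem b678 : Block F al 86784 86912 79 :=
  block_of_check (k := 7) rfl (by decide +kernel)

theorem b679 : Block F al 86912 87040 121 :=
  block_of_check (k := 7) rfl (by decide +kernel)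

theorem b680 : Block F al 87040 87168 91 :=
  block_of_check (k := 7) rfl (by decide +kernel)

theorem b681 : Block F al 87168 87296 92 :=
  block_of_check (k := 7) rfl (by decide +kernel)

theorem b682 : Block F al 87296 87424 89 :=
  block_of_check (k := 7) rfl (by decide +kernel)

theorem b683 : Block F al 87424 87552 60 :=
  block_of_check (k := 7) rfl (by decide +kernel)

theorem b684 : Block F al 87552 87680 108 :=
  block_of_check (k := 7) rfl (by decide +kernel)

theorem b685 : Block F al 87680 87808 8 :=
  block_of_check (k := 7) rfl (by decide +kernel)

theorem b686 : Block F al 87808 87936 14 :=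
  block_of_check (k := 7) rfl (by decide +kernel)

theorem b687 : Block F al 87936 88064 40 :=
  block_of_check (k := 7) rfl (by decide +kernel)

theorem b688 : Block F al 88064 88192 2 :=
  block_of_check (k := 7) rfl (by decide +kernel)

theorem b689 : Block F al 88192 88320 25 :=
  block_of_check (k := 7) rfl (by decide +kernel)

theorem b690 : Block F al 88320 88448 76 :=
  block_of_check (k := 7) rfl (by decide +kernel)

theorem b691 : Block F al 88448 88576 0 :=
  block_of_check (k := 7) rfl (by decide +kernel)

theorem b692 : Block F al 88576 88704 2 :=
  block_of_check (k := 7) rfl (by decide +kernel)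

theorem b693 : Block F al 88704 88832 3 :=
  block_of_check (k := 7) rfl (by decide +kernel)

theorem b694 : Block F al 88832 88960 27 :=
  block_of_check (k := 7) rfl (by decide +kernel)

theorem b695 : Block F al 88960 89088 34 :=
  block_of_check (k := 7) rfl (by decide +kernel)

theorem b696 : Block F al 89088 89216 42 :=
  block_of_check (k := 7) rfl (by decide +kernel)

theorem b697 : Block F al 89216 89344 44 :=
  block_of_check (k := 7) rfl (by decide +kernel)

theorem b698 : Block F al 89344 89472 49 :=
  block_of_check (k := 7) rfl (by decide +kernel)

theorem b699 : Block F al 89472 89600 14 :=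
  block_of_check (k := 7) rfl (by decide +kernel)

theorem b700 : Block F al 89600 89728 62 :=
  block_of_check (k := 7) rfl (by decide +kernel)

theorem b701 : Block F al 89728 89856 18 :=
  block_of_check (k := 7) rfl (by decide +kernel)

theorem b702 : Block F al 89856 89984 31 :=
  block_of_check (k := 7) rfl (by decide +kernel)

theorem b703 : Block F al 89984 90112 29 :=
  block_of_check (k := 7) rfl (by decide +kernel)

theorem b704 : Block F al 90112 90240 9 :=
  block_of_check (k := 7) rfl (by decide +kernel)

theorem b705 : Block F al 90240 90368 7 :=
  block_of_check (k := 7) rfl (by decide +kernel)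

theorem b706 : Block F al 90368 90496 2 :=
  block_of_check (k := 7) rfl (by decide +kernel)

theorem b707 : Block F al 90496 90624 3 :=
  block_of_check (k := 7) rfl (by decide +kernel)

theorem b708 : Block F al 90624 90752 108 :=
  block_of_check (k := 7) rfl (by decide +kernel)

theorem b709 : Block F al 90752 90880 79 :=
  block_of_check (k := 7) rfl (by decide +kernel)

theorem b710 : Block F al 90880 91008 93 :=
  block_of_check (k := 7) rfl (by decide +kernel)

theorem b711 : Block F al 91008 91136 99 :=
  block_of_check (k := 7) rfl (by decide +kernel)

theorem b712 : Block F al 91136 91264 55 :=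
  block_of_check (k := 7) rfl (by decide +kernel)

theorem b713 : Block F al 91264 91392 20 :=
  block_of_check (k := 7) rfl (by decide +kernel)

theorem b714 : Block F al 91392 91520 44 :=
  block_of_check (k := 7) rfl (by decide +kernel)

theorem b715 : Block F al 91520 91648 96 :=
  block_of_check (k := 7) rfl (by decide +kernel)

theorem b716 : Block F al 91648 91776 45 :=
  block_of_check (k := 7) rfl (by decide +kernel)

theorem b717 : Block F al 91776 91904 68 :=
  block_of_check (k := 7) rfl (by decide +kernel)

theorem b718 : Block F al 91904 92032 50 :=
  block_of_check (k := 7) rfl (by decide +kernel)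

theorem b719 : Block F al 92032 92160 34 :=
  block_of_check (k := 7) rfl (by decide +kernel)

theorem b720 : Block F al 92160 92288 24 :=
  block_of_check (k := 7) rfl (by decide +kernel)

theorem b721 : Block F al 92288 92416 0 :=
  block_of_check (k := 7) rfl (by decide +kernel)

theorem b722 : Block F al 92416 92544 0 :=
  block_of_check (k := 7) rfl (by decide +kernel)

theorem b723 : Block F al 92544 92672 0 :=
  block_of_check (k := 7) rfl (by decide +kernel)

theorem b724 : Block F al 92672 92800 6 :=
  block_of_check (k := 7) rfl (by decide +kernel)

theorem b725 : Block F al 92800 92928 5 :=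
  block_of_check (k := 7) rfl (by decide +kernel)

theorem b726 : Block F al 92928 93056 18 :=
  block_of_check (k := 7) rfl (by decide +kernel)

theorem b727 : Block F al 93056 93184 5 :=
  block_of_check (k := 7) rfl (by decide +kernel)

theorem b728 : Block F al 93184 93312 11 :=
  block_of_check (k := 7) rfl (by decide +kernel)

theorem b729 : Block F al 93312 93440 14 :=
  block_of_check (k := 7) rfl (by decide +kernel)

theorem b730 : Block F al 93440 93568 54 :=
  block_of_check (k := 7) rfl (by decide +kernel)

theorem b731 : Block F al 93568 93696 102 :=
  block_of_check (k := 7) rfl (by decide +kernel)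

theorem b732 : Block F al 93696 93824 120 :=
  block_of_check (k := 7) rfl (by decide +kernel)

theorem b733 : Block F al 93824 93952 73 :=
  block_of_check (k := 7) rfl (by decide +kernel)

theorem b734 : Block F al 93952 94080 73 :=
  block_of_check (k := 7) rfl (by decide +kernel)

end Cfsg.Agent.TcData.Fi24.I306936
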