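import Mathlib
import Cfsg.Agent.TcData.Fi24.I306936.Tab

set_option autoImplicit false
set_option Elab.async false
set_option maxRecDepth 100000
set_option linter.all false

namespace Cfsg.Agent.TcData.Fi24.I306936

open Cfsg.Spor Cfsg.Agent.Lib.TcFacts Cfsg.Agent.Lib.TcBits Cfsg.Agent.Lib.TcPres Cfsg.Spor.Fi24 Cfsg.Agent.TcData.Fi24

theorem b1456 : Block F al 186368 186496 128 :=
  block_of_check (k := 7) rfl (by decide +kernel)

theorem b1457 : Block F al 186496 186624 128 :=
  block_of_check (k := 7) rfl (by decide +kernel)

theorem b1458 : Block F al 186624 186752 128 :=
  block_of_check (k := 7) rfl (by decide +kernel)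

theorem b1459 : Block F al 186752 186880 128 :=
  block_of_check (k := 7) rfl (by decide +kernel)

theorem b1460 : Block F al 186880 187008 128 :=
  block_of_check (k := 7) rfl (by decide +kernel)

theorem b1461 : Block F al 187008 187136 128 :=
  block_of_check (k := 7) rfl (by decide +kernel)

theorem b1462 : Block F al 187136 187264 128 :=
  block_of_check (k := 7) rfl (by decide +kernel)

theorem b1463 : Block F al 187264 187392 128 :=
  block_of_check (k := 7) rfl (by decide +kernel)

theorem b1464 : Block F al 187392 187520 128 :=
  block_of_check (k := 7) rfl (by decide +kernel)

theorem b1465 : Block F al 187520 187648 128 :=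
  block_of_check (k := 7) rfl (by decide +kernel)

theorem b1466 : Block F al 187648 187776 128 :=
  block_of_check (k := 7) rfl (by decide +kernel)

theorem b1467 : Block F al 187776 187904 128 :=
  block_of_check (k := 7) rfl (by decide +kernel)

theorem b1468 : Block F al 187904 188032 128 :=
  block_of_check (k := 7) rfl (by decide +kernel)

theorem b1469 : Block F al 188032 188160 128 :=
  block_of_check (k := 7) rfl (by decide +kernel)

theorem b1470 : Block F al 188160 188288 128 :=
  block_of_check (k := 7) rfl (by decide +kernel)

theorem b1471 : Block F al 188288 188416 128 :=
  block_of_check (k := 7) rfl (by decide +kernel)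

theorem b1472 : Block F al 188416 188544 128 :=
  block_of_check (k := 7) rfl (by decide +kernel)

theorem b1473 : Block F al 188544 188672 128 :=
  block_of_check (k := 7) rfl (by decide +kernel)

theorem b1474 : Block F al 188672 188800 128 :=
  block_of_check (k := 7) rfl (by decide +kernel)

theorem b1475 : Block F al 188800 188928 128 :=
  block_of_check (k := 7) rfl (by decide +kernel)

theorem b1476 : Block F al 188928 189056 128 :=
  block_of_check (k := 7) rfl (by decide +kernel)

theorem b1477 : Block F al 189056 189184 128 :=
  block_of_check (k := 7) rfl (by decide +kernel)

theorem b1478 : Block F al 189184 189312 128 :=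
  block_of_check (k := 7) rfl (by decide +kernel)

theorem b1479 : Block F al 189312 189440 128 :=
  block_of_check (k := 7) rfl (by decide +kernel)

theorem b1480 : Block F al 189440 189568 128 :=
  block_of_check (k := 7) rfl (by decide +kernel)

theorem b1481 : Block F al 189568 189696 128 :=
  block_of_check (k := 7) rfl (by decide +kernel)

theorem b1482 : Block F al 189696 189824 128 :=
  block_of_check (k := 7) rfl (by decide +kernel)

theorem b1483 : Block F al 189824 189952 128 :=
  block_of_check (k := 7) rfl (by decide +kernel)

theorem b1484 : Block F al 189952 190080 128 :=
  block_of_check (k := 7) rfl (by decide +kernel)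

theorem b1485 : Block F al 190080 190208 128 :=
  block_of_check (k := 7) rfl (by decide +kernel)

theorem b1486 : Block F al 190208 190336 128 :=
  block_of_check (k := 7) rfl (by decide +kernel)

theorem b1487 : Block F al 190336 190464 128 :=
  block_of_check (k := 7) rfl (by decide +kernel)

theorem b1488 : Block F al 190464 190592 128 :=
  block_of_check (k := 7) rfl (by decide +kernel)

theorem b1489 : Block F al 190592 190720 128 :=
  block_of_check (k := 7) rfl (by decide +kernel)

theorem b1490 : Block F al 190720 190848 128 :=
  block_of_check (k := 7) rfl (by decide +kernel)

theorem b1491 : Block F al 190848 190976 128 :=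
  block_of_check (k := 7) rfl (by decide +kernel)

theorem b1492 : Block F al 190976 191104 128 :=
  block_of_check (k := 7) rfl (by decide +kernel)

theorem b1493 : Block F al 191104 191232 128 :=
  block_of_check (k := 7) rfl (by decide +kernel)

theorem b1494 : Block F al 191232 191360 128 :=
  block_of_check (k := 7) rfl (by decide +kernel)

theorem b1495 : Block F al 191360 191488 128 :=
  block_of_check (k := 7) rfl (by decide +kernel)

theorem b1496 : Block F al 191488 191616 128 :=
  block_of_check (k := 7) rfl (by decide +kernel)

theorem b1497 : Block F al 191616 191744 128 :=
  block_of_check (k := 7) rfl (by decide +kernel)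

theorem b1498 : Block F al 191744 191872 128 :=
  block_of_check (k := 7) rfl (by decide +kernel)

theorem b1499 : Block F al 191872 192000 128 :=
  block_of_check (k := 7) rfl (by decide +kernel)

theorem b1500 : Block F al 192000 192128 128 :=
  block_of_check (k := 7) rfl (by decide +kernel)

theorem b1501 : Block F al 192128 192256 128 :=
  block_of_check (k := 7) rfl (by decide +kernel)

theorem b1502 : Block F al 192256 192384 128 :=
  block_of_check (k := 7) rfl (by decide +kernel)

end Cfsg.Agent.TcData.Fi24.I306936
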