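import Mathlib
import Cfsg.Agent.TcData.Fi24.I306936.Tab

set_option autoImplicit false
set_option Elab.async false
set_option maxRecDepth 100000
set_option linter.all false

namespace Cfsg.Agent.TcData.Fi24.I306936

open Cfsg.Spor Cfsg.Agent.Lib.TcFacts Cfsg.Agent.Lib.TcBits Cfsg.Agent.Lib.TcPres Cfsg.Spor.Fi24 Cfsg.Agent.TcData.Fi24

theorem b2035 : Block F al 260480 260608 128 :=
  block_of_check (k := 7) rfl (by decide +kernel)

theorem b2036 : Block F al 260608 260736 128 :=
  block_of_check (k := 7) rfl (by decide +kernel)

theorem b2037 : Block F al 260736 260864 128 :=
  block_of_check (k := 7) rfl (by decide +kernel)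

theorem b2038 : Block F al 260864 260992 128 :=
  block_of_check (k := 7) rfl (by decide +kernel)

theorem b2039 : Block F al 260992 261120 128 :=
  block_of_check (k := 7) rfl (by decide +kernel)

theorem b2040 : Block F al 261120 261248 128 :=
  block_of_check (k := 7) rfl (by decide +kernel)

theorem b2041 : Block F al 261248 261376 128 :=
  block_of_check (k := 7) rfl (by decide +kernel)

theorem b2042 : Block F al 261376 261504 128 :=
  block_of_check (k := 7) rfl (by decide +kernel)

theorem b2043 : Block F al 261504 261632 128 :=
  block_of_check (k := 7) rfl (by decide +kernel)

theorem b2044 : Block F al 261632 261760 128 :=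
  block_of_check (k := 7) rfl (by decide +kernel)

theorem b2045 : Block F al 261760 261888 128 :=
  block_of_check (k := 7) rfl (by decide +kernel)

theorem b2046 : Block F al 261888 262016 128 :=
  block_of_check (k := 7) rfl (by decide +kernel)

theorem b2047 : Block F al 262016 262144 128 :=
  block_of_check (k := 7) rfl (by decide +kernel)

theorem b2048 : Block F al 262144 262272 128 :=
  block_of_check (k := 7) rfl (by decide +kernel)

theorem b2049 : Block F al 262272 262400 128 :=
  block_of_check (k := 7) rfl (by decide +kernel)

theorem b2050 : Block F al 262400 262528 128 :=
  block_of_check (k := 7) rfl (by decide +kernel)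

theorem b2051 : Block F al 262528 262656 128 :=
  block_of_check (k := 7) rfl (by decide +kernel)

theorem b2052 : Block F al 262656 262784 128 :=
  block_of_check (k := 7) rfl (by decide +kernel)

theorem b2053 : Block F al 262784 262912 128 :=
  block_of_check (k := 7) rfl (by decide +kernel)

theorem b2054 : Block F al 262912 263040 128 :=
  block_of_check (k := 7) rfl (by decide +kernel)

theorem b2055 : Block F al 263040 263168 128 :=
  block_of_check (k := 7) rfl (by decide +kernel)

theorem b2056 : Block F al 263168 263296 128 :=
  block_of_check (k := 7) rfl (by decide +kernel)

theorem b2057 : Block F al 263296 263424 128 :=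
  block_of_check (k := 7) rfl (by decide +kernel)

theorem b2058 : Block F al 263424 263552 128 :=
  block_of_check (k := 7) rfl (by decide +kernel)

theorem b2059 : Block F al 263552 263680 128 :=
  block_of_check (k := 7) rfl (by decide +kernel)

theorem b2060 : Block F al 263680 263808 128 :=
  block_of_check (k := 7) rfl (by decide +kernel)

theorem b2061 : Block F al 263808 263936 128 :=
  block_of_check (k := 7) rfl (by decide +kernel)

theorem b2062 : Block F al 263936 264064 128 :=
  block_of_check (k := 7) rfl (by decide +kernel)

theorem b2063 : Block F al 264064 264192 128 :=
  block_of_check (k := 7) rfl (by decide +kernel)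

theorem b2064 : Block F al 264192 264320 128 :=
  block_of_check (k := 7) rfl (by decide +kernel)

theorem b2065 : Block F al 264320 264448 128 :=
  block_of_check (k := 7) rfl (by decide +kernel)

theorem b2066 : Block F al 264448 264576 128 :=
  block_of_check (k := 7) rfl (by decide +kernel)

theorem b2067 : Block F al 264576 264704 128 :=
  block_of_check (k := 7) rfl (by decide +kernel)

theorem b2068 : Block F al 264704 264832 128 :=
  block_of_check (k := 7) rfl (by decide +kernel)

theorem b2069 : Block F al 264832 264960 128 :=
  block_of_check (k := 7) rfl (by decide +kernel)

theorem b2070 : Block F al 264960 265088 128 :=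
  block_of_check (k := 7) rfl (by decide +kernel)

theorem b2071 : Block F al 265088 265216 128 :=
  block_of_check (k := 7) rfl (by decide +kernel)

theorem b2072 : Block F al 265216 265344 128 :=
  block_of_check (k := 7) rfl (by decide +kernel)

theorem b2073 : Block F al 265344 265472 128 :=
  block_of_check (k := 7) rfl (by decide +kernel)

theorem b2074 : Block F al 265472 265600 128 :=
  block_of_check (k := 7) rfl (by decide +kernel)

theorem b2075 : Block F al 265600 265728 128 :=
  block_of_check (k := 7) rfl (by decide +kernel)

theorem b2076 : Block F al 265728 265856 128 :=
  block_of_check (k := 7) rfl (by decide +kernel)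

theorem b2077 : Block F al 265856 265984 128 :=
  block_of_check (k := 7) rfl (by decide +kernel)

theorem b2078 : Block F al 265984 266112 128 :=
  block_of_check (k := 7) rfl (by decide +kernel)

theorem b2079 : Block F al 266112 266240 128 :=
  block_of_check (k := 7) rfl (by decide +kernel)

theorem b2080 : Block F al 266240 266368 128 :=
  block_of_check (k := 7) rfl (by decide +kernel)

theorem b2081 : Block F al 266368 266496 128 :=
  block_of_check (k := 7) rfl (by decide +kernel)

theorem b2082 : Block F al 266496 266624 128 :=
  block_of_check (k := 7) rfl (by decide +kernel)

theorem b2083 : Block F al 266624 266752 128 :=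
  block_of_check (k := 7) rfl (by decide +kernel)

theorem b2084 : Block F al 266752 266880 128 :=
  block_of_check (k := 7) rfl (by decide +kernel)

end Cfsg.Agent.TcData.Fi24.I306936
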