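import Mathlib
import Cfsg.Agent.TcData.Fi24.I306936.Tab

set_option autoImplicit false
set_option Elab.async false
set_option maxRecDepth 100000
set_option linter.all false

namespace Cfsg.Agent.TcData.Fi24.I306936

open Cfsg.Spor Cfsg.Agent.Lib.TcFacts Cfsg.Agent.Lib.TcBits Cfsg.Agent.Lib.TcPres Cfsg.Spor.Fi24 Cfsg.Agent.TcData.Fi24

theorem b2593 : Block F al 331904 332032 128 :=
  block_of_check (k := 7) rfl (by decide +kernel)

theorem b2594 : Block F al 332032 332160 128 :=
  block_of_check (k := 7) rfl (by decide +kernel)

theorem b2595 : Block F al 332160 332288 128 :=
  block_of_check (k := 7) rfl (by decide +kernel)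

theorem b2596 : Block F al 332288 332416 128 :=
  block_of_check (k := 7) rfl (by decide +kernel)

theorem b2597 : Block F al 332416 332544 128 :=
  block_of_check (k := 7) rfl (by decide +kernel)

theorem b2598 : Block F al 332544 332672 128 :=
  block_of_check (k := 7) rfl (by decide +kernel)

theorem b2599 : Block F al 332672 332800 128 :=
  block_of_check (k := 7) rfl (by decide +kernel)

theorem b2600 : Block F al 332800 332928 128 :=
  block_of_check (k := 7) rfl (by decide +kernel)

theorem b2601 : Block F al 332928 333056 128 :=
  block_of_check (k := 7) rfl (by decide +kernel)

theorem b2602 : Block F al 333056 333184 128 :=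
  block_of_check (k := 7) rfl (by decide +kernel)

theorem b2603 : Block F al 333184 333312 128 :=
  block_of_check (k := 7) rfl (by decide +kernel)

theorem b2604 : Block F al 333312 333440 128 :=
  block_of_check (k := 7) rfl (by decide +kernel)

theorem b2605 : Block F al 333440 333568 128 :=
  block_of_check (k := 7) rfl (by decide +kernel)

theorem b2606 : Block F al 333568 333696 128 :=
  block_of_check (k := 7) rfl (by decide +kernel)

theorem b2607 : Block F al 333696 333824 128 :=
  block_of_check (k := 7) rfl (by decide +kernel)

theorem b2608 : Block F al 333824 333952 128 :=
  block_of_check (k := 7) rfl (by decide +kernel)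

theorem b2609 : Block F al 333952 334080 128 :=
  block_of_check (k := 7) rfl (by decide +kernel)

theorem b2610 : Block F al 334080 334208 128 :=
  block_of_check (k := 7) rfl (by decide +kernel)

theorem b2611 : Block F al 334208 334336 128 :=
  block_of_check (k := 7) rfl (by decide +kernel)

theorem b2612 : Block F al 334336 334464 128 :=
  block_of_check (k := 7) rfl (by decide +kernel)

theorem b2613 : Block F al 334464 334592 128 :=
  block_of_check (k := 7) rfl (by decide +kernel)

theorem b2614 : Block F al 334592 334720 128 :=
  block_of_check (k := 7) rfl (by decide +kernel)

theorem b2615 : Block F al 334720 334848 128 :=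
  block_of_check (k := 7) rfl (by decide +kernel)

theorem b2616 : Block F al 334848 334976 128 :=
  block_of_check (k := 7) rfl (by decide +kernel)

theorem b2617 : Block F al 334976 335104 128 :=
  block_of_check (k := 7) rfl (by decide +kernel)

theorem b2618 : Block F al 335104 335232 128 :=
  block_of_check (k := 7) rfl (by decide +kernel)

theorem b2619 : Block F al 335232 335360 128 :=
  block_of_check (k := 7) rfl (by decide +kernel)

theorem b2620 : Block F al 335360 335488 128 :=
  block_of_check (k := 7) rfl (by decide +kernel)

theorem b2621 : Block F al 335488 335616 128 :=
  block_of_check (k := 7) rfl (by decide +kernel)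

theorem b2622 : Block F al 335616 335744 128 :=
  block_of_check (k := 7) rfl (by decide +kernel)

theorem b2623 : Block F al 335744 335872 128 :=
  block_of_check (k := 7) rfl (by decide +kernel)

theorem b2624 : Block F al 335872 336000 128 :=
  block_of_check (k := 7) rfl (by decide +kernel)

theorem b2625 : Block F al 336000 336128 128 :=
  block_of_check (k := 7) rfl (by decide +kernel)

theorem b2626 : Block F al 336128 336256 128 :=
  block_of_check (k := 7) rfl (by decide +kernel)

theorem b2627 : Block F al 336256 336384 128 :=
  block_of_check (k := 7) rfl (by decide +kernel)

theorem b2628 : Block F al 336384 336512 128 :=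
  block_of_check (k := 7) rfl (by decide +kernel)

theorem b2629 : Block F al 336512 336640 128 :=
  block_of_check (k := 7) rfl (by decide +kernel)

theorem b2630 : Block F al 336640 336768 128 :=
  block_of_check (k := 7) rfl (by decide +kernel)

theorem b2631 : Block F al 336768 336896 128 :=
  block_of_check (k := 7) rfl (by decide +kernel)

theorem b2632 : Block F al 336896 337024 128 :=
  block_of_check (k := 7) rfl (by decide +kernel)

theorem b2633 : Block F al 337024 337152 128 :=
  block_of_check (k := 7) rfl (by decide +kernel)

theorem b2634 : Block F al 337152 337280 128 :=
  block_of_check (k := 7) rfl (by decide +kernel)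

end Cfsg.Agent.TcData.Fi24.I306936
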