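import Mathlib
import Cfsg.Agent.TcData.Fi24.I306936.Rep0

set_option autoImplicit false
set_option Elab.async false
set_option maxRecDepth 100000
set_option linter.all false

namespace Cfsg.Agent.TcData.Fi24.I306936

open Cfsg.Spor Cfsg.Agent.Lib.TcFacts Cfsg.Agent.Lib.TcBits Cfsg.Agent.Lib.TcPres Cfsg.Spor.Fi24 Cfsg.Agent.TcData.Fi24

theorem c_l_l : ∀ j, j < 19 → chkW ((FreeGroup.of Gen.l * FreeGroup.of Gen.l) ^ coxLabel edges Gen.l Gen.l) j = true := by decide +kernel

theorem c_l_k : ∀ j, j < 19 → chkW ((FreeGroup.of Gen.l * FreeGroup.of Gen.k) ^ coxLabel edges Gen.l Gen.k) j = true := by decide +kernel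

theorem c_l_a : ∀ j, j < 19 → chkW ((FreeGroup.of Gen.l * FreeGroup.of Gen.a) ^ coxLabel edges Gen.l Gen.a) j = true := by decide +kernel

theorem c_l_b : ∀ j, j < 19 → chkW ((FreeGroup.of Gen.l * FreeGroup.of Gen.b) ^ coxLabel edges Gen.l Gen.b) j = true := by decide +kernel

theorem c_l_c : ∀ j, j < 19 → chkW ((FreeGroup.of Gen.l * FreeGroup.of Gen.c) ^ coxLabel edges Gen.l Gen.c) j = true := by decide +kernel

theorem c_l_d : ∀ j, j < 19 → chkW ((FreeGroup.of Gen.l * FreeGroup.of Gen.d) ^ coxLabel edges Gen.l Gen.d) j = true := by decide +kernel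

theorem c_l_e : ∀ j, j < 19 → chkW ((FreeGroup.of Gen.l * FreeGroup.of Gen.e) ^ coxLabel edges Gen.l Gen.e) j = true := by decide +kernel

theorem c_l_f : ∀ j, j < 19 → chkW ((FreeGroup.of Gen.l * FreeGroup.of Gen.f) ^ coxLabel edges Gen.l Gen.f) j = true := by decide +kernel

theorem c_l_g : ∀ j, j < 19 → chkW ((FreeGroup.of Gen.l * FreeGroup.of Gen.g) ^ coxLabel edges Gen.l Gen.g) j = true := by decide +kernel

theorem c_l_j : ∀ j, j < 19 → chkW ((FreeGroup.of Gen.l * FreeGroup.of Gen.j) ^ coxLabel edges Gen.l Gen.j) j = true := by decide +kernel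

theorem c_l_h : ∀ j, j < 19 → chkW ((FreeGroup.of Gen.l * FreeGroup.of Gen.h) ^ coxLabel edges Gen.l Gen.h) j = true := by decide +kernel

theorem c_l_i : ∀ j, j < 19 → chkW ((FreeGroup.of Gen.l * FreeGroup.of Gen.i) ^ coxLabel edges Gen.l Gen.i) j = true := by decide +kernel

theorem c_k_l : ∀ j, j < 19 → chkW ((FreeGroup.of Gen.k * FreeGroup.of Gen.l) ^ coxLabel edges Gen.k Gen.l) j = true := by decide +kernel

theorem c_k_k : ∀ j, j < 19 → chkW ((FreeGroup.of Gen.k * FreeGroup.of Gen.k) ^ coxLabel edges Gen.k Gen.k) j = true := by decide +kernel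

theorem c_k_a : ∀ j, j < 19 → chkW ((FreeGroup.of Gen.k * FreeGroup.of Gen.a) ^ coxLabel edges Gen.k Gen.a) j = true := by decide +kernel

theorem c_k_b : ∀ j, j < 19 → chkW ((FreeGroup.of Gen.k * FreeGroup.of Gen.b) ^ coxLabel edges Gen.k Gen.b) j = true := by decide +kernel

theorem c_k_c : ∀ j, j < 19 → chkW ((FreeGroup.of Gen.k * FreeGroup.of Gen.c) ^ coxLabel edges Gen.k Gen.c) j = true := by decide +kernel

theorem c_k_d : ∀ j, j < 19 → chkW ((FreeGroup.of Gen.k * FreeGroup.of Gen.d) ^ coxLabel edges Gen.k Gen.d) j = true := by decide +kernel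

theorem c_k_e : ∀ j, j < 19 → chkW ((FreeGroup.of Gen.k * FreeGroup.of Gen.e) ^ coxLabel edges Gen.k Gen.e) j = true := by decide +kernel

theorem c_k_f : ∀ j, j < 19 → chkW ((FreeGroup.of Gen.k * FreeGroup.of Gen.f) ^ coxLabel edges Gen.k Gen.f) j = true := by decide +kernel

theorem c_k_g : ∀ j, j < 19 → chkW ((FreeGroup.of Gen.k * FreeGroup.of Gen.g) ^ coxLabel edges Gen.k Gen.g) j = true := by decide +kernel

theorem c_k_j : ∀ j, j < 19 → chkW ((FreeGroup.of Gen.k * FreeGroup.of Gen.j) ^ coxLabel edges Gen.k Gen.j) j = true := by decide +kernel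

theorem c_k_h : ∀ j, j < 19 → chkW ((FreeGroup.of Gen.k * FreeGroup.of Gen.h) ^ coxLabel edges Gen.k Gen.h) j = true := by decide +kernel

theorem c_k_i : ∀ j, j < 19 → chkW ((FreeGroup.of Gen.k * FreeGroup.of Gen.i) ^ coxLabel edges Gen.k Gen.i) j = true := by decide +kernel

theorem c_a_l : ∀ j, j < 19 → chkW ((FreeGroup.of Gen.a * FreeGroup.of Gen.l) ^ coxLabel edges Gen.a Gen.l) j = true := by decide +kernel

theorem c_a_k : ∀ j, j < 19 → chkW ((FreeGroup.of Gen.a * FreeGroup.of Gen.k) ^ coxLabel edges Gen.a Gen.k) j = true := by decide +kernel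

theorem c_a_a : ∀ j, j < 19 → chkW ((FreeGroup.of Gen.a * FreeGroup.of Gen.a) ^ coxLabel edges Gen.a Gen.a) j = true := by decide +kernel

theorem c_a_b : ∀ j, j < 19 → chkW ((FreeGroup.of Gen.a * FreeGroup.of Gen.b) ^ coxLabel edges Gen.a Gen.b) j = true := by decide +kernel

theorem c_a_c : ∀ j, j < 19 → chkW ((FreeGroup.of Gen.a * FreeGroup.of Gen.c) ^ coxLabel edges Gen.a Gen.c) j = true := by decide +kernel

theorem c_a_d : ∀ j, j < 19 → chkW ((FreeGroup.of Gen.a * FreeGroup.of Gen.d) ^ coxLabel edges Gen.a Gen.d) j = true := by decide +kernel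

theorem c_a_e : ∀ j, j < 19 → chkW ((FreeGroup.of Gen.a * FreeGroup.of Gen.e) ^ coxLabel edges Gen.a Gen.e) j = true := by decide +kernel

theorem c_a_f : ∀ j, j < 19 → chkW ((FreeGroup.of Gen.a * FreeGroup.of Gen.f) ^ coxLabel edges Gen.a Gen.f) j = true := by decide +kernel

theorem c_a_g : ∀ j, j < 19 → chkW ((FreeGroup.of Gen.a * FreeGroup.of Gen.g) ^ coxLabel edges Gen.a Gen.g) j = true := by decide +kernel

theorem c_a_j : ∀ j, j < 19 → chkW ((FreeGroup.of Gen.a * FreeGroup.of Gen.j) ^ coxLabel edges Gen.a Gen.j) j = true := by decide +kernel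

theorem c_a_h : ∀ j, j < 19 → chkW ((FreeGroup.of Gen.a * FreeGroup.of Gen.h) ^ coxLabel edges Gen.a Gen.h) j = true := by decide +kernel

theorem c_a_i : ∀ j, j < 19 → chkW ((FreeGroup.of Gen.a * FreeGroup.of Gen.i) ^ coxLabel edges Gen.a Gen.i) j = true := by decide +kernel

theorem c_b_l : ∀ j, j < 19 → chkW ((FreeGroup.of Gen.b * FreeGroup.of Gen.l) ^ coxLabel edges Gen.b Gen.l) j = true := by decide +kernel

theorem c_b_k : ∀ j, j < 19 → chkW ((FreeGroup.of Gen.b * FreeGroup.of Gen.k) ^ coxLabel edges Gen.b Gen.k) j = true := by decide +kernel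

theorem c_b_a : ∀ j, j < 19 → chkW ((FreeGroup.of Gen.b * FreeGroup.of Gen.a) ^ coxLabel edges Gen.b Gen.a) j = true := by decide +kernel

theorem c_b_b : ∀ j, j < 19 → chkW ((FreeGroup.of Gen.b * FreeGroup.of Gen.b) ^ coxLabel edges Gen.b Gen.b) j = true := by decide +kernel

theorem c_b_c : ∀ j, j < 19 → chkW ((FreeGroup.of Gen.b * FreeGroup.of Gen.c) ^ coxLabel edges Gen.b Gen.c) j = true := by decide +kernel

theorem c_b_d : ∀ j, j < 19 → chkW ((FreeGroup.of Gen.b * FreeGroup.of Gen.d) ^ coxLabel edges Gen.b Gen.d) j = true := by decide +kernel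

theorem c_b_e : ∀ j, j < 19 → chkW ((FreeGroup.of Gen.b * FreeGroup.of Gen.e) ^ coxLabel edges Gen.b Gen.e) j = true := by decide +kernel

theorem c_b_f : ∀ j, j < 19 → chkW ((FreeGroup.of Gen.b * FreeGroup.of Gen.f) ^ coxLabel edges Gen.b Gen.f) j = true := by decide +kernel

theorem c_b_g : ∀ j, j < 19 → chkW ((FreeGroup.of Gen.b * FreeGroup.of Gen.g) ^ coxLabel edges Gen.b Gen.g) j = true := by decide +kernel

theorem c_b_j : ∀ j, j < 19 → chkW ((FreeGroup.of Gen.b * FreeGroup.of Gen.j) ^ coxLabel edges Gen.b Gen.j) j = true := by decide +kernel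

theorem c_b_h : ∀ j, j < 19 → chkW ((FreeGroup.of Gen.b * FreeGroup.of Gen.h) ^ coxLabel edges Gen.b Gen.h) j = true := by decide +kernel

theorem c_b_i : ∀ j, j < 19 → chkW ((FreeGroup.of Gen.b * FreeGroup.of Gen.i) ^ coxLabel edges Gen.b Gen.i) j = true := by decide +kernel

theorem c_c_l : ∀ j, j < 19 → chkW ((FreeGroup.of Gen.c * FreeGroup.of Gen.l) ^ coxLabel edges Gen.c Gen.l) j = true := by decide +kernel

theorem c_c_k : ∀ j, j < 19 → chkW ((FreeGroup.of Gen.c * FreeGroup.of Gen.k) ^ coxLabel edges Gen.c Gen.k) j = true := by decide +kernel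

theorem c_c_a : ∀ j, j < 19 → chkW ((FreeGroup.of Gen.c * FreeGroup.of Gen.a) ^ coxLabel edges Gen.c Gen.a) j = true := by decide +kernel

theorem c_c_b : ∀ j, j < 19 → chkW ((FreeGroup.of Gen.c * FreeGroup.of Gen.b) ^ coxLabel edges Gen.c Gen.b) j = true := by decide +kernel

theorem c_c_c : ∀ j, j < 19 → chkW ((FreeGroup.of Gen.c * FreeGroup.of Gen.c) ^ coxLabel edges Gen.c Gen.c) j = true := by decide +kernel

theorem c_c_d : ∀ j, j < 19 → chkW ((FreeGroup.of Gen.c * FreeGroup.of Gen.d) ^ coxLabel edges Gen.c Gen.d) j = true := by decide +kernel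

theorem c_c_e : ∀ j, j < 19 → chkW ((FreeGroup.of Gen.c * FreeGroup.of Gen.e) ^ coxLabel edges Gen.c Gen.e) j = true := by decide +kernel

theorem c_c_f : ∀ j, j < 19 → chkW ((FreeGroup.of Gen.c * FreeGroup.of Gen.f) ^ coxLabel edges Gen.c Gen.f) j = true := by decide +kernel

theorem c_c_g : ∀ j, j < 19 → chkW ((FreeGroup.of Gen.c * FreeGroup.of Gen.g) ^ coxLabel edges Gen.c Gen.g) j = true := by decide +kernel

theorem c_c_j : ∀ j, j < 19 → chkW ((FreeGroup.of Gen.c * FreeGroup.of Gen.j) ^ coxLabel edges Gen.c Gen.j) j = true := by decide +kernel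

theorem c_c_h : ∀ j, j < 19 → chkW ((FreeGroup.of Gen.c * FreeGroup.of Gen.h) ^ coxLabel edges Gen.c Gen.h) j = true := by decide +kernel

theorem c_c_i : ∀ j, j < 19 → chkW ((FreeGroup.of Gen.c * FreeGroup.of Gen.i) ^ coxLabel edges Gen.c Gen.i) j = true := by decide +kernel

theorem c_d_l : ∀ j, j < 19 → chkW ((FreeGroup.of Gen.d * FreeGroup.of Gen.l) ^ coxLabel edges Gen.d Gen.l) j = true := by decide +kernel

theorem c_d_k : ∀ j, j < 19 → chkW ((FreeGroup.of Gen.d * FreeGroup.of Gen.k) ^ coxLabel edges Gen.d Gen.k) j = true := by decide +kernel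

theorem c_d_a : ∀ j, j < 19 → chkW ((FreeGroup.of Gen.d * FreeGroup.of Gen.a) ^ coxLabel edges Gen.d Gen.a) j = true := by decide +kernel

theorem c_d_b : ∀ j, j < 19 → chkW ((FreeGroup.of Gen.d * FreeGroup.of Gen.b) ^ coxLabel edges Gen.d Gen.b) j = true := by decide +kernel

theorem c_d_c : ∀ j, j < 19 → chkW ((FreeGroup.of Gen.d * FreeGroup.of Gen.c) ^ coxLabel edges Gen.d Gen.c) j = true := by decide +kernel

theorem c_d_d : ∀ j, j < 19 → chkW ((FreeGroup.of Gen.d * FreeGroup.of Gen.d) ^ coxLabel edges Gen.d Gen.d) j = true := by decide +kernel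

theorem c_d_e : ∀ j, j < 19 → chkW ((FreeGroup.of Gen.d * FreeGroup.of Gen.e) ^ coxLabel edges Gen.d Gen.e) j = true := by decide +kernel

theorem c_d_f : ∀ j, j < 19 → chkW ((FreeGroup.of Gen.d * FreeGroup.of Gen.f) ^ coxLabel edges Gen.d Gen.f) j = true := by decide +kernel

theorem c_d_g : ∀ j, j < 19 → chkW ((FreeGroup.of Gen.d * FreeGroup.of Gen.g) ^ coxLabel edges Gen.d Gen.g) j = true := by decide +kernel

theorem c_d_j : ∀ j, j < 19 → chkW ((FreeGroup.of Gen.d * FreeGroup.of Gen.j) ^ coxLabel edges Gen.d Gen.j) j = true := by decide +kernel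

theorem c_d_h : ∀ j, j < 19 → chkW ((FreeGroup.of Gen.d * FreeGroup.of Gen.h) ^ coxLabel edges Gen.d Gen.h) j = true := by decide +kernel

theorem c_d_i : ∀ j, j < 19 → chkW ((FreeGroup.of Gen.d * FreeGroup.of Gen.i) ^ coxLabel edges Gen.d Gen.i) j = true := by decide +kernel

theorem c_e_l : ∀ j, j < 19 → chkW ((FreeGroup.of Gen.e * FreeGroup.of Gen.l) ^ coxLabel edges Gen.e Gen.l) j = true := by decide +kernel

theorem c_e_k : ∀ j, j < 19 → chkW ((FreeGroup.of Gen.e * FreeGroup.of Gen.k) ^ coxLabel edges Gen.e Gen.k) j = true := by decide +kernel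

theorem c_e_a : ∀ j, j < 19 → chkW ((FreeGroup.of Gen.e * FreeGroup.of Gen.a) ^ coxLabel edges Gen.e Gen.a) j = true := by decide +kernel

theorem c_e_b : ∀ j, j < 19 → chkW ((FreeGroup.of Gen.e * FreeGroup.of Gen.b) ^ coxLabel edges Gen.e Gen.b) j = true := by decide +kernel

theorem c_e_c : ∀ j, j < 19 → chkW ((FreeGroup.of Gen.e * FreeGroup.of Gen.c) ^ coxLabel edges Gen.e Gen.c) j = true := by decide +kernel

theorem c_e_d : ∀ j, j < 19 → chkW ((FreeGroup.of Gen.e * FreeGroup.of Gen.d) ^ coxLabel edges Gen.e Gen.d) j = true := by decide +kernel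

theorem c_e_e : ∀ j, j < 19 → chkW ((FreeGroup.of Gen.e * FreeGroup.of Gen.e) ^ coxLabel edges Gen.e Gen.e) j = true := by decide +kernel

theorem c_e_f : ∀ j, j < 19 → chkW ((FreeGroup.of Gen.e * FreeGroup.of Gen.f) ^ coxLabel edges Gen.e Gen.f) j = true := by decide +kernel

theorem c_e_g : ∀ j, j < 19 → chkW ((FreeGroup.of Gen.e * FreeGroup.of Gen.g) ^ coxLabel edges Gen.e Gen.g) j = true := by decide +kernel

theorem c_e_j : ∀ j, j < 19 → chkW ((FreeGroup.of Gen.e * FreeGroup.of Gen.j) ^ coxLabel edges Gen.e Gen.j) j = true := by decide +kernel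

theorem c_e_h : ∀ j, j < 19 → chkW ((FreeGroup.of Gen.e * FreeGroup.of Gen.h) ^ coxLabel edges Gen.e Gen.h) j = true := by decide +kernel

theorem c_e_i : ∀ j, j < 19 → chkW ((FreeGroup.of Gen.e * FreeGroup.of Gen.i) ^ coxLabel edges Gen.e Gen.i) j = true := by decide +kernel

theorem c_f_l : ∀ j, j < 19 → chkW ((FreeGroup.of Gen.f * FreeGroup.of Gen.l) ^ coxLabel edges Gen.f Gen.l) j = true := by decide +kernel

end Cfsg.Agent.TcData.Fi24.I306936
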