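import Mathlib
import Cfsg.Agent.TcData.Fi24.I306936.Rep0

set_option autoImplicit false
set_option Elab.async false
set_option maxRecDepth 100000
set_option linter.all false

namespace Cfsg.Agent.TcData.Fi24.I306936

open Cfsg.Spor Cfsg.Agent.Lib.TcFacts Cfsg.Agent.Lib.TcBits Cfsg.Agent.Lib.TcPres Cfsg.Spor.Fi24 Cfsg.Agent.TcData.Fi24

theorem c_f_k : ∀ j, j < 19 → chkW ((FreeGroup.of Gen.f * FreeGroup.of Gen.k) ^ coxLabel edges Gen.f Gen.k) j = true := by decide +kernel

theorem c_f_a : ∀ j, j < 19 → chkW ((FreeGroup.of Gen.f * FreeGroup.of Gen.a) ^ coxLabel edges Gen.f Gen.a) j = true := by decide +kernel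

theorem c_f_b : ∀ j, j < 19 → chkW ((FreeGroup.of Gen.f * FreeGroup.of Gen.b) ^ coxLabel edges Gen.f Gen.b) j = true := by decide +kernel

theorem c_f_c : ∀ j, j < 19 → chkW ((FreeGroup.of Gen.f * FreeGroup.of Gen.c) ^ coxLabel edges Gen.f Gen.c) j = true := by decide +kernel

theorem c_f_d : ∀ j, j < 19 → chkW ((FreeGroup.of Gen.f * FreeGroup.of Gen.d) ^ coxLabel edges Gen.f Gen.d) j = true := by decide +kernel

theorem c_f_e : ∀ j, j < 19 → chkW ((FreeGroup.of Gen.f * FreeGroup.of Gen.e) ^ coxLabel edges Gen.f Gen.e) j = true := by decide +kernel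

theorem c_f_f : ∀ j, j < 19 → chkW ((FreeGroup.of Gen.f * FreeGroup.of Gen.f) ^ coxLabel edges Gen.f Gen.f) j = true := by decide +kernel

theorem c_f_g : ∀ j, j < 19 → chkW ((FreeGroup.of Gen.f * FreeGroup.of Gen.g) ^ coxLabel edges Gen.f Gen.g) j = true := by decide +kernel

theorem c_f_j : ∀ j, j < 19 → chkW ((FreeGroup.of Gen.f * FreeGroup.of Gen.j) ^ coxLabel edges Gen.f Gen.j) j = true := by decide +kernel

theorem c_f_h : ∀ j, j < 19 → chkW ((FreeGroup.of Gen.f * FreeGroup.of Gen.h) ^ coxLabel edges Gen.f Gen.h) j = true := by decide +kernel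

theorem c_f_i : ∀ j, j < 19 → chkW ((FreeGroup.of Gen.f * FreeGroup.of Gen.i) ^ coxLabel edges Gen.f Gen.i) j = true := by decide +kernel

theorem c_g_l : ∀ j, j < 19 → chkW ((FreeGroup.of Gen.g * FreeGroup.of Gen.l) ^ coxLabel edges Gen.g Gen.l) j = true := by decide +kernel

theorem c_g_k : ∀ j, j < 19 → chkW ((FreeGroup.of Gen.g * FreeGroup.of Gen.k) ^ coxLabel edges Gen.g Gen.k) j = true := by decide +kernel

theorem c_g_a : ∀ j, j < 19 → chkW ((FreeGroup.of Gen.g * FreeGroup.of Gen.a) ^ coxLabel edges Gen.g Gen.a) j = true := by decide +kernel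

theorem c_g_b : ∀ j, j < 19 → chkW ((FreeGroup.of Gen.g * FreeGroup.of Gen.b) ^ coxLabel edges Gen.g Gen.b) j = true := by decide +kernel

theorem c_g_c : ∀ j, j < 19 → chkW ((FreeGroup.of Gen.g * FreeGroup.of Gen.c) ^ coxLabel edges Gen.g Gen.c) j = true := by decide +kernel

theorem c_g_d : ∀ j, j < 19 → chkW ((FreeGroup.of Gen.g * FreeGroup.of Gen.d) ^ coxLabel edges Gen.g Gen.d) j = true := by decide +kernel

theorem c_g_e : ∀ j, j < 19 → chkW ((FreeGroup.of Gen.g * FreeGroup.of Gen.e) ^ coxLabel edges Gen.g Gen.e) j = true := by decide +kernel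

theorem c_g_f : ∀ j, j < 19 → chkW ((FreeGroup.of Gen.g * FreeGroup.of Gen.f) ^ coxLabel edges Gen.g Gen.f) j = true := by decide +kernel

theorem c_g_g : ∀ j, j < 19 → chkW ((FreeGroup.of Gen.g * FreeGroup.of Gen.g) ^ coxLabel edges Gen.g Gen.g) j = true := by decide +kernel

theorem c_g_j : ∀ j, j < 19 → chkW ((FreeGroup.of Gen.g * FreeGroup.of Gen.j) ^ coxLabel edges Gen.g Gen.j) j = true := by decide +kernel

theorem c_g_h : ∀ j, j < 19 → chkW ((FreeGroup.of Gen.g * FreeGroup.of Gen.h) ^ coxLabel edges Gen.g Gen.h) j = true := by decide +kernel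

theorem c_g_i : ∀ j, j < 19 → chkW ((FreeGroup.of Gen.g * FreeGroup.of Gen.i) ^ coxLabel edges Gen.g Gen.i) j = true := by decide +kernel

theorem c_j_l : ∀ j, j < 19 → chkW ((FreeGroup.of Gen.j * FreeGroup.of Gen.l) ^ coxLabel edges Gen.j Gen.l) j = true := by decide +kernel

theorem c_j_k : ∀ j, j < 19 → chkW ((FreeGroup.of Gen.j * FreeGroup.of Gen.k) ^ coxLabel edges Gen.j Gen.k) j = true := by decide +kernel

theorem c_j_a : ∀ j, j < 19 → chkW ((FreeGroup.of Gen.j * FreeGroup.of Gen.a) ^ coxLabel edges Gen.j Gen.a) j = true := by decide +kernel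

theorem c_j_b : ∀ j, j < 19 → chkW ((FreeGroup.of Gen.j * FreeGroup.of Gen.b) ^ coxLabel edges Gen.j Gen.b) j = true := by decide +kernel

theorem c_j_c : ∀ j, j < 19 → chkW ((FreeGroup.of Gen.j * FreeGroup.of Gen.c) ^ coxLabel edges Gen.j Gen.c) j = true := by decide +kernel

theorem c_j_d : ∀ j, j < 19 → chkW ((FreeGroup.of Gen.j * FreeGroup.of Gen.d) ^ coxLabel edges Gen.j Gen.d) j = true := by decide +kernel

theorem c_j_e : ∀ j, j < 19 → chkW ((FreeGroup.of Gen.j * FreeGroup.of Gen.e) ^ coxLabel edges Gen.j Gen.e) j = true := by decide +kernel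

theorem c_j_f : ∀ j, j < 19 → chkW ((FreeGroup.of Gen.j * FreeGroup.of Gen.f) ^ coxLabel edges Gen.j Gen.f) j = true := by decide +kernel

theorem c_j_g : ∀ j, j < 19 → chkW ((FreeGroup.of Gen.j * FreeGroup.of Gen.g) ^ coxLabel edges Gen.j Gen.g) j = true := by decide +kernel

theorem c_j_j : ∀ j, j < 19 → chkW ((FreeGroup.of Gen.j * FreeGroup.of Gen.j) ^ coxLabel edges Gen.j Gen.j) j = true := by decide +kernel

theorem c_j_h : ∀ j, j < 19 → chkW ((FreeGroup.of Gen.j * FreeGroup.of Gen.h) ^ coxLabel edges Gen.j Gen.h) j = true := by decide +kernel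

theorem c_j_i : ∀ j, j < 19 → chkW ((FreeGroup.of Gen.j * FreeGroup.of Gen.i) ^ coxLabel edges Gen.j Gen.i) j = true := by decide +kernel

theorem c_h_l : ∀ j, j < 19 → chkW ((FreeGroup.of Gen.h * FreeGroup.of Gen.l) ^ coxLabel edges Gen.h Gen.l) j = true := by decide +kernel

theorem c_h_k : ∀ j, j < 19 → chkW ((FreeGroup.of Gen.h * FreeGroup.of Gen.k) ^ coxLabel edges Gen.h Gen.k) j = true := by decide +kernel

theorem c_h_a : ∀ j, j < 19 → chkW ((FreeGroup.of Gen.h * FreeGroup.of Gen.a) ^ coxLabel edges Gen.h Gen.a) j = true := by decide +kernel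

theorem c_h_b : ∀ j, j < 19 → chkW ((FreeGroup.of Gen.h * FreeGroup.of Gen.b) ^ coxLabel edges Gen.h Gen.b) j = true := by decide +kernel

theorem c_h_c : ∀ j, j < 19 → chkW ((FreeGroup.of Gen.h * FreeGroup.of Gen.c) ^ coxLabel edges Gen.h Gen.c) j = true := by decide +kernel

theorem c_h_d : ∀ j, j < 19 → chkW ((FreeGroup.of Gen.h * FreeGroup.of Gen.d) ^ coxLabel edges Gen.h Gen.d) j = true := by decide +kernel

theorem c_h_e : ∀ j, j < 19 → chkW ((FreeGroup.of Gen.h * FreeGroup.of Gen.e) ^ coxLabel edges Gen.h Gen.e) j = true := by decide +kernel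

theorem c_h_f : ∀ j, j < 19 → chkW ((FreeGroup.of Gen.h * FreeGroup.of Gen.f) ^ coxLabel edges Gen.h Gen.f) j = true := by decide +kernel

theorem c_h_g : ∀ j, j < 19 → chkW ((FreeGroup.of Gen.h * FreeGroup.of Gen.g) ^ coxLabel edges Gen.h Gen.g) j = true := by decide +kernel

theorem c_h_j : ∀ j, j < 19 → chkW ((FreeGroup.of Gen.h * FreeGroup.of Gen.j) ^ coxLabel edges Gen.h Gen.j) j = true := by decide +kernel

theorem c_h_h : ∀ j, j < 19 → chkW ((FreeGroup.of Gen.h * FreeGroup.of Gen.h) ^ coxLabel edges Gen.h Gen.h) j = true := by decide +kernel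

theorem c_h_i : ∀ j, j < 19 → chkW ((FreeGroup.of Gen.h * FreeGroup.of Gen.i) ^ coxLabel edges Gen.h Gen.i) j = true := by decide +kernel

theorem c_i_l : ∀ j, j < 19 → chkW ((FreeGroup.of Gen.i * FreeGroup.of Gen.l) ^ coxLabel edges Gen.i Gen.l) j = true := by decide +kernel

theorem c_i_k : ∀ j, j < 19 → chkW ((FreeGroup.of Gen.i * FreeGroup.of Gen.k) ^ coxLabel edges Gen.i Gen.k) j = true := by decide +kernel

theorem c_i_a : ∀ j, j < 19 → chkW ((FreeGroup.of Gen.i * FreeGroup.of Gen.a) ^ coxLabel edges Gen.i Gen.a) j = true := by decide +kernel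

theorem c_i_b : ∀ j, j < 19 → chkW ((FreeGroup.of Gen.i * FreeGroup.of Gen.b) ^ coxLabel edges Gen.i Gen.b) j = true := by decide +kernel

theorem c_i_c : ∀ j, j < 19 → chkW ((FreeGroup.of Gen.i * FreeGroup.of Gen.c) ^ coxLabel edges Gen.i Gen.c) j = true := by decide +kernel

theorem c_i_d : ∀ j, j < 19 → chkW ((FreeGroup.of Gen.i * FreeGroup.of Gen.d) ^ coxLabel edges Gen.i Gen.d) j = true := by decide +kernel

theorem c_i_e : ∀ j, j < 19 → chkW ((FreeGroup.of Gen.i * FreeGroup.of Gen.e) ^ coxLabel edges Gen.i Gen.e) j = true := by decide +kernel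

theorem c_i_f : ∀ j, j < 19 → chkW ((FreeGroup.of Gen.i * FreeGroup.of Gen.f) ^ coxLabel edges Gen.i Gen.f) j = true := by decide +kernel

theorem c_i_g : ∀ j, j < 19 → chkW ((FreeGroup.of Gen.i * FreeGroup.of Gen.g) ^ coxLabel edges Gen.i Gen.g) j = true := by decide +kernel

theorem c_i_j : ∀ j, j < 19 → chkW ((FreeGroup.of Gen.i * FreeGroup.of Gen.j) ^ coxLabel edges Gen.i Gen.j) j = true := by decide +kernel

theorem c_i_h : ∀ j, j < 19 → chkW ((FreeGroup.of Gen.i * FreeGroup.of Gen.h) ^ coxLabel edges Gen.i Gen.h) j = true := by decide +kernel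

theorem c_i_i : ∀ j, j < 19 → chkW ((FreeGroup.of Gen.i * FreeGroup.of Gen.i) ^ coxLabel edges Gen.i Gen.i) j = true := by decide +kernel

theorem e_0_s0 : chkW (extra.getD 0 1) 0 = true := by decide +kernel

theorem e_0_s1 : chkW (extra.getD 0 1) 1 = true := by decide +kernel

theorem e_0_s2 : chkW (extra.getD 0 1) 2 = true := by decide +kernel

theorem e_0_s3 : chkW (extra.getD 0 1) 3 = true := by decide +kernel

theorem e_0_s4 : chkW (extra.getD 0 1) 4 = true := by decide +kernel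

theorem e_0_s5 : chkW (extra.getD 0 1) 5 = true := by decide +kernel

theorem e_0_s6 : chkW (extra.getD 0 1) 6 = true := by decide +kernel

theorem e_0_s7 : chkW (extra.getD 0 1) 7 = true := by decide +kernel

theorem e_0_s8 : chkW (extra.getD 0 1) 8 = true := by decide +kernel

theorem e_0_s9 : chkW (extra.getD 0 1) 9 = true := by decide +kernel

theorem e_0_s10 : chkW (extra.getD 0 1) 10 = true := by decide +kernel

theorem e_0_s11 : chkW (extra.getD 0 1) 11 = true := by decide +kernel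

theorem e_0_s12 : chkW (extra.getD 0 1) 12 = true := by decide +kernel

theorem e_0_s13 : chkW (extra.getD 0 1) 13 = true := by decide +kernel

theorem e_0_s14 : chkW (extra.getD 0 1) 14 = true := by decide +kernel

theorem e_0_s15 : chkW (extra.getD 0 1) 15 = true := by decide +kernel

theorem e_0_s16 : chkW (extra.getD 0 1) 16 = true := by decide +kernel

theorem e_0_s17 : chkW (extra.getD 0 1) 17 = true := by decide +kernel

theorem e_0_s18 : chkW (extra.getD 0 1) 18 = true := by decide +kernel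

theorem e_0 : ∀ j, j < 19 → chkW (extra.getD 0 1) j = true := by
  intro j hj
  interval_cases j
  exacts [e_0_s0, e_0_s1, e_0_s2, e_0_s3, e_0_s4, e_0_s5, e_0_s6, e_0_s7, e_0_s8, e_0_s9, e_0_s10, e_0_s11, e_0_s12, e_0_s13, e_0_s14, e_0_s15, e_0_s16, e_0_s17, e_0_s18]

theorem e_1_s0 : chkW (extra.getD 1 1) 0 = true := by decide +kernel

theorem e_1_s1 : chkW (extra.getD 1 1) 1 = true := by decide +kernel

theorem e_1_s2 : chkW (extra.getD 1 1) 2 = true := by decide +kernel

end Cfsg.Agent.TcData.Fi24.I306936
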